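/-
The twelfth parts of the code loop of the length-24 code, and the group of lifts to it of the
stabiliser of the extra point: an extension of that stabiliser by the cocode module.
-/
import Cfsg.Agent.Golay.Perms
import Cfsg.Prelude.Def_Spor_Mathieu

set_option autoImplicit false
set_option maxRecDepth 100000
set_option maxHeartbeats 1000000

namespace CfsgLib.Golay.Cocode23

open Cfsg

/-- Booleans in `ZMod 2`. -/
def bz (b : Bool) : ZMod 2 := bif b then 1 else 0

theorem bz_xor : ∀ a b : Bool, bz (a ^^ b) = bz a + bz b := by decide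
theorem bz_and : ∀ a b : Bool, bz (a && b) = bz a * bz b := by decide
theorem bz_ne : ∀ a : ZMod 2, bz (decide (a ≠ 0)) = a := by decide
theorem bz_eq_one : ∀ a : ZMod 2, bz (decide (a = 1)) = a := by decide
theorem bz_ne' : ∀ a : Bool, decide (bz a ≠ 0) = a := by decide
theorem z2 : ∀ a : ZMod 2, a + a = 0 := by decide

/-- Parity of a family of booleans. -/
def xs {n : ℕ} (f : Fin n → Bool) : Bool :=
  (List.finRange n).foldr (fun i r => f i ^^ r) false

theorem bz_xs {n : ℕ} (f : Fin n → Bool) : bz (xs f) = ∑ i, bz (f i) := by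
  have h : ∀ l : List (Fin n), bz (l.foldr (fun i r => f i ^^ r) false) = (l.map (fun i => bz (f i))).sum := by
    intro l
    induction l with
    | nil => rfl
    | cons a r ih => rw [List.foldr_cons, bz_xor, ih, List.map_cons, List.sum_cons]
  rw [xs, h, ← List.ofFn_eq_map, List.sum_ofFn]

/-! ### Coordinates on the words vanishing at the extra point -/

/-- Coordinate vectors. -/
abbrev V : Type := Fin 11 → ZMod 2

/-- The vector of a mask. -/
def vec (m : ℕ) : V := fun i => bz (m.testBit i.val)

theorem exists_vec (x : V) : ∃ m < 2048, x = vec m :=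
  ⟨Nat.ofBits (fun i : Fin 11 => decide (x i = 1)), Nat.ofBits_lt_two_pow _, funext fun i => by
    rw [vec, Nat.testBit_ofBits_lt _ _ i.isLt]; exact (bz_eq_one _).symm⟩

theorem vec_xor (a b : ℕ) : vec (a ^^^ b) = vec a + vec b :=
  funext fun i => by simp only [vec, Nat.testBit_xor, bz_xor, Pi.add_apply]

theorem vec_zero : vec 0 = 0 := funext fun i => by simp [vec, bz]

/-- The word of a mask. -/
def wordW (m : ℕ) : GolayPt → ZMod 2 := fun p => bz (m.testBit (idx p).val)

theorem wmask_wordW {m : ℕ} (h : m < 2 ^ 24) : wmask (wordW m) = m :=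
  eq_of_testBit_idx (mask_lt _) h fun p => by rw [testBit_wmask, wordW, bz_ne']

theorem wordW_wmask (w : GolayPt → ZMod 2) : wordW (wmask w) = w :=
  funext fun p => by rw [wordW, testBit_wmask, bz_ne]

theorem sum_wordW {m : ℕ} (h : m < 2 ^ 24) : ∑ p, wordW m p = (popc m : ZMod 2) := by
  have h1 : ∀ p, wordW m p = if p ∈ toSet m then 1 else 0 := fun p => by
    simp only [wordW, toSet, Finset.mem_filter, Finset.mem_univ, true_and]
    cases m.testBit (idx p).val <;> rfl
  have h2 : popc m = (toSet m).card := by rw [← popc_mask, mask_toSet h]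
  simp_rw [h1]
  rw [Finset.sum_ite_mem, Finset.univ_inter, Finset.sum_const, nsmul_one, h2]

theorem wordW_mul (a b : ℕ) (p : GolayPt) : wordW (a &&& b) p = wordW a p * wordW b p := by
  simp only [wordW, Nat.testBit_and, bz_and]

/-- The reduced basis masks; the pivot of the `i`-th is `i + 1`. -/
def bm : List ℕ := [4845570, 1302533, 7221256, 6053905, 7417889, 2854977, 2019456, 4038912, 8077824, 7767041, 2422785]

/-- Basis mask. -/
def bmask (i : Fin 11) : ℕ := bm.getD i.val 0

/-- The word with given coordinates. -/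
def e (x : V) : GolayPt → ZMod 2 := fun p => ∑ i, x i * wordW (bmask i) p

/-- The coordinates of a word. -/
def co (w : GolayPt → ZMod 2) : V := fun i => w (pt ⟨i.val + 1, by omega⟩)

theorem pivots : ∀ i j : Fin 11, wordW (bmask j) (pt ⟨i.val + 1, by omega⟩) = if i = j then 1 else 0 := by
  decide +kernel

theorem co_e (x : V) : co (e x) = x :=
  funext fun i => by simp only [co, e, pivots, mul_ite, mul_one, mul_zero, Finset.sum_ite_eq, Finset.mem_univ, if_true]

theorem e_add (x y : V) : e (x + y) = e x + e y :=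
  funext fun p => by simp only [e, Pi.add_apply, add_mul, Finset.sum_add_distrib]

/-- The mask of the word with given coordinates. -/
def encM (m : ℕ) : ℕ :=
  (List.finRange 11).foldr (fun i r => (bif m.testBit i.val then bmask i else 0) ^^^ r) 0

theorem e_vec (m : ℕ) : e (vec m) = wordW (encM m) := by
  funext p
  have h : ∀ l : List (Fin 11),
      wordW (l.foldr (fun i r => (bif m.testBit i.val then bmask i else 0) ^^^ r) 0) p
        = (l.map fun i => vec m i * wordW (bmask i) p).sum := by
    intro l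
    induction l with
    | nil => simp [wordW, bz]
    | cons a r ih =>
      rw [List.foldr_cons, List.map_cons, List.sum_cons, ← ih]
      simp only [wordW, Nat.testBit_xor, bz_xor, vec]
      cases m.testBit a.val <;> simp [bz]
  rw [encM, h, ← List.ofFn_eq_map, List.sum_ofFn, e]

/-- Table of the quadratic forms. -/
def Mt : List (List ℕ) :=
  [[0, 1668, 536, 800, 576, 704, 1536, 512, 1536, 1024, 0],
   [1668, 0, 2040, 1072, 192, 512, 768, 0, 1024, 0, 0],
   [538, 2042, 0, 160, 1088, 320, 0, 1024, 1536, 0, 0],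
   [804, 1076, 160, 0, 608, 1984, 384, 0, 1024, 0, 0],
   [580, 204, 1088, 608, 0, 1088, 1920, 256, 1536, 0, 0],
   [712, 524, 328, 2008, 1088, 0, 0, 256, 1024, 1024, 0],
   [1584, 788, 48, 432, 1968, 0, 0, 512, 1024, 0, 0],
   [546, 20, 1032, 96, 320, 256, 512, 0, 1024, 1024, 0],
   [1544, 1092, 1568, 1120, 1728, 1152, 1024, 1024, 0, 1024, 0],
   [1535, 100, 256, 48, 320, 1024, 128, 1024, 1024, 0, 0],
   [834, 268, 400, 288, 352, 768, 256, 768, 768, 0, 0]]

/-- An entry of the table. -/
def mrow (k i : Fin 11) : ℕ := (Mt.getD k.val []).getD i.val 0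

/-- Parity of an 11-bit mask. -/
def par11 (a : ℕ) : Bool := bif Nat.beq a 0 then false else xs fun j : Fin 11 => a.testBit j.val

theorem bz_par11 (a : ℕ) : bz (par11 a) = ∑ j : Fin 11, bz (a.testBit j.val) := by
  rw [par11]
  cases h : Nat.beq a 0
  · exact bz_xs _
  · rw [Nat.beq_eq] at h; subst h; simp [bz]

/-- The factor set on coordinates. -/
def beta (x y : V) : ZMod 2 :=
  ∑ k, y k * ∑ i, x i * ∑ j, x j * bz ((mrow k i).testBit j.val)

/-- The factor set on masks. -/
def betaB (a b : ℕ) : Bool :=
  xs fun k : Fin 11 => b.testBit k.val && xs fun i : Fin 11 => a.testBit i.val && par11 (a &&& mrow k i)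

theorem beta_vec (a b : ℕ) : beta (vec a) (vec b) = bz (betaB a b) := by
  simp only [beta, betaB, bz_xs, bz_and, bz_par11, vec, Nat.testBit_and]

theorem check_words :
    ((List.range 2048).all fun m => inCode (encM m) && Nat.blt (encM m) 16777216 && !(encM m).testBit 23 &&
      (betaB m m == Nat.beq (popc (encM m)) 12)) = true := by
  decide +kernel

theorem check_code :
    (codeList.all fun m => m.testBit 23 || Nat.beq (encM (m >>> 1)) m) = true := by
  decide +kernel

theorem encM_spec {m : ℕ} (hm : m < 2048) : inCode (encM m) = true ∧ encM m < 2 ^ 24 ∧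
    (encM m).testBit 23 = false ∧ betaB m m = Nat.beq (popc (encM m)) 12 := by
  have h := List.all_eq_true.1 check_words m (List.mem_range.2 hm)
  simp only [Bool.and_eq_true, Nat.blt_eq, Bool.not_eq_true', beq_iff_eq] at h
  exact ⟨h.1.1.1, h.1.1.2, h.1.2, h.2⟩

theorem e_mem (x : V) : e x ∈ golayCode ∧ e x none = 0 := by
  obtain ⟨m, hm, rfl⟩ := exists_vec x
  obtain ⟨h1, h2, h3, -⟩ := encM_spec hm
  refine ⟨?_, ?_⟩
  · rw [e_vec, mem_code_iff, wmask_wordW h2]; exact h1
  · rw [e_vec]; show bz ((encM m).testBit 23) = 0; rw [h3]; rfl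

theorem co_eq_vec (w : GolayPt → ZMod 2) : co w = vec (wmask w >>> 1) := by
  funext i
  have h := testBit_wmask w (pt ⟨i.val + 1, by omega⟩)
  rw [idx_pt] at h
  rw [vec, Nat.testBit_shiftRight, Nat.add_comm, h, co, bz_ne]

theorem e_co {w : GolayPt → ZMod 2} (hw : w ∈ golayCode) (h0 : w none = 0) : e (co w) = w := by
  have h := List.all_eq_true.1 check_code _ (mem_code_iff_list.1 hw)
  have hb : (wmask w).testBit 23 = false := by
    have := testBit_wmask w none
    rw [h0] at this
    simpa [idx] using this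
  rw [hb, Bool.false_or, Nat.beq_eq] at h
  rw [co_eq_vec, e_vec, h, wordW_wmask]

/-- The diagonal of the factor set is a function of the weight. -/
theorem beta_self (x : V) : beta x x = bz (Nat.beq (hammingNorm (e x)) 12) := by
  obtain ⟨m, hm, rfl⟩ := exists_vec x
  obtain ⟨-, h2, -, h4⟩ := encM_spec hm
  rw [beta_vec, h4, e_vec, hammingNorm_eq_popc, wmask_wordW h2]

theorem check_triples :
    ((List.finRange 11).all fun i => (List.finRange 11).all fun j => (List.finRange 11).all fun k =>
      ((mrow k i).testBit j.val ^^ (mrow k j).testBit i.val) ==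
        Nat.beq (popc (bmask i &&& bmask j &&& bmask k) % 2) 1) = true := by
  decide +kernel

theorem bmask_lt : ∀ i : Fin 11, bmask i < 2 ^ 24 := by decide +kernel

theorem triples (i j k : Fin 11) :
    bz ((mrow k i).testBit j.val) + bz ((mrow k j).testBit i.val) =
      ∑ p, wordW (bmask i) p * wordW (bmask j) p * wordW (bmask k) p := by
  have h := check_triples
  simp only [List.all_eq_true, List.mem_finRange, forall_const, beq_iff_eq] at h
  rw [← bz_xor, h i j k]
  simp_rw [← wordW_mul]
  rw [sum_wordW (lt_of_le_of_lt Nat.and_le_left (lt_of_le_of_lt Nat.and_le_left (bmask_lt i)))]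
  generalize popc _ = n
  rw [← ZMod.natCast_mod n 2]
  rcases Nat.mod_two_eq_zero_or_one n with hn | hn <;> rw [hn] <;> rfl

theorem beta_add_right (x y z : V) : beta x (y + z) = beta x y + beta x z := by
  simp only [beta, Pi.add_apply, add_mul, Finset.sum_add_distrib]

theorem triple_expand {ι P : Type*} [Fintype ι] [Fintype P] (W : ι → P → ZMod 2) (x y z : ι → ZMod 2) :
    ∑ p, (∑ i, x i * W i p) * (∑ j, y j * W j p) * (∑ k, z k * W k p)
      = ∑ k, ∑ i, ∑ j, x i * y j * z k * ∑ p, W i p * W j p * W k p := by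
  calc _ = ∑ p, ∑ k, ∑ i, ∑ j, x i * y j * z k * (W i p * W j p * W k p) := by
        refine Finset.sum_congr rfl fun p _ => ?_
        rw [Finset.sum_mul_sum, Finset.mul_sum]
        refine Finset.sum_congr rfl fun k _ => ?_
        rw [Finset.sum_mul]
        refine Finset.sum_congr rfl fun i _ => ?_
        rw [Finset.sum_mul]
        exact Finset.sum_congr rfl fun j _ => by ring
    _ = _ := by
        rw [Finset.sum_comm]
        refine Finset.sum_congr rfl fun k _ => ?_
        rw [Finset.sum_comm]
        refine Finset.sum_congr rfl fun i _ => ?_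
        rw [Finset.sum_comm]
        exact Finset.sum_congr rfl fun j _ => (Finset.mul_sum _ _ _).symm

theorem bilin_expand {ι : Type*} [Fintype ι] [DecidableEq ι]
    (L : (ι → ZMod 2) →ₗ[ZMod 2] (ι → ZMod 2) →ₗ[ZMod 2] ZMod 2) (x y : ι → ZMod 2) :
    L x y = ∑ i, ∑ j, x i * y j * L (Pi.single i 1) (Pi.single j 1) := by
  have h : ∀ v : ι → ZMod 2, v = ∑ i, v i • (Pi.single i 1 : ι → ZMod 2) := fun v => by
    funext j
    simp [Finset.sum_apply, Pi.single_apply]
  conv_lhs => rw [h x, h y]
  simp only [map_sum, map_smul, LinearMap.sum_apply, LinearMap.smul_apply, smul_eq_mul, Finset.mul_sum]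
  exact Finset.sum_comm.trans (Finset.sum_congr rfl fun i _ => Finset.sum_congr rfl fun j _ => by ring)

theorem cubic_add {ι : Type*} [Fintype ι] (N : ι → ι → ι → ZMod 2) (x y z : ι → ZMod 2) :
    (∑ k, z k * ∑ i, (x + y) i * ∑ j, (x + y) j * N k i j)
        + (∑ k, z k * ∑ i, x i * ∑ j, x j * N k i j) + (∑ k, z k * ∑ i, y i * ∑ j, y j * N k i j)
      = ∑ k, ∑ i, ∑ j, x i * y j * z k * (N k i j + N k j i) := by
  simp only [Finset.mul_sum, ← Finset.sum_add_distrib]
  refine Finset.sum_congr rfl fun k _ => ?_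
  have he : ∀ i j, z k * ((x + y) i * ((x + y) j * N k i j)) + z k * (x i * (x j * N k i j))
        + z k * (y i * (y j * N k i j))
      = x i * y j * z k * N k i j + x j * y i * z k * N k i j := by
    intro i j
    simp only [Pi.add_apply]
    linear_combination z2 (z k * (x i * (x j * N k i j))) + z2 (z k * (y i * (y j * N k i j)))
  simp only [he, Finset.sum_add_distrib, mul_add]
  exact congrArg _ Finset.sum_comm

/-- The factor set fails to be additive in the first argument by the triple intersection. -/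
theorem beta_add_left (x y z : V) :
    beta (x + y) z + beta x z + beta y z = ∑ p, e x p * e y p * e z p := by
  have hR : ∑ p, e x p * e y p * e z p
      = ∑ k, ∑ i, ∑ j, x i * y j * z k *
          ∑ p, wordW (bmask i) p * wordW (bmask j) p * wordW (bmask k) p :=
    triple_expand (fun i p => wordW (bmask i) p) x y z
  have hC : beta (x + y) z + beta x z + beta y z = ∑ k, ∑ i, ∑ j, x i * y j * z k *
      (bz ((mrow k i).testBit j.val) + bz ((mrow k j).testBit i.val)) :=
    cubic_add (fun k i j => bz ((mrow k i).testBit j.val)) x y z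
  rw [hR, hC]
  exact Finset.sum_congr rfl fun k _ => Finset.sum_congr rfl fun i _ => Finset.sum_congr rfl fun j _ => by
    rw [triples]

/-- The transport of coordinates along a permutation. -/
def T (σ : Equiv.Perm GolayPt) (x : V) : V := co fun p => e x (σ⁻¹ p)

theorem T_add (σ : Equiv.Perm GolayPt) (x y : V) : T σ (x + y) = T σ x + T σ y := by
  funext i; simp [T, co, e_add]

theorem T_one (x : V) : T 1 x = x := by
  simp only [T, inv_one, Equiv.Perm.coe_one, id_eq]; exact co_e x

theorem inv_none {σ : Equiv.Perm GolayPt} (hσ : σ ∈ Spor.M23) : σ⁻¹ none = none := by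
  have h : σ none = none := MulAction.mem_stabilizer_iff.1 (Subgroup.mem_inf.1 hσ).2
  exact Equiv.Perm.inv_eq_iff_eq.2 h.symm

theorem e_T {σ : Equiv.Perm GolayPt} (hσ : σ ∈ Spor.M23) (x : V) :
    e (T σ x) = fun p => e x (σ⁻¹ p) := by
  refine e_co ?_ ?_
  · exact mem_M24_iff.1 (Subgroup.mem_inf.1 hσ).1 _ (e_mem x).1
  · show e x (σ⁻¹ none) = 0
    rw [inv_none hσ]; exact (e_mem x).2

theorem T_mul {σ τ : Equiv.Perm GolayPt} (hτ : τ ∈ Spor.M23) (x : V) :
    T (σ * τ) x = T σ (T τ x) := by
  simp only [T, mul_inv_rev, Equiv.Perm.mul_apply]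
  have h := e_T hτ x
  simp only [T] at h
  rw [h]

theorem mem_M23_of_tab {g : List ℕ} (hv : validTab g = true) (hp : presTab g = true)
    (h23 : g.getD 23 0 = 23) : permOf g ∈ Spor.M23 := by
  refine Subgroup.mem_inf.2 ⟨permOf_mem_M24 hv hp, MulAction.mem_stabilizer_iff.2 ?_⟩
  exact idx_injective (Fin.ext ((idx_permOf hv none).trans h23))

theorem T_vec {g : List ℕ} (hv : validTab g = true) {m : ℕ} (hm : m < 2048) :
    T (permOf g) (vec m) = vec (actTab g (encM m) >>> 1) := by
  have h2 := (encM_spec hm).2.1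
  rw [T, co_eq_vec, e_vec]
  congr 2
  have h3 := wmask_comp (permOf g) (wordW (encM m))
  rw [mask_smul hv, ← wmask, wmask_wordW h2] at h3
  exact h3

/-! ### The group of lifts -/

/-- The change of the factor set under a permutation. -/
def gam (σ : Equiv.Perm GolayPt) (x y : V) : ZMod 2 := beta (T σ x) (T σ y) + beta x y

theorem gam_add_right (σ : Equiv.Perm GolayPt) (x y z : V) :
    gam σ x (y + z) = gam σ x y + gam σ x z := by
  simp only [gam, T_add, beta_add_right]; ring

theorem gam_add_left {σ : Equiv.Perm GolayPt} (hσ : σ ∈ Spor.M23) (x y z : V) :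
    gam σ (x + y) z = gam σ x z + gam σ y z := by
  have h : beta (T σ (x + y)) (T σ z) + beta (T σ x) (T σ z) + beta (T σ y) (T σ z)
      = beta (x + y) z + beta x z + beta y z := by
    rw [T_add, beta_add_left, beta_add_left, e_T hσ, e_T hσ, e_T hσ]
    exact Equiv.sum_comp σ⁻¹ (fun p => e x p * e y p * e z p)
  simp only [gam]
  linear_combination h + z2 (beta (x + y) z) - z2 (beta (T σ x) (T σ z)) - z2 (beta (T σ y) (T σ z))

theorem gam_self {σ : Equiv.Perm GolayPt} (hσ : σ ∈ Spor.M23) (x : V) : gam σ x x = 0 := by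
  have h : hammingNorm (e (T σ x)) = hammingNorm (e x) := by
    rw [e_T hσ]
    unfold hammingNorm
    exact Finset.card_equiv σ⁻¹ (by simp)
  rw [gam, beta_self, beta_self, h, z2]

theorem gam_comm {σ : Equiv.Perm GolayPt} (hσ : σ ∈ Spor.M23) (x y : V) :
    gam σ x y = gam σ y x := by
  have h := gam_self hσ (x + y)
  rw [gam_add_left hσ, gam_add_right, gam_add_right, gam_self hσ, gam_self hσ] at h
  linear_combination h - z2 (gam σ y x)

/-- A basis vector. -/
def ev (i : Fin 11) : V := Pi.single i 1

theorem expand (x : V) : x = ∑ i, x i • ev i := by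
  funext j
  simp [ev, Finset.sum_apply, Pi.single_apply]

theorem exists_potential {σ : Equiv.Perm GolayPt} (hσ : σ ∈ Spor.M23) :
    ∃ f : V → ZMod 2, ∀ x y, f x + f y + f (x + y) = gam σ x y := by
  let U : V → V → ZMod 2 := fun x y =>
    ∑ i, ∑ j, if i < j then x i * y j * gam σ (ev i) (ev j) else 0
  refine ⟨fun x => U x x, fun x y => ?_⟩
  let L : V →ₗ[ZMod 2] V →ₗ[ZMod 2] ZMod 2 :=
    LinearMap.mk₂ (ZMod 2) (gam σ) (gam_add_left hσ)
      (fun c a b => by
        rcases (by decide : ∀ a : ZMod 2, a = 0 ∨ a = 1) c with rfl | rfl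
        · rw [zero_smul, zero_smul]
          have := gam_add_left hσ 0 0 b
          rw [add_zero] at this
          linear_combination -this
        · rw [one_smul, one_smul])
      (gam_add_right σ)
      (fun c a b => by
        rcases (by decide : ∀ a : ZMod 2, a = 0 ∨ a = 1) c with rfl | rfl
        · rw [zero_smul, zero_smul]
          have := gam_add_right σ a 0 0
          rw [add_zero] at this
          linear_combination -this
        · rw [one_smul, one_smul])
  have hg : gam σ x y = ∑ i, ∑ j, x i * y j * gam σ (ev i) (ev j) := by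
    have := bilin_expand L x y
    simp only [L, LinearMap.mk₂_apply] at this
    exact this
  have hU : U x x + U y y + U (x + y) (x + y) = U x y + U y x := by
    simp only [U, ← Finset.sum_add_distrib]
    refine Finset.sum_congr rfl fun i _ => Finset.sum_congr rfl fun j _ => ?_
    split
    · simp only [Pi.add_apply]
      linear_combination z2 (x i * x j * gam σ (ev i) (ev j)) + z2 (y i * y j * gam σ (ev i) (ev j))
    · simp
  show U x x + U y y + U (x + y) (x + y) = _
  rw [hU, hg]
  have hsw : U y x = ∑ i, ∑ j, if j < i then x i * y j * gam σ (ev i) (ev j) else 0 := by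
    simp only [U]
    rw [Finset.sum_comm]
    refine Finset.sum_congr rfl fun i _ => Finset.sum_congr rfl fun j _ => ?_
    split
    · rw [gam_comm hσ (ev j) (ev i)]; ring
    · rfl
  rw [hsw]
  simp only [U, ← Finset.sum_add_distrib]
  refine Finset.sum_congr rfl fun i _ => Finset.sum_congr rfl fun j _ => ?_
  rcases lt_trichotomy i j with h | rfl | h
  · rw [if_pos h, if_neg (lt_asymm h), add_zero]
  · rw [if_neg (lt_irrefl _), gam_self hσ, mul_zero, add_zero]
  · rw [if_neg (lt_asymm h), if_pos h, zero_add]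

/-- Pairs of a permutation and a potential of the change of the factor set. -/
structure Ext : Type where
  /-- The permutation. -/
  σ : ↥Spor.M23
  /-- The potential. -/
  f : V → ZMod 2
  prop : ∀ x y, f x + f y + f (x + y) = gam σ.1 x y

theorem Ext.ext' {a b : Ext} (h1 : a.σ = b.σ) (h2 : ∀ x, a.f x = b.f x) : a = b := by
  cases a; cases b
  simp only at h1 h2
  subst h1
  obtain rfl := funext h2
  rfl

noncomputable instance : Mul Ext :=
  ⟨fun a b => ⟨a.σ * b.σ, fun x => a.f (T b.σ.1 x) + b.f x, fun x y => by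
    have h1 := a.prop (T b.σ.1 x) (T b.σ.1 y)
    have h2 := b.prop x y
    rw [← T_add] at h1
    simp only [gam] at h1 h2 ⊢
    rw [Subgroup.coe_mul, T_mul b.σ.2, T_mul b.σ.2]
    linear_combination h1 + h2 + z2 (beta (T b.σ.1 x) (T b.σ.1 y))⟩⟩

noncomputable instance : One Ext :=
  ⟨⟨1, fun _ => 0, fun x y => by simp [gam, T_one, z2]⟩⟩

noncomputable instance : Inv Ext :=
  ⟨fun a => ⟨a.σ⁻¹, fun x => a.f (T (a.σ⁻¹).1 x), fun x y => by
    have h1 := a.prop (T (a.σ⁻¹).1 x) (T (a.σ⁻¹).1 y)
    rw [← T_add] at h1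
    simp only [gam] at h1 ⊢
    rw [← T_mul (a.σ⁻¹).2, ← T_mul (a.σ⁻¹).2, Subgroup.coe_inv, mul_inv_cancel, T_one, T_one] at h1
    rw [Subgroup.coe_inv]
    linear_combination h1⟩⟩

theorem mul_σ (a b : Ext) : (a * b).σ = a.σ * b.σ := rfl
theorem mul_f (a b : Ext) (x : V) : (a * b).f x = a.f (T b.σ.1 x) + b.f x := rfl
theorem one_σ : (1 : Ext).σ = 1 := rfl
theorem one_f (x : V) : (1 : Ext).f x = 0 := rfl
theorem inv_σ (a : Ext) : a⁻¹.σ = a.σ⁻¹ := rfl
theorem inv_f (a : Ext) (x : V) : a⁻¹.f x = a.f (T (a.σ⁻¹).1 x) := rfl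

noncomputable instance : Group Ext :=
  Group.ofLeftAxioms
    (fun a b c => Ext.ext' (mul_assoc _ _ _) fun x => by
      simp only [mul_f, mul_σ, Subgroup.coe_mul, T_mul c.σ.2]; ring)
    (fun a => Ext.ext' (one_mul _) fun x => by simp only [mul_f, one_f, zero_add])
    (fun a => Ext.ext' (inv_mul_cancel _) fun x => by
      rw [mul_f, inv_f, ← T_mul a.σ.2, Subgroup.coe_inv, inv_mul_cancel, T_one, z2]; rfl)

instance : Finite Ext :=
  Finite.of_injective (fun a : Ext => (a.σ, a.f)) fun a b h =>
    Ext.ext' (congrArg Prod.fst h) (fun x => congrFun (congrArg Prod.snd h) x)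

/-- The projection. -/
noncomputable def proj : Ext →* ↥Spor.M23 where
  toFun := Ext.σ
  map_one' := rfl
  map_mul' _ _ := rfl

theorem proj_surjective : Function.Surjective proj := fun σ =>
  ⟨⟨σ, (exists_potential σ.2).choose, (exists_potential σ.2).choose_spec⟩, rfl⟩

theorem f_zero (a : Ext) : a.f 0 = 0 := by
  have h := a.prop 0 0
  rw [add_zero, gam_self a.σ.2] at h
  linear_combination h - z2 (a.f 0)

/-- A step of adding up values of a potential. -/
theorem f_step (a : Ext) {g : List ℕ} (hg : a.σ.1 = permOf g) (hv : validTab g = true) (s x : ℕ)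
    {c : ZMod 2} (hs : s < 2048) (hx : x < 2048)
    (hc : bz (betaB (actTab g (encM s) >>> 1) (actTab g (encM x) >>> 1)) + bz (betaB s x) = c) :
    a.f (vec s) + a.f (vec x) = a.f (vec (s ^^^ x)) + c := by
  have h := a.prop (vec s) (vec x)
  rw [gam, hg, T_vec hv hs, T_vec hv hx, beta_vec, beta_vec, hc, ← vec_xor] at h
  linear_combination h - z2 (a.f (vec (s ^^^ x)))

/-! ### The kernel -/

theorem wmask_inner (v w : GolayPt → ZMod 2) :
    ∑ p, v p * w p = (popc (wmask v &&& wmask w) : ZMod 2) := by
  rw [← sum_wordW (m := wmask v &&& wmask w) (lt_of_le_of_lt Nat.and_le_left (mask_lt _))]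
  simp_rw [wordW_mul, wordW_wmask]

theorem check_orth :
    (basis.all fun a => codeList.all fun b => Nat.beq (popc (a.2 &&& b) % 2) 0) = true := by
  decide +kernel

theorem check_dual :
    ((List.range 4096).all fun k => Nat.beq k 0 ||
      !(basis.all fun a => Nat.beq (popc (a.2 &&& (k * 4096)) % 2) 0)) = true := by
  decide +kernel

theorem cast_popc (n : ℕ) : (n : ZMod 2) = 0 ↔ n % 2 = 0 := by
  rw [ZMod.natCast_eq_zero_iff, Nat.dvd_iff_mod_eq_zero]

theorem orth_basis {a : ℕ × ℕ} (ha : a ∈ basis) {v w : GolayPt → ZMod 2} (hv : wmask v = a.2)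
    (hw : w ∈ golayCode) : ∑ p, v p * w p = 0 := by
  have h := List.all_eq_true.1 (List.all_eq_true.1 check_orth a ha) _ (mem_code_iff_list.1 hw)
  rw [wmask_inner, cast_popc, hv]
  rwa [Nat.beq_eq] at h

theorem mem_code_of_orth {w : GolayPt → ZMod 2}
    (h : ∀ v ∈ golayCode, ∑ p, v p * w p = 0) : w ∈ golayCode := by
  set m := wmask w
  obtain ⟨c, hc, hcm⟩ := exists_word_of_allSums basis exists_word_basis _ (enc_mem_allSums basis m)
  have hlt : enc basis m < 2 ^ 24 := hcm ▸ mask_lt _
  have hlow : ∀ i < 12, (m ^^^ enc basis m).testBit i = false := by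
    intro i hi
    have key : ∀ l : List (ℕ × ℕ), (l.Pairwise fun a b => a.1 ≠ b.1) →
        (∀ a ∈ l, ∀ j < 12, a.2.testBit j = decide (j = a.1)) →
        (enc l m).testBit i = (l.any (fun a => decide (a.1 = i)) && m.testBit i) := by
      intro l
      induction l with
      | nil => intros; simp [enc]
      | cons a r ih =>
        obtain ⟨p, b⟩ := a
        intro h1 h2
        rw [List.pairwise_cons] at h1
        rw [enc, Nat.testBit_xor, ih h1.2 fun a ha => h2 a (List.mem_cons_of_mem _ ha), List.any_cons]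
        have hb := h2 (p, b) List.mem_cons_self i hi
        by_cases hp : p = i
        · subst hp
          have : (r.any fun a => decide (a.1 = p)) = false := by
            simp only [List.any_eq_false, decide_eq_true_eq]
            exact fun a ha => (h1.1 a ha).symm
          rw [this]
          cases hm : m.testBit p <;> simp [hb, hm]
        · have hpb : decide (i = p) = false := decide_eq_false (Ne.symm hp)
          cases hm : m.testBit p <;> simp [hb, hp, hpb]
    rw [Nat.testBit_xor, key basis (by decide +kernel) (by decide +kernel)]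
    have : (basis.any fun a => decide (a.1 = i)) = true :=
      (by decide +kernel : ∀ j < 12, (basis.any fun a => decide (a.1 = j)) = true) i hi
    rw [this, Bool.true_and, Bool.xor_self]
  have hx : wmask (w + c) = m ^^^ enc basis m := by rw [wmask_add, hcm]
  obtain ⟨k, hk⟩ : ∃ k, m ^^^ enc basis m = k * 4096 := by
    refine ⟨(m ^^^ enc basis m) >>> 12, Nat.eq_of_testBit_eq fun i => ?_⟩
    rw [show (4096 : ℕ) = 2 ^ 12 from rfl, ← Nat.shiftLeft_eq, Nat.testBit_shiftLeft]
    by_cases hi : i < 12
    · rw [hlow i hi]; simp [hi]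
    · simp only [Nat.testBit_shiftRight]
      simp [Nat.add_sub_cancel' (not_lt.1 hi), not_lt.1 hi]
  have hk' : k < 4096 := by
    have : m ^^^ enc basis m < 2 ^ 24 := Nat.xor_lt_two_pow (mask_lt _) hlt
    omega
  have hz := List.all_eq_true.1 check_dual k (List.mem_range.2 hk')
  have horth : (basis.all fun a => Nat.beq (popc (a.2 &&& (k * 4096)) % 2) 0) = true := by
    refine List.all_eq_true.2 fun a ha => ?_
    rw [Nat.beq_eq]
    obtain ⟨v, hv, hvm⟩ := exists_word_basis a ha
    rw [← cast_popc, ← hk, ← hx, ← hvm, ← wmask_inner]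
    simp only [Pi.add_apply, mul_add, Finset.sum_add_distrib, h v hv, orth_basis ha hvm hc, add_zero]
  rw [horth, Bool.not_true, Bool.or_false, Nat.beq_eq] at hz
  rw [mem_code_iff]
  have : m = enc basis m := by
    have h0 : m ^^^ enc basis m = 0 := by rw [hk, hz, zero_mul]
    exact Nat.xor_eq_zero_iff.1 h0
  exact inCode_iff.2 this.symm

theorem orth_code {v w : GolayPt → ZMod 2} (hv : v ∈ golayCode) (hw : w ∈ golayCode) :
    ∑ p, v p * w p = 0 := by
  have lin : ∀ l : List (ℕ × ℕ), (∀ a ∈ l, a ∈ basis) → ∀ m ∈ allSums l,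
      ∀ u : GolayPt → ZMod 2, wmask u = m → ∑ p, u p * w p = 0 := by
    intro l
    induction l with
    | nil =>
      intro _ m hm u hu
      simp [allSums] at hm; subst hm
      rw [← wmask_zero] at hu
      simp [wmask_injective hu]
    | cons a r ih =>
      obtain ⟨p, b⟩ := a
      intro hl m hm u hu
      have ih' := ih fun a ha => hl a (List.mem_cons_of_mem _ ha)
      simp only [allSums, List.mem_append, List.mem_map] at hm
      rcases hm with hm | ⟨x, hx, rfl⟩
      · exact ih' m hm u hu
      · obtain ⟨c, -, hc⟩ := exists_word_basis (p, b) (hl _ List.mem_cons_self)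
        have h1 : wmask (u + c) = x := by
          rw [wmask_add, hu, hc, Nat.xor_comm, ← Nat.xor_assoc, Nat.xor_self, Nat.zero_xor]
        have h2 := ih' x hx (u + c) h1
        simp only [Pi.add_apply, add_mul, Finset.sum_add_distrib, orth_basis (hl _ List.mem_cons_self) hc hw,
          add_zero] at h2
        exact h2
  exact lin basis (fun _ h => h) _ (mem_code_iff_list.1 hv) v rfl

theorem kernel_iff (w : GolayPt → ZMod 2) :
    (∀ x : V, ∑ p, e x p * w p = 0) ↔ (w ∈ golayCode ∨ w + Pi.single none 1 ∈ golayCode) := by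
  have hsing : ∀ v : GolayPt → ZMod 2, ∑ p, v p * (Pi.single none 1 : GolayPt → ZMod 2) p = v none := fun v => by
    simp [Pi.single_apply]
  constructor
  · intro h
    obtain ⟨a, ha, hab⟩ := exists_word_basis (0, 13062145) (by decide)
    have ha1 : a none = 1 := by
      have := testBit_wmask a none
      rw [hab, show (idx none).val = 23 from rfl,
        show Nat.testBit 13062145 23 = true from by decide +kernel] at this
      have h1 : a none ≠ 0 := of_decide_eq_true this.symm
      exact (by decide : ∀ z : ZMod 2, z ≠ 0 → z = 1) _ h1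
    have key : ∀ u : GolayPt → ZMod 2, (∀ x : V, ∑ p, e x p * u p = 0) → ∑ p, a p * u p = 0 →
        u ∈ golayCode := by
      intro u hu hau
      refine mem_code_of_orth fun v hv => ?_
      rcases (by decide : ∀ z : ZMod 2, z = 0 ∨ z = 1) (v none) with h0 | h1
      · rw [← e_co hv h0]; exact hu _
      · have h2 := hu (co (v + a))
        rw [e_co (add_mem hv ha) (by simp [h1, ha1, z2])] at h2
        simp only [Pi.add_apply, add_mul, Finset.sum_add_distrib, hau, add_zero] at h2
        exact h2
    rcases (by decide : ∀ z : ZMod 2, z = 0 ∨ z = 1) (∑ p, a p * w p) with h0 | h1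
    · exact Or.inl (key w h h0)
    · refine Or.inr (key _ (fun x => ?_) ?_)
      · simp only [Pi.add_apply, mul_add, Finset.sum_add_distrib, h x, hsing, (e_mem x).2, add_zero]
      · simp only [Pi.add_apply, mul_add, Finset.sum_add_distrib, h1, hsing, ha1, z2]
  · rintro (h | h) x
    · exact orth_code (e_mem x).1 h
    · have h2 := orth_code (e_mem x).1 h
      simp only [Pi.add_apply, mul_add, Finset.sum_add_distrib, hsing, (e_mem x).2, add_zero] at h2
      exact h2

/-- The functional given by a word, as an element of the group. -/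
noncomputable def lift (w : GolayPt → ZMod 2) : Ext :=
  ⟨1, fun x => ∑ p, e x p * w p, fun x y => by
    simp only [gam, Subgroup.coe_one, T_one, z2, e_add, Pi.add_apply, add_mul, Finset.sum_add_distrib]⟩

theorem lift_add (v w : GolayPt → ZMod 2) : lift (v + w) = lift v * lift w :=
  Ext.ext' (one_mul _).symm fun x => by
    simp only [mul_f, lift, Subgroup.coe_one, T_one, Pi.add_apply, mul_add, Finset.sum_add_distrib]

theorem lift_mem (w : GolayPt → ZMod 2) : lift w ∈ proj.ker := MonoidHom.mem_ker.2 rfl

/-- The map of words onto the kernel. -/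
noncomputable def theta : (GolayPt → ZMod 2) →+ Additive ↥(proj.ker) :=
  AddMonoidHom.mk' (fun w => Additive.ofMul ⟨lift w, lift_mem w⟩) fun v w =>
    congrArg Additive.ofMul (Subtype.ext (lift_add v w))

theorem theta_coe (w : GolayPt → ZMod 2) : ((theta w).toMul : Ext) = lift w := rfl

theorem theta_surjective : Function.Surjective theta := by
  intro a
  obtain ⟨⟨n, hn⟩, rfl⟩ := Additive.ofMul.surjective a
  have hσ : n.σ = 1 := MonoidHom.mem_ker.1 hn
  have hadd : ∀ x y, n.f (x + y) = n.f x + n.f y := fun x y => by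
    have h := n.prop x y
    rw [hσ] at h
    simp only [gam, Subgroup.coe_one, T_one, z2] at h
    linear_combination h - z2 (n.f x) - z2 (n.f y)
  refine ⟨∑ i, n.f (ev i) • (Pi.single (pt ⟨i.val + 1, by omega⟩) 1 : GolayPt → ZMod 2), ?_⟩
  refine congrArg Additive.ofMul (Subtype.ext (Ext.ext' hσ.symm fun x => ?_))
  show ∑ p, e x p * _ = n.f x
  simp only [Finset.sum_apply, Pi.smul_apply, smul_eq_mul, Finset.mul_sum, Pi.single_apply, mul_ite, mul_one,
    mul_zero]
  rw [Finset.sum_comm]
  simp only [Finset.sum_ite_eq', Finset.mem_univ, if_true]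
  have hco : ∀ i : Fin 11, e x (pt ⟨i.val + 1, by omega⟩) = x i := fun i => congrFun (co_e x) i
  simp only [hco]
  let L : V →+ ZMod 2 := AddMonoidHom.mk' n.f hadd
  show ∑ i, x i * L (ev i) = L x
  conv_rhs => rw [expand x, map_sum]
  refine Finset.sum_congr rfl fun i _ => ?_
  rcases (by decide : ∀ z : ZMod 2, z = 0 ∨ z = 1) (x i) with hi | hi <;> simp [hi]

theorem theta_eq_zero (w : GolayPt → ZMod 2) :
    theta w = 0 ↔ (w ∈ golayCode ∨ w + Pi.single none 1 ∈ golayCode) := by
  rw [← kernel_iff]
  constructor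
  · intro h x
    have h2 := congrArg (fun t : Additive ↥(proj.ker) => ((t.toMul : ↥(proj.ker)) : Ext).f x) h
    simpa [theta_coe, lift, one_f] using h2
  · intro h
    exact congrArg Additive.ofMul (Subtype.ext (Ext.ext' rfl fun x => h x))

theorem theta_conj (g : Ext) (w : GolayPt → ZMod 2) :
    lift (w ∘ ⇑((g.σ : Equiv.Perm GolayPt)⁻¹)) = g * lift w * g⁻¹ := by
  refine Ext.ext' ?_ fun x => ?_
  · rw [mul_σ, mul_σ, inv_σ]; show (1 : ↥Spor.M23) = g.σ * 1 * g.σ⁻¹; group
  · rw [mul_f, mul_f, inv_f, inv_σ]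
    show ∑ p, e x p * w ((g.σ : Equiv.Perm GolayPt)⁻¹ p) =
      g.f (T ((1 : ↥Spor.M23) : Equiv.Perm GolayPt) (T (g.σ⁻¹).1 x)) + ∑ p, e (T (g.σ⁻¹).1 x) p * w p
        + g.f (T (g.σ⁻¹).1 x)
    rw [Subgroup.coe_one, T_one, e_T (g.σ⁻¹).2]
    rw [← Equiv.sum_comp (g.σ : Equiv.Perm GolayPt) (fun p => e x p * w ((g.σ : Equiv.Perm GolayPt)⁻¹ p))]
    simp only [Subgroup.coe_inv, inv_inv, Equiv.Perm.coe_inv, Equiv.symm_apply_apply]
    linear_combination -z2 (g.f (T ((g.σ : Equiv.Perm GolayPt)⁻¹) x))

end CfsgLib.Golay.Cocode23
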