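/-
Data for the stabiliser chain of the group of the code: a straight-line program over the three
standard generators, and transversals.
-/
import Cfsg.Agent.Golay.Perms

set_option autoImplicit false

namespace CfsgLib.Golay

/-- Tables of the translation, the inversion and the cube twist. -/
def gen0 : List ℕ := [1, 2, 3, 4, 5, 6, 7, 8, 9, 10, 11, 12, 13, 14, 15, 16, 17, 18, 19, 20, 21, 22, 0, 23]
/-- The inversion. -/
def gen1 : List ℕ := [23, 22, 11, 15, 17, 9, 19, 13, 20, 5, 16, 2, 21, 7, 18, 3, 10, 4, 14, 6, 8, 12, 1, 0]
/-- The cube twist. -/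
def gen2 : List ℕ := [0, 18, 6, 3, 2, 21, 1, 5, 16, 12, 7, 19, 8, 9, 17, 15, 13, 11, 4, 22, 10, 20, 14, 23]

/-- Straight-line program: each pair multiplies two earlier entries. -/
def slpSteps : List (ℕ × ℕ) :=
  [(0, 0), (3, 0), (4, 0), (5, 0), (6, 0), (7, 0), (8, 0), (9, 0), (10, 0), (11, 0),
   (12, 0), (13, 0), (14, 0), (15, 0), (16, 0), (17, 0), (18, 0), (19, 0), (20, 0), (21, 0),
   (22, 0), (23, 0), (2, 2), (1, 0), (25, 26), (25, 1), (27, 28), (2, 0), (29, 30), (31, 3),
   (28, 30), (32, 33), (33, 0), (34, 35), (26, 35), (36, 37), (26, 3), (38, 39), (30, 26), (40, 41),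
   (42, 4), (4, 33), (43, 44), (44, 2), (45, 46), (0, 25), (47, 48), (41, 44), (49, 50), (1, 30),
   (51, 52), (52, 25), (53, 54), (52, 54), (55, 56), (46, 48), (57, 58), (4, 30), (59, 60), (54, 56),
   (61, 62), (37, 50), (63, 64), (58, 62), (65, 66), (56, 39), (67, 68), (30, 64), (69, 70), (37, 62),
   (71, 72), (68, 37), (73, 74), (70, 68), (75, 76), (76, 60), (77, 78), (41, 70), (79, 80), (78, 76),
   (81, 82), (39, 72), (83, 84), (76, 72), (85, 86), (80, 86), (87, 88), (66, 82), (89, 90), (74, 84),
   (91, 92), (86, 88), (93, 94), (92, 30), (95, 96), (96, 66), (97, 98), (96, 90), (99, 100), (96, 48),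
   (101, 102), (98, 74), (103, 104), (48, 41), (105, 106), (74, 104), (107, 108), (41, 104), (109, 110), (108, 72),
   (111, 112), (30, 110), (113, 114), (114, 102), (115, 116), (102, 88), (117, 118), (118, 110), (119, 120), (0, 1),
   (0, 122), (1, 122), (2, 122), (1, 123), (2, 125), (0, 126), (1, 128), (106, 94), (121, 130), (129, 129),
   (129, 132), (132, 132), (134, 134), (133, 135), (136, 131), (137, 1), (0, 138), (137, 138), (137, 124), (1, 139),
   (137, 137), (137, 143), (137, 144), (137, 145), (137, 146), (137, 147), (137, 148), (137, 149), (137, 150), (137, 151),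
   (137, 152), (137, 153), (137, 154), (137, 155), (137, 156), (137, 157), (137, 158), (137, 159), (137, 160), (137, 161),
   (137, 162), (112, 110), (131, 164), (142, 142), (166, 166), (142, 167), (168, 165), (152, 169), (170, 122), (170, 123),
   (170, 137), (170, 143), (170, 173), (137, 174), (170, 170), (104, 108), (165, 178), (141, 141), (180, 180), (181, 181),
   (182, 182), (181, 183), (184, 179), (163, 185), (186, 123), (186, 137), (186, 143), (170, 188), (186, 170), (170, 186),
   (186, 177), (170, 191), (170, 194), (186, 195), (170, 196), (164, 110), (179, 198), (127, 127), (200, 200), (200, 201),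
   (202, 199), (190, 190), (204, 204), (204, 205), (205, 205), (206, 207), (208, 203), (197, 197), (197, 210), (211, 209),
   (212, 122), (0, 213), (212, 137), (212, 173), (212, 186), (212, 177), (170, 217), (130, 120), (199, 220), (214, 214),
   (222, 222), (214, 223), (223, 223), (224, 225), (226, 221), (216, 216), (228, 228), (229, 229), (228, 230), (231, 227),
   (219, 219), (233, 233), (233, 234), (235, 232), (236, 122), (236, 143), (236, 173), (236, 188), (236, 170), (170, 241),
   (186, 241), (236, 241), (236, 212), (212, 236), (236, 236), (236, 245), (236, 247), (198, 100), (221, 250), (172, 172),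
   (252, 252), (253, 253), (252, 254), (255, 251), (176, 176), (257, 257), (257, 258), (258, 258), (260, 260), (259, 261),
   (262, 256), (218, 218), (264, 264), (265, 263), (249, 266), (267, 122), (267, 215), (267, 170), (267, 186), (267, 241),
   (236, 270), (267, 236), (267, 245), (267, 247), (267, 274), (236, 275), (267, 267), (267, 279), (94, 88), (251, 281),
   (139, 139), (283, 283), (283, 284), (284, 284), (285, 286), (287, 282), (273, 273), (289, 289), (290, 288), (247, 291),
   (292, 122), (292, 124), (292, 137), (292, 143), (292, 173), (170, 295), (292, 295), (292, 170), (292, 186), (236, 300),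
   (292, 212), (292, 245), (267, 303), (292, 246), (292, 267), (267, 292), (267, 307), (292, 307), (267, 310), (292, 311),
   (281, 178), (282, 313), (287, 314), (188, 188), (316, 316), (188, 317), (318, 315), (300, 300), (320, 320), (321, 319),
   (275, 275), (323, 323), (323, 324), (325, 322), (311, 311), (327, 327), (328, 326), (329, 143), (329, 186), (329, 279),
   (329, 308), (292, 332), (329, 329), (250, 88), (314, 336), (126, 126), (338, 338), (338, 339), (339, 339), (341, 341),
   (340, 342), (343, 337), (239, 239), (345, 345), (345, 346), (347, 344), (321, 348), (325, 349), (279, 350), (351, 122),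
   (351, 138), (351, 137), (351, 246), (351, 292), (351, 279), (267, 357), (351, 309), (351, 329), (329, 351), (351, 335),
   (329, 360), (329, 361), (351, 361), (359, 359), (366, 366), (367, 312), (363, 368), (369, 138), (369, 124), (369, 137),
   (369, 173), (137, 372), (369, 170), (369, 186), (369, 177), (369, 236), (369, 245), (369, 303), (292, 378), (369, 267),
   (369, 292), (292, 382), (369, 356), (329, 383), (369, 383), (369, 329), (369, 351), (369, 360), (351, 388), (369, 361),
   (351, 389), (369, 369)]

/-- Indices of the base points. -/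
def baseIdx : List ℕ := [23, 0, 2, 4, 5, 1, 6]

/-- The mask of the octad through the first five base points. -/
def octO : ℕ := 8391797

/-- Transversals: at each level a list of (image index, entry of the program). -/
def transv : List (List (ℕ × ℕ)) :=
  [[(0, 1), (1, 122), (2, 123), (3, 171), (4, 127), (5, 294), (6, 293), (7, 140), (8, 352), (9, 370),
   (10, 237), (11, 126), (12, 268), (13, 187), (14, 172), (15, 213), (16, 371), (17, 353), (18, 125), (19, 138),
   (20, 139), (21, 141), (22, 124), (23, 24)],
   [(0, 24), (1, 144), (2, 298), (3, 215), (4, 239), (5, 299), (6, 240), (7, 143), (8, 188), (9, 372),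
   (10, 269), (11, 374), (12, 173), (13, 175), (14, 238), (15, 296), (16, 297), (17, 354), (18, 330), (19, 137),
   (20, 189), (21, 373), (22, 295)],
   [(1, 300), (2, 24), (3, 375), (4, 193), (5, 244), (6, 243), (7, 191), (8, 273), (9, 331), (10, 302),
   (11, 301), (12, 377), (13, 186), (14, 170), (15, 271), (16, 272), (17, 192), (18, 241), (19, 242), (20, 177),
   (21, 270), (22, 376)],
   [(1, 381), (3, 247), (4, 24), (5, 212), (6, 278), (7, 248), (8, 275), (9, 379), (10, 276), (11, 305),
   (12, 246), (13, 274), (14, 378), (15, 277), (16, 306), (17, 236), (18, 355), (19, 245), (20, 380), (21, 303),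
   (22, 304)],
   [(1, 384), (3, 357), (5, 24), (6, 333), (7, 386), (8, 309), (9, 332), (10, 358), (11, 308), (12, 387),
   (13, 279), (14, 382), (15, 280), (16, 385), (17, 267), (18, 334), (19, 307), (20, 383), (21, 292), (22, 356)],
   [(1, 24), (3, 329), (7, 389), (8, 351), (9, 363), (12, 361), (13, 360), (14, 335), (15, 393), (16, 364),
   (17, 388), (18, 365), (19, 391), (20, 362), (21, 392), (22, 390)],
   [(6, 24), (10, 369), (11, 394)]]

/-- Indices of strong generators of each level. -/
def strongIdx : List (List ℕ) := [[0, 1, 2], [137], [170, 186], [212, 236], [267, 292], [329, 351], [369]]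

end CfsgLib.Golay
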