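/-
Suborbit certificates for families of subsets of the 24 points.

A family is a `Finset (Finset GolayPt)`, represented by a list of masks.  A certificate consists of
generators fixing a base family and, for each class, a root and a spanning tree; distinct hashes of
all the keys prove that the classes exhaust any invariant set of at most that cardinality.
-/
import Cfsg.Agent.Golay.Orbit

set_option autoImplicit false

namespace CfsgLib.Golay

open Cfsg
open scoped Pointwise

theorem BitTrie.has_ins_self : ∀ (d : ℕ) (t : BitTrie) (w : ℕ), (t.ins d w).has d w = true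
  | 0, _, _ => rfl
  | d + 1, t, w => by
    rcases Nat.mod_two_eq_zero_or_one w with hw | hw <;>
      simp [BitTrie.ins, BitTrie.has, hw, BitTrie.has_ins_self d]

theorem BitTrie.has_ins_mono : ∀ (d : ℕ) (t : BitTrie) (w v : ℕ),
    t.has d v = true → (t.ins d w).has d v = true
  | 0, _, _, _, _ => rfl
  | d + 1, t, w, v, h => by
    cases t with
    | none => simp [BitTrie.has] at h
    | leaf => simp [BitTrie.has] at h
    | br l r =>
      rcases Nat.mod_two_eq_zero_or_one w with hw | hw <;>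
        rcases Nat.mod_two_eq_zero_or_one v with hv | hv <;>
          simp [BitTrie.ins, BitTrie.has, BitTrie.left, BitTrie.right, hw, hv] at h ⊢
      · exact BitTrie.has_ins_mono d l _ _ h
      · exact h
      · exact h
      · exact BitTrie.has_ins_mono d r _ _ h

/-- `BitTrie.ins` by the bare recursor. -/
noncomputable def BitTrie.insRec (d : ℕ) : BitTrie → ℕ → BitTrie :=
  @Nat.rec (fun _ => BitTrie → ℕ → BitTrie) (fun _ _ => .leaf)
    (fun _ ih t w => bif Nat.beq (Nat.mod w 2) 1 then .br t.left (ih t.right (Nat.div w 2))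
      else .br (ih t.left (Nat.div w 2)) t.right) d

/-- `BitTrie.has` by the bare recursor. -/
noncomputable def BitTrie.hasRec (d : ℕ) : BitTrie → ℕ → Bool :=
  @Nat.rec (fun _ => BitTrie → ℕ → Bool)
    (fun t _ => @BitTrie.rec (fun _ => Bool) false true (fun _ _ _ _ => false) t)
    (fun _ ih t v => @BitTrie.rec (fun _ => Bool) false false
      (fun l r _ _ => bif Nat.beq (Nat.mod v 2) 1 then ih r (Nat.div v 2) else ih l (Nat.div v 2)) t) d

theorem BitTrie.insRec_eq : ∀ (d : ℕ) (t : BitTrie) (w : ℕ), t.insRec d w = t.ins d w := by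
  intro d
  induction d with
  | zero => intro t w; rfl
  | succ d ih =>
    intro t w
    show (bif Nat.beq (w % 2) 1 then BitTrie.br t.left (BitTrie.insRec d t.right (w / 2))
      else .br (BitTrie.insRec d t.left (w / 2)) t.right) = _
    rcases Nat.mod_two_eq_zero_or_one w with h | h <;> simp [h, ih, BitTrie.ins] <;> rfl

theorem BitTrie.hasRec_eq : ∀ (d : ℕ) (t : BitTrie) (v : ℕ), BitTrie.hasRec d t v = BitTrie.has d t v := by
  intro d
  induction d with
  | zero => intro t v; cases t <;> rfl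
  | succ d ih =>
    intro t v
    cases t with
    | none => rfl
    | leaf => rfl
    | br l r =>
      show (bif Nat.beq (v % 2) 1 then BitTrie.hasRec d r (v / 2) else BitTrie.hasRec d l (v / 2)) = _
      rcases Nat.mod_two_eq_zero_or_one v with h | h <;> simp [h, ih, BitTrie.has] <;> rfl

namespace Suborb

/-- Families of subsets. -/
abbrev Fam := Finset (Finset GolayPt)

/-- No repetition among numbers below `2 ^ 24`. -/
noncomputable def nodupAux (t : BitTrie) (l : List ℕ) : Bool :=
  @List.rec ℕ (fun _ => BitTrie → Bool) (fun _ => true)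
    (fun w _ ih t => Nat.blt w 16777216 && !(BitTrie.hasRec 24 t w) && ih (BitTrie.insRec 24 t w)) l t

theorem nodupAux_cons (t : BitTrie) (w : ℕ) (r : List ℕ) : nodupAux t (w :: r) =
    (Nat.blt w 16777216 && !(t.has 24 w) && nodupAux (t.ins 24 w) r) := by
  rw [← BitTrie.hasRec_eq, ← BitTrie.insRec_eq]; rfl

theorem nodupAux_spec : ∀ (l : List ℕ) (t : BitTrie), nodupAux t l = true →
    l.Nodup ∧ ∀ x ∈ l, t.has 24 x = false
  | [], _, _ => ⟨List.nodup_nil, by simp⟩
  | w :: r, t, h => by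
    simp only [nodupAux_cons, Bool.and_eq_true, Bool.not_eq_true'] at h
    obtain ⟨⟨-, h2⟩, h3⟩ := h
    obtain ⟨ih1, ih2⟩ := nodupAux_spec r _ h3
    refine ⟨List.nodup_cons.2 ⟨fun hw => ?_, ih1⟩, fun x hx => ?_⟩
    · have := ih2 w hw
      rw [BitTrie.has_ins_self] at this
      simp at this
    · rcases List.mem_cons.1 hx with rfl | hx
      · exact h2
      · cases hh : t.has 24 x with
        | false => rfl
        | true =>
          have := BitTrie.has_ins_mono 24 t w x hh
          rw [ih2 x hx] at this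
          simp at this

/-- A small list of masks without repetition. -/
def goodRep : List ℕ → Bool
  | [] => true
  | m :: r => Nat.blt m 16777216 && !(r.any fun x => Nat.beq m x) && goodRep r

theorem goodRep_spec : ∀ l : List ℕ, goodRep l = true → l.Nodup ∧ ∀ m ∈ l, m < 2 ^ 24
  | [], _ => by simp
  | m :: r, h => by
    simp only [goodRep, Bool.and_eq_true, Bool.not_eq_true', List.any_eq_false, Nat.beq_eq] at h
    obtain ⟨h1, h2⟩ := goodRep_spec r h.2
    refine ⟨List.nodup_cons.2 ⟨fun hm => h.1.2 m hm rfl, h1⟩, fun x hx => ?_⟩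
    rcases List.mem_cons.1 hx with rfl | hx
    · exact of_blt h.1.1
    · exact h2 x hx

/-- The family of a list of masks. -/
def fam (l : List ℕ) : Fam := (l.map toSet).toFinset

theorem toSet_injOn {l : List ℕ} (hl : ∀ m ∈ l, m < 2 ^ 24) {x : ℕ} (hx : x ∈ l) {y : ℕ}
    (hy : y ∈ l) (h : toSet x = toSet y) : x = y := by
  rw [← mask_toSet (hl x hx), h, mask_toSet (hl y hy)]

theorem nodup_toSet {l : List ℕ} (h : goodRep l = true) : (l.map toSet).Nodup :=
  (goodRep_spec l h).1.map_on fun _ hx _ hy e => toSet_injOn (goodRep_spec l h).2 hx hy e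

/-- Evaluation of a symmetric sum over a family. -/
theorem sum_fam {l : List ℕ} (h : goodRep l = true) (f : Finset GolayPt → ℕ) :
    ∑ a ∈ fam l, f a = (l.map fun m => f (toSet m)).sum := by
  rw [fam, List.sum_toFinset _ (nodup_toSet h), List.map_map]
  rfl

/-- Numeric hash of a list of masks. -/
def famHash (M : ℕ) (l : List ℕ) : ℕ := (l.map fun m => m * m * m).sum % M

/-- Numeric hash of a family. -/
def hashOf (M : ℕ) (A : Fam) : ℕ := (∑ a ∈ A, mask a * mask a * mask a) % M

/-- `apMask` by the bare recursor: much cheaper for the kernel. -/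
noncomputable def apMaskRec (P : List ℕ) : ℕ → ℕ :=
  @List.rec ℕ (fun _ => ℕ → ℕ) (fun _ => 0)
    (fun b _ ih m => bif Nat.beq (Nat.mod m 2) 1 then Nat.lor b (ih (Nat.div m 2)) else ih (Nat.div m 2)) P

theorem apMaskRec_eq : ∀ (P : List ℕ) (m : ℕ), apMaskRec P m = apMask P m
  | [], _ => rfl
  | b :: r, m => by
    show (bif Nat.beq (m % 2) 1 then b ||| apMaskRec r (m / 2) else apMaskRec r (m / 2)) =
      (bif m % 2 == 1 then b else 0) ||| apMask r (m / 2)
    rw [apMaskRec_eq r]
    rcases Nat.mod_two_eq_zero_or_one m with h | h <;> simp [h] <;> rfl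

/-- The image of a representation. -/
noncomputable def genImg (gens : List (List ℕ)) (i : ℕ) (l : List ℕ) : List ℕ :=
  bif Nat.blt i gens.length then l.map (apMaskRec (bitsTab (gens.getD i []))) else l

/-- The representations reached along a tree. -/
noncomputable def famKeys (gens : List (List ℕ)) (t : OrbTree) : List ℕ → List (List ℕ) :=
  @OrbTree.rec (fun _ => List ℕ → List (List ℕ)) (fun _ => [])
    (fun g _ _ kc ks p => (fun q => q :: (kc q ++ ks p)) (genImg gens g p)) t

theorem famKeys_nil (gens : List (List ℕ)) (p : List ℕ) : famKeys gens .nil p = [] := rfl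

theorem famKeys_node (gens : List (List ℕ)) (g : ℕ) (c s : OrbTree) (p : List ℕ) :
    famKeys gens (.node g c s) p =
      genImg gens g p :: (famKeys gens c (genImg gens g p) ++ famKeys gens s p) := rfl

/-- The generators fix the base family. -/
def famGensOk (gens : List (List ℕ)) (A : List ℕ) : Bool :=
  goodRep A && gens.all fun g => validTab g && presTab g &&
    A.all fun m => A.any fun x => Nat.beq (actTab g m) x

theorem smul_fam {g : List ℕ} (hg : validTab g = true) {l : List ℕ} (hl : goodRep l = true) :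
    goodRep (l.map (actTab g)) = true ∧ fam (l.map (actTab g)) = permOf g • fam l := by
  obtain ⟨hnd, hlt⟩ := goodRep_spec l hl
  have key : ∀ m ∈ l, actTab g m = mask (permOf g • toSet m) := fun m hm => by
    rw [mask_smul hg, mask_toSet (hlt m hm)]
  have e : l.map (actTab g) = l.map fun m => mask (permOf g • toSet m) := List.map_congr_left key
  have good : ∀ r : List ℕ, r.Nodup → (∀ m ∈ r, m < 2 ^ 24) → goodRep r = true := by
    intro r
    induction r with
    | nil => intro _ _; rfl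
    | cons m r ih =>
      intro h1 h2
      rw [List.nodup_cons] at h1
      simp only [goodRep, Bool.and_eq_true, Bool.not_eq_true', List.any_eq_false, Nat.beq_eq,
        Nat.blt_eq]
      exact ⟨⟨h2 m List.mem_cons_self, fun x hx he => h1.1 (he ▸ hx)⟩,
        ih h1.2 fun x hx => h2 x (List.mem_cons_of_mem _ hx)⟩
  rw [e]
  refine ⟨good _ (hnd.map_on fun x hx y hy h => ?_) (fun m hm => ?_), ?_⟩
  · exact toSet_injOn hlt hx hy (MulAction.injective _ (mask_injective h))
  · obtain ⟨x, -, rfl⟩ := List.mem_map.1 hm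
    exact mask_lt _
  · ext a
    simp only [fam, List.mem_toFinset, List.mem_map, Finset.mem_smul_finset]
    constructor
    · rintro ⟨_, ⟨m, hm, rfl⟩, rfl⟩
      exact ⟨toSet m, ⟨m, hm, rfl⟩, (toSet_mask _).symm⟩
    · rintro ⟨_, ⟨m, hm, rfl⟩, rfl⟩
      exact ⟨_, ⟨m, hm, rfl⟩, toSet_mask _⟩

theorem gen_spec {gens : List (List ℕ)} {A : List ℕ} (h : famGensOk gens A = true) {g : List ℕ}
    (hg : g ∈ gens) : validTab g = true ∧ permOf g ∈ M24 ∧ permOf g • fam A = fam A := by
  simp only [famGensOk, Bool.and_eq_true, List.all_eq_true, List.any_eq_true, Nat.beq_eq] at h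
  obtain ⟨hA, hgs⟩ := h
  obtain ⟨⟨hv, hp⟩, hfix⟩ := hgs g hg
  refine ⟨hv, permOf_mem_M24 hv hp, ?_⟩
  rw [← (smul_fam hv hA).2]
  refine Finset.eq_of_subset_of_card_le ?_ ?_
  · intro a ha
    simp only [fam, List.mem_toFinset, List.mem_map] at ha ⊢
    obtain ⟨_, ⟨m, hm, rfl⟩, rfl⟩ := ha
    obtain ⟨x, hx, e⟩ := hfix m hm
    exact ⟨x, hx, by rw [e]⟩
  · rw [(smul_fam hv hA).2, Finset.card_smul_finset]

/-- A class of a certificate: root, tree and number of members. -/
structure Cls where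
  root : List ℕ
  tree : OrbTree
  size : ℕ

/-- All members of a class. -/
noncomputable def clsKeys (gens : List (List ℕ)) (c : Cls) : List (List ℕ) := c.root :: famKeys gens c.tree c.root

/-- All members of all classes. -/
noncomputable def allKeys (gens : List (List ℕ)) (cs : List Cls) : List (List ℕ) := cs.flatMap (clsKeys gens)

/-- The certificate. -/
noncomputable def suborbOk (gens : List (List ℕ)) (A : List ℕ) (cs : List Cls) (M : ℕ) : Bool :=
  famGensOk gens A && cs.all (fun c => goodRep c.root && Nat.beq (clsKeys gens c).length c.size) &&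
    nodupAux .none ((allKeys gens cs).map (famHash M))

theorem famKeys_prop {gens : List (List ℕ)} {A : List ℕ} (h : famGensOk gens A = true) :
    ∀ (t : OrbTree) (p : List ℕ), goodRep p = true → ∀ k ∈ famKeys gens t p,
      goodRep k = true ∧ ∃ σ ∈ M24, σ • fam A = fam A ∧ σ • fam p = fam k
  | .nil, _, _, k, hk => by simp [famKeys_nil] at hk
  | .node g c s, p, hp, k, hk => by
    have step : goodRep (genImg gens g p) = true ∧
        ∃ σ ∈ M24, σ • fam A = fam A ∧ σ • fam p = fam (genImg gens g p) := by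
      rw [genImg, show apMaskRec (bitsTab (gens.getD g [])) = actTab (gens.getD g []) from
        funext (apMaskRec_eq _)]
      cases hi : Nat.blt g gens.length with
      | false => exact ⟨hp, 1, one_mem _, one_smul _ _, one_smul _ _⟩
      | true =>
        simp only [cond_true]
        rw [List.getD_eq_getElem _ _ (of_blt hi)]
        obtain ⟨hv, hM, hA⟩ := gen_spec h (List.getElem_mem (of_blt hi))
        obtain ⟨h1, h2⟩ := smul_fam hv hp
        exact ⟨h1, _, hM, hA, h2.symm⟩
    obtain ⟨hgood, σ, hσ, hσA, hσp⟩ := step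
    simp only [famKeys_node, List.mem_cons, List.mem_append] at hk
    rcases hk with rfl | hk | hk
    · exact ⟨hgood, σ, hσ, hσA, hσp⟩
    · obtain ⟨hk1, τ, hτ, hτA, hτp⟩ := famKeys_prop h c _ hgood k hk
      exact ⟨hk1, τ * σ, mul_mem hτ hσ, by rw [mul_smul, hσA, hτA], by rw [mul_smul, hσp, hτp]⟩
    · exact famKeys_prop h s p hp k hk

/-- Suborbits of the stabiliser of `A` on the invariant set `K A`, separated by `Inv A`. -/
structure Spec (K : Fam → Set Fam) (Inv : Fam → Fam → ℕ) (A : Fam) (L : List (ℕ × ℕ)) : Prop where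
  hK : ∀ σ ∈ M24, ∀ B X, X ∈ K B → σ • X ∈ K (σ • B)
  hInv : ∀ σ ∈ M24, ∀ B X, Inv (σ • B) (σ • X) = Inv B X
  cover : ∀ X ∈ K A, Inv A X ∈ L.map Prod.fst
  size : ∀ e ∈ L, {X | X ∈ K A ∧ Inv A X = e.1}.ncard = e.2
  trans : ∀ X ∈ K A, ∀ Y ∈ K A, Inv A X = Inv A Y → ∃ σ ∈ M24, σ • A = A ∧ σ • X = Y

/-- Soundness of the certificate. -/
theorem spec_of_cert {gens : List (List ℕ)} {A : List ℕ} {cs : List Cls} {M : ℕ}
    {K : Fam → Set Fam} {Inv : Fam → Fam → ℕ} (hok : suborbOk gens A cs M = true)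
    (hK : ∀ σ ∈ M24, ∀ B X, X ∈ K B → σ • X ∈ K (σ • B))
    (hInv : ∀ σ ∈ M24, ∀ B X, Inv (σ • B) (σ • X) = Inv B X)
    (L : List (ℕ × ℕ)) (hL : L = cs.map fun c => (Inv (fam A) (fam c.root), c.size))
    (hLd : (L.map Prod.fst).Nodup)
    (hroot : ∀ c ∈ cs, fam c.root ∈ K (fam A))
    (hcard : (K (fam A)).ncard ≤ (L.map Prod.snd).sum) : Spec K Inv (fam A) L := by
  classical
  simp only [suborbOk, Bool.and_eq_true, List.all_eq_true, Nat.beq_eq] at hok
  obtain ⟨⟨hg, hcs⟩, hnd⟩ := hok
  have hnd' := (nodupAux_spec _ _ hnd).1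
  have hkey : ∀ c ∈ cs, ∀ k ∈ clsKeys gens c,
      goodRep k = true ∧ ∃ σ ∈ M24, σ • fam A = fam A ∧ σ • fam c.root = fam k := by
    intro c hc k hk
    rcases List.mem_cons.1 hk with rfl | hk
    · exact ⟨(hcs c hc).1, 1, one_mem _, one_smul _ _, one_smul _ _⟩
    · exact famKeys_prop hg _ _ (hcs c hc).1 k hk
  have hkK : ∀ c ∈ cs, ∀ k ∈ clsKeys gens c,
      fam k ∈ K (fam A) ∧ Inv (fam A) (fam k) = Inv (fam A) (fam c.root) := by
    intro c hc k hk
    obtain ⟨-, σ, hσ, hσA, e⟩ := hkey c hc k hk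
    refine ⟨?_, ?_⟩
    · have := hK σ hσ _ _ (hroot c hc)
      rwa [hσA, e] at this
    · have := hInv σ hσ (fam A) (fam c.root)
      rwa [hσA, e] at this
  have hhash : ((allKeys gens cs).map fun k => hashOf M (fam k)) = (allKeys gens cs).map (famHash M) := by
    refine List.map_congr_left fun k hk => ?_
    obtain ⟨c, hc, hk⟩ := List.mem_flatMap.1 hk
    obtain ⟨hgood, -⟩ := hkey c hc k hk
    rw [hashOf, famHash, sum_fam hgood]
    congr 2
    refine List.map_congr_left fun m hm => ?_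
    simp only [mask_toSet ((goodRep_spec _ hgood).2 m hm)]
  have hfamnd : ((allKeys gens cs).map fam).Nodup := by
    refine List.Nodup.of_map (hashOf M) ?_
    rw [List.map_map]
    exact hhash ▸ hnd'
  have hlen : ((allKeys gens cs).map fam).toFinset.card = (L.map Prod.snd).sum := by
    rw [List.toFinset_card_of_nodup hfamnd, List.length_map, allKeys, List.length_flatMap, hL,
      List.map_map]
    exact congrArg List.sum (List.map_congr_left fun c hc => (hcs c hc).2)
  have hall : K (fam A) = ↑(((allKeys gens cs).map fam).toFinset) := by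
    refine (Set.eq_of_subset_of_ncard_le ?_ ?_ (Set.toFinite _)).symm
    · intro X hX
      rw [Finset.mem_coe, List.mem_toFinset, List.mem_map] at hX
      obtain ⟨k, hk, rfl⟩ := hX
      obtain ⟨c, hc, hk⟩ := List.mem_flatMap.1 hk
      exact (hkK c hc k hk).1
    · rw [Set.ncard_coe_finset, hlen]
      exact hcard
  have hmem : ∀ X ∈ K (fam A), ∃ c ∈ cs, ∃ k ∈ clsKeys gens c, fam k = X := by
    intro X hX
    rw [hall, Finset.mem_coe, List.mem_toFinset, List.mem_map] at hX
    obtain ⟨k, hk, rfl⟩ := hX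
    obtain ⟨c, hc, hk⟩ := List.mem_flatMap.1 hk
    exact ⟨c, hc, k, hk, rfl⟩
  have hLd' : (cs.map fun c => Inv (fam A) (fam c.root)).Nodup := by
    rw [hL, List.map_map] at hLd
    exact hLd
  have hinj : ∀ c ∈ cs, ∀ c' ∈ cs, Inv (fam A) (fam c.root) = Inv (fam A) (fam c'.root) → c = c' :=
    fun c hc c' hc' e => List.inj_on_of_nodup_map hLd' hc hc' e
  refine ⟨hK, hInv, fun X hX => ?_, fun e he => ?_, fun X hX Y hY hXY => ?_⟩
  · obtain ⟨c, hc, k, hk, rfl⟩ := hmem X hX
    rw [(hkK c hc k hk).2, hL, List.map_map]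
    exact List.mem_map_of_mem hc
  · rw [hL] at he
    obtain ⟨c, hc, rfl⟩ := List.mem_map.1 he
    have hset : {X | X ∈ K (fam A) ∧ Inv (fam A) X = Inv (fam A) (fam c.root)} =
        ↑(((clsKeys gens c).map fam).toFinset) := by
      ext X
      simp only [Set.mem_ofPred_eq, Finset.mem_coe, List.mem_toFinset, List.mem_map]
      constructor
      · rintro ⟨hX, hi⟩
        obtain ⟨c', hc', k, hk, rfl⟩ := hmem X hX
        rw [(hkK c' hc' k hk).2] at hi
        obtain rfl := hinj c' hc' c hc hi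
        exact ⟨k, hk, rfl⟩
      · rintro ⟨k, hk, rfl⟩
        exact hkK c hc k hk
    simp only
    rw [hset, Set.ncard_coe_finset, List.toFinset_card_of_nodup, List.length_map, (hcs c hc).2]
    rw [allKeys, List.map_flatMap, List.nodup_flatMap] at hfamnd
    exact hfamnd.1 c hc
  · obtain ⟨c, hc, k, hk, rfl⟩ := hmem X hX
    obtain ⟨c', hc', k', hk', rfl⟩ := hmem Y hY
    rw [(hkK c hc k hk).2, (hkK c' hc' k' hk').2] at hXY
    obtain rfl := hinj c hc c' hc' hXY
    obtain ⟨-, σ, hσ, hσA, e⟩ := hkey c hc k hk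
    obtain ⟨-, τ, hτ, hτA, e'⟩ := hkey c hc k' hk'
    exact ⟨τ * σ⁻¹, mul_mem hτ (inv_mem hσ),
      by rw [mul_smul, inv_smul_eq_iff.2 hσA.symm, hτA],
      by rw [mul_smul, ← e, inv_smul_smul, e']⟩

variable {K : Fam → Set Fam} {Inv : Fam → Fam → ℕ} {A : Fam} {L : List (ℕ × ℕ)}

/-- Transport of a suborbit description along the group. -/
theorem Spec.smul (S : Spec K Inv A L) {g : Equiv.Perm GolayPt} (hg : g ∈ M24) :
    Spec K Inv (g • A) L := by
  have hm : ∀ X, X ∈ K (g • A) → g⁻¹ • X ∈ K A := fun X hX => by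
    have := S.hK g⁻¹ (inv_mem hg) _ _ hX
    rwa [inv_smul_smul] at this
  have hi : ∀ X, Inv A (g⁻¹ • X) = Inv (g • A) X := fun X => by
    rw [← S.hInv g hg, smul_inv_smul]
  refine ⟨S.hK, S.hInv, fun X hX => ?_, fun e he => ?_, fun X hX Y hY hXY => ?_⟩
  · rw [← hi]; exact S.cover _ (hm X hX)
  · rw [← S.size e he, ← Set.ncard_image_of_injective {X | X ∈ K A ∧ Inv A X = e.1} (MulAction.injective g)]
    congr 1
    ext X
    constructor
    · rintro ⟨hX, hv⟩
      exact ⟨g⁻¹ • X, ⟨hm X hX, (hi X).trans hv⟩, smul_inv_smul g X⟩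
    · rintro ⟨Z, ⟨hZ, hv⟩, rfl⟩
      exact ⟨S.hK g hg _ _ hZ, (S.hInv g hg _ _).trans hv⟩
  · obtain ⟨σ, hσ, hA, e⟩ := S.trans _ (hm X hX) _ (hm Y hY) (by rw [hi, hi, hXY])
    refine ⟨g * σ * g⁻¹, mul_mem (mul_mem hg hσ) (inv_mem hg), ?_, ?_⟩
    · rw [mul_smul, mul_smul, inv_smul_smul, hA]
    · rw [mul_smul, mul_smul, e, smul_inv_smul]

theorem Spec.orbit_eq (S : Spec K Inv A L) {X : Fam} (hX : X ∈ K A) :
    MulAction.orbit ↥(MulAction.stabilizer M24 A) X = {Y | Y ∈ K A ∧ Inv A Y = Inv A X} := by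
  ext Y
  constructor
  · rintro ⟨⟨⟨σ, hσ⟩, hfix⟩, rfl⟩
    have hA : σ • A = A := hfix
    have h1 := S.hK σ hσ A X hX
    have h2 := S.hInv σ hσ A X
    rw [hA] at h1 h2
    exact ⟨h1, h2⟩
  · rintro ⟨hY, e⟩
    obtain ⟨σ, hσ, hA, h⟩ := S.trans X hX Y hY e.symm
    exact ⟨⟨⟨σ, hσ⟩, hA⟩, h⟩

theorem Spec.ncard_orbit (S : Spec K Inv A L) {e : ℕ × ℕ} (he : e ∈ L) (h0 : e.2 ≠ 0) :
    ∃ X ∈ K A, Inv A X = e.1 ∧
      (MulAction.orbit ↥(MulAction.stabilizer M24 A) X).ncard = e.2 := by
  obtain ⟨X, hX, hv⟩ := Set.nonempty_of_ncard_ne_zero ((S.size e he).symm ▸ h0)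
  exact ⟨X, hX, hv, by rw [S.orbit_eq hX, hv, S.size e he]⟩

/-- The order of the stabiliser of two families. -/
theorem Spec.card_inf_stab (S : Spec K Inv A L) {X : Fam} (hX : X ∈ K A) {n : ℕ}
    (he : (Inv A X, n) ∈ L) :
    n * Nat.card ↥(MulAction.stabilizer M24 A ⊓ MulAction.stabilizer M24 X) =
      Nat.card ↥(MulAction.stabilizer M24 A) := by
  rw [card_eq_mul_of_orbit (MulAction.stabilizer M24 A) X _ (S.orbit_eq hX), S.size _ he]

/-- A union of suborbits closed under a bigger group has size dividing the number of points. -/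
theorem Spec.isCoatom (S : Spec K Inv A L) (hone : ∀ X ∈ K A, ∃ σ ∈ M24, σ • A = X)
    (hAK : A ∈ K A) (hsame : ∀ σ ∈ M24, K (σ • A) = K A) {N : ℕ} (hN : (K A).ncard = N) (h1 : 1 < N)
    (hdiv : ∀ P : List (ℕ × ℕ), P ∈ L.sublists → Inv A A ∈ P.map Prod.fst → (P.map Prod.snd).sum ∣ N →
      (P.map Prod.snd).sum = 1 ∨ (P.map Prod.snd).sum = N)
    (hnd : (L.map Prod.fst).Nodup) : IsCoatom (MulAction.stabilizer M24 A) := by
  classical
  have horb : MulAction.orbit ↥M24 A = K A := by
    ext X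
    constructor
    · rintro ⟨⟨σ, hσ⟩, rfl⟩
      have := S.hK σ hσ A A hAK
      rwa [hsame σ hσ] at this
    · intro hX
      obtain ⟨σ, hσ, e⟩ := hone X hX
      exact ⟨⟨σ, hσ⟩, e⟩
  have hidx : (MulAction.stabilizer M24 A).index = N := by
    rw [MulAction.index_stabilizer, horb, hN]
  refine ⟨fun h => by rw [h, Subgroup.index_top] at hidx; omega, fun H hH => ?_⟩
  let B : Set Fam := MulAction.orbit ↥H A
  have hBK : B ⊆ K A := by
    rintro _ ⟨h, rfl⟩
    rw [← horb]
    exact ⟨(h : ↥M24), rfl⟩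
  have hstab : MulAction.stabilizer ↥H A = (MulAction.stabilizer M24 A).subgroupOf H := by
    ext h; rfl
  have hBcard : B.ncard * H.index = N := by
    rw [← hidx, ← Subgroup.relIndex_mul_index hH.le]
    congr 1
    show B.ncard = _
    rw [← MulAction.index_stabilizer, hstab]
    rfl
  have hA : A ∈ B := MulAction.mem_orbit_self A
  let P := L.filter fun e => decide (∃ X ∈ B, Inv A X = e.1)
  have hBP : B = {X | X ∈ K A ∧ Inv A X ∈ P.map Prod.fst} := by
    ext X
    constructor
    · intro hX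
      obtain ⟨e, he, he'⟩ := List.mem_map.1 (S.cover X (hBK hX))
      exact ⟨hBK hX, List.mem_map.2 ⟨e, List.mem_filter.2 ⟨he, decide_eq_true ⟨X, hX, he'.symm⟩⟩, he'⟩⟩
    · rintro ⟨hX, hv⟩
      obtain ⟨e, he, he'⟩ := List.mem_map.1 hv
      obtain ⟨Y, hY, hYe⟩ := of_decide_eq_true (List.mem_filter.1 he).2
      obtain ⟨σ, hσ, hσA, rfl⟩ := S.trans Y (hBK hY) X hX (hYe.trans he')
      obtain ⟨h, rfl⟩ := hY
      exact ⟨⟨⟨σ, hσ⟩, hH.le hσA⟩ * h, mul_smul _ h A⟩
  have hsum : ∀ Q : List (ℕ × ℕ), (∀ e ∈ Q, e ∈ L) → (Q.map Prod.fst).Nodup →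
      {X | X ∈ K A ∧ Inv A X ∈ Q.map Prod.fst}.ncard = (Q.map Prod.snd).sum := by
    intro Q
    induction Q with
    | nil => intro _ _; simp
    | cons e R ih =>
      intro hQ hndQ
      rw [List.map_cons, List.nodup_cons] at hndQ
      have hun : {X | X ∈ K A ∧ Inv A X ∈ (e :: R).map Prod.fst} =
          {X | X ∈ K A ∧ Inv A X = e.1} ∪ {X | X ∈ K A ∧ Inv A X ∈ R.map Prod.fst} := by
        ext X; simp only [List.map_cons, List.mem_cons, Set.mem_union, Set.mem_ofPred_eq]; tauto
      rw [hun, Set.ncard_union_eq ?_, S.size e (hQ e List.mem_cons_self),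
        ih (fun x hx => hQ x (List.mem_cons_of_mem _ hx)) hndQ.2, List.map_cons, List.sum_cons]
      rw [Set.disjoint_left]
      rintro X ⟨-, h1⟩ ⟨-, h2⟩
      exact hndQ.1 (h1 ▸ h2)
  have hP : B.ncard = (P.map Prod.snd).sum := by
    rw [hBP]
    exact hsum P (fun e he => List.mem_of_mem_filter he)
      (hnd.sublist (List.Sublist.map _ List.filter_sublist))
  rcases hdiv P (List.mem_sublists.2 List.filter_sublist) (hBP ▸ hA : A ∈ {X | X ∈ K A ∧ Inv A X ∈ P.map Prod.fst}).2
    (hP ▸ Dvd.intro _ hBcard) with h | h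
  · -- the orbit is a single point, so `H` fixes `A`
    exfalso
    obtain ⟨x, hx⟩ := Set.ncard_eq_one.1 (hP.trans h)
    refine hH.not_ge fun k hk => ?_
    have h1 : k • A ∈ B := ⟨⟨k, hk⟩, rfl⟩
    rw [hx, Set.mem_singleton_iff] at h1 hA
    exact h1.trans hA.symm
  · rw [← Subgroup.index_eq_one]
    rw [hP, h] at hBcard
    exact (Nat.mul_eq_left (by omega)).1 hBcard

/-! ### Translating singletons -/

theorem stabilizer_singleton (o : Finset GolayPt) :
    MulAction.stabilizer M24 ({o} : Fam) = MulAction.stabilizer M24 o := by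
  ext σ
  simp [MulAction.mem_stabilizer_iff]

theorem orbit_singleton (H : Subgroup ↥M24) (o : Finset GolayPt) :
    MulAction.orbit ↥H ({o} : Fam) = (fun x => ({x} : Fam)) '' MulAction.orbit ↥H o := by
  ext X
  constructor
  · rintro ⟨h, rfl⟩
    exact ⟨h • o, ⟨h, rfl⟩, (Finset.smul_finset_singleton o).symm⟩
  · rintro ⟨_, ⟨h, rfl⟩, rfl⟩
    exact ⟨h, Finset.smul_finset_singleton o⟩

theorem ncard_orbit_singleton (H : Subgroup ↥M24) (o : Finset GolayPt) :
    (MulAction.orbit ↥H ({o} : Fam)).ncard = (MulAction.orbit ↥H o).ncard := by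
  rw [orbit_singleton, Set.ncard_image_of_injective _ Finset.singleton_injective]

/-! ### The standard invariant -/

/-- Sum of fourth powers of the pairwise intersection sizes. -/
def crossInv (A B : Fam) : ℕ := ∑ a ∈ A, ∑ b ∈ B, (a ∩ b).card ^ 4

/-- Evaluation on representations. -/
def crossL (a b : List ℕ) : ℕ :=
  (a.map fun x => (b.map fun y => popc (x &&& y) ^ 4).sum).sum

theorem crossInv_smul (σ : Equiv.Perm GolayPt) (A B : Fam) :
    crossInv (σ • A) (σ • B) = crossInv A B := by
  show ∑ a ∈ A.image (σ • ·), ∑ b ∈ B.image (σ • ·), _ = _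
  rw [Finset.sum_image fun _ _ _ _ h => MulAction.injective σ h]
  refine Finset.sum_congr rfl fun a _ => ?_
  rw [Finset.sum_image fun _ _ _ _ h => MulAction.injective σ h]
  refine Finset.sum_congr rfl fun b _ => ?_
  rw [← Finset.smul_finset_inter, Finset.card_smul_finset]

theorem crossInv_fam {a b : List ℕ} (ha : goodRep a = true) (hb : goodRep b = true) :
    crossInv (fam a) (fam b) = crossL a b := by
  rw [crossInv, sum_fam ha, crossL]
  refine congrArg List.sum (List.map_congr_left fun x hx => ?_)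
  rw [sum_fam hb]
  refine congrArg List.sum (List.map_congr_left fun y hy => ?_)
  rw [← popc_mask, mask_inter, mask_toSet ((goodRep_spec a ha).2 x hx),
    mask_toSet ((goodRep_spec b hb).2 y hy)]

end Suborb

end CfsgLib.Golay
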