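/-
Listed finite subgroups, transport of normal subgroups, and the conjugation map to a linear group.
-/
import Cfsg.Agent.Golay.Suborb
import Cfsg.Agent.Golay.M24
import Mathlib

set_option autoImplicit false

namespace CfsgLib.Golay.Listed

open Cfsg CfsgLib.Golay
open scoped Pointwise

theorem tabOf_permOf {g : List ℕ} (hg : validTab g = true) : tabOf (permOf g) = g := by
  obtain ⟨hl, -, -⟩ := validTab_bound hg
  refine List.ext_getElem (by simp [tabOf, hl]) fun j h1 h2 => ?_
  simp only [tabOf, List.getElem_ofFn, idx_permOf hg, idx_pt, List.getD_eq_getElem g 0 h2]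

/-- The images of five positions, packed into a number. -/
def key5 (ps : List ℕ) (t : List ℕ) : ℕ := ps.foldl (fun acc i => acc * 24 + t.getD i 0) 0

/-- Tables lying in the group, separated by `key5`. -/
noncomputable def tabsOk (ps : List ℕ) (L : List (List ℕ)) : Bool :=
  L.all (fun t => validTab t && presTab t) && Suborb.nodupAux .none (L.map (key5 ps))

theorem eq_listed {H : Subgroup M24} {L : List (List ℕ)} {ps : List ℕ} (hok : tabsOk ps L = true)
    (hmem : ∀ t ∈ L, ∀ h : permOf t ∈ M24, (⟨permOf t, h⟩ : M24) ∈ H) (hcard : Nat.card H ≤ L.length) :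
    Nat.card H = L.length ∧ ∀ h ∈ H, ∃ t ∈ L, permOf t = (h : Equiv.Perm GolayPt) := by
  classical
  simp only [tabsOk, Bool.and_eq_true, List.all_eq_true] at hok
  obtain ⟨hv, hnd⟩ := hok
  have hL : L.Nodup := List.Nodup.of_map _ (Suborb.nodupAux_spec _ _ hnd).1
  let f : {t // t ∈ L} → H := fun t =>
    ⟨⟨permOf t.1, permOf_mem_M24 (hv _ t.2).1 (hv _ t.2).2⟩, hmem _ t.2 _⟩
  have hf : Function.Injective f := fun s t e => Subtype.ext (by
    have := congrArg (fun x : H => tabOf ((x : M24) : Equiv.Perm GolayPt)) e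
    simpa [f, tabOf_permOf (hv _ s.2).1, tabOf_permOf (hv _ t.2).1] using this)
  letI : Fintype {t // t ∈ L} := Fintype.subtype L.toFinset (fun x => List.mem_toFinset)
  have hcL : Fintype.card {t // t ∈ L} = L.length := by
    rw [← List.toFinset_card_of_nodup hL]
    exact Fintype.subtype_card L.toFinset (fun x => List.mem_toFinset)
  have hle := Nat.card_le_card_of_injective f hf
  rw [Nat.card_eq_fintype_card, hcL] at hle
  refine ⟨le_antisymm hcard hle, fun h hh => ?_⟩
  obtain ⟨t, ht⟩ := ((Nat.bijective_iff_injective_and_card f).2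
    ⟨hf, by rw [Nat.card_eq_fintype_card, hcL]; omega⟩).2 ⟨h, hh⟩
  exact ⟨t.1, t.2, congrArg (fun x : H => ((x : M24) : Equiv.Perm GolayPt)) ht⟩

/-- An isomorphism between stabilisers of translated objects. -/
theorem stab_equiv {X Y : Type*} [MulAction (Equiv.Perm GolayPt) X] [MulAction (Equiv.Perm GolayPt) Y]
    {x x' : X} {y y' : Y} {σ : Equiv.Perm GolayPt} (hσ : σ ∈ M24) (hx : σ • x = x') (hy : σ • y = y') :
    ∃ e : ↥(MulAction.stabilizer M24 x ⊓ MulAction.stabilizer M24 y) ≃*
        ↥(MulAction.stabilizer M24 x' ⊓ MulAction.stabilizer M24 y'),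
      ∀ g, ((e g : M24) : Equiv.Perm GolayPt) = σ * ((g : M24) : Equiv.Perm GolayPt) * σ⁻¹ := by
  set s : M24 := ⟨σ, hσ⟩
  have hs : (MulAction.stabilizer M24 x ⊓ MulAction.stabilizer M24 y).map (MulAut.conj s).toMonoidHom =
      MulAction.stabilizer M24 x' ⊓ MulAction.stabilizer M24 y' := by
    rw [Subgroup.map_inf _ _ _ (MulAut.conj s).injective, ← MulAction.stabilizer_smul_eq_stabilizer_map_conj,
      ← MulAction.stabilizer_smul_eq_stabilizer_map_conj]
    congr 2
  exact ⟨((MulAut.conj s).subgroupMap _).trans (MulEquiv.subgroupCongr hs), fun g => rfl⟩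

theorem transport_quotient {G G' K : Type*} [Group G] [Group G'] [Group K] (e : G ≃* G') (N' : Subgroup G')
    [hN' : N'.Normal] (h : Nonempty (G' ⧸ N' ≃* K)) :
    ∃ (N : Subgroup G) (_ : N.Normal), Nat.card N = Nat.card N' ∧ (∀ x ∈ N, e x ∈ N') ∧
      Nonempty (G ⧸ N ≃* K) := by
  obtain ⟨f⟩ := h
  refine ⟨N'.comap e.toMonoidHom, inferInstance, ?_, fun x hx => hx, ?_⟩
  · exact Nat.card_congr
      { toFun := fun x => ⟨e x.1, x.2⟩
        invFun := fun y => ⟨e.symm y.1, by simp⟩
        left_inv := fun x => Subtype.ext (e.symm_apply_apply x.1)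
        right_inv := fun y => Subtype.ext (e.apply_symm_apply y.1) }
  · exact ⟨(QuotientGroup.congr (N'.comap e.toMonoidHom) N' e
      (Subgroup.map_comap_eq_self_of_surjective (f := e.toMonoidHom) e.surjective N')).trans f⟩

variable {p n : ℕ} [Fact p.Prime]

/-- An automorphism as a linear equivalence. -/
def toLinEquiv : MulAut (Multiplicative (Fin n → ZMod p)) →* ((Fin n → ZMod p) ≃ₗ[ZMod p] (Fin n → ZMod p)) where
  toFun f :=
    { AddEquiv.toMultiplicative.symm f with
      map_smul' := fun c x => ZMod.map_smul (AddEquiv.toMultiplicative.symm f).toAddMonoidHom c x }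
  map_one' := LinearEquiv.ext fun _ => rfl
  map_mul' _ _ := LinearEquiv.ext fun _ => rfl

/-- The linear map underlying an automorphism. -/
noncomputable def toGL : MulAut (Multiplicative (Fin n → ZMod p)) →* GL (Fin n) (ZMod p) :=
  (Matrix.GeneralLinearGroup.toLin (R := ZMod p) (n := Fin n)).symm.toMonoidHom.comp
    ((LinearMap.GeneralLinearGroup.generalLinearEquiv (ZMod p) (Fin n → ZMod p)).symm.toMonoidHom.comp toLinEquiv)

theorem toGL_injective : Function.Injective (toGL (p := p) (n := n)) := by
  intro f g hfg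
  have h : toLinEquiv f = toLinEquiv g :=
    (LinearMap.GeneralLinearGroup.generalLinearEquiv (ZMod p) (Fin n → ZMod p)).symm.injective
      ((Matrix.GeneralLinearGroup.toLin (R := ZMod p) (n := Fin n)).symm.injective hfg)
  exact MulEquiv.ext fun x => congrArg Multiplicative.ofAdd (LinearEquiv.congr_fun h (Multiplicative.toAdd x))

theorem quotient_conj_GL {H : Type*} [Group H] [Finite H] (v : Multiplicative (Fin n → ZMod p) →* H)
    (hv : Function.Injective v) (hN : v.range.Normal) (hC : Subgroup.centralizer (v.range : Set H) ≤ v.range)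
    (hcard : Nat.card H = p ^ n * Nat.card (GL (Fin n) (ZMod p))) :
    Nat.card v.range = p ^ n ∧ Nonempty (H ⧸ v.range ≃* GL (Fin n) (ZMod p)) := by
  haveI := hN
  have hcN : Nat.card v.range = p ^ n := by
    rw [← Nat.card_congr (MonoidHom.ofInjective hv).toEquiv,
      Nat.card_congr Multiplicative.toAdd, Nat.card_fun, Nat.card_zmod, Nat.card_fin]
  refine ⟨hcN, ?_⟩
  let φ : H →* GL (Fin n) (ZMod p) :=
    toGL.comp ((MulAut.congr (MonoidHom.ofInjective hv).symm).toMonoidHom.comp MulAut.conjNormal)
  have hker : φ.ker = v.range := by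
    ext h
    rw [MonoidHom.mem_ker]
    constructor
    · intro hh
      have h1 : MulAut.conjNormal (H := v.range) h = 1 :=
        (MulAut.congr (MonoidHom.ofInjective hv).symm).injective
          ((toGL_injective (hh.trans (map_one toGL).symm)).trans (map_one _).symm)
      refine hC (Subgroup.mem_centralizer_iff.2 fun x hx => ?_)
      have := congrArg (fun a : MulAut v.range => ((a ⟨x, hx⟩ : v.range) : H)) h1
      simp only [MulAut.conjNormal_apply, MulAut.one_apply] at this
      rw [mul_inv_eq_iff_eq_mul] at this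
      exact this.symm
    · rintro ⟨a, rfl⟩
      have h1 : MulAut.conjNormal (H := v.range) (v a) = 1 := by
        refine MulEquiv.ext fun ⟨x, b, hb⟩ => Subtype.ext ?_
        subst hb
        rw [MulAut.conjNormal_apply, MulAut.one_apply]
        rw [← map_mul, ← map_inv, ← map_mul, mul_comm a b, mul_inv_cancel_right]
      show toGL (MulAut.congr (MonoidHom.ofInjective hv).symm (MulAut.conjNormal (v a))) = 1
      rw [h1, map_one (MulAut.congr (MonoidHom.ofInjective hv).symm), map_one toGL]
  have hsurj : Function.Surjective φ := by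
    rw [← MonoidHom.range_eq_top]
    refine Subgroup.eq_top_of_card_eq _ ?_
    have h := φ.ker.card_mul_index
    rw [Subgroup.index_ker, hker, hcN, hcard] at h
    exact Nat.eq_of_mul_eq_mul_left (pow_pos (Fact.out : p.Prime).pos _) h
  exact ⟨(QuotientGroup.quotientMulEquivOfEq hker.symm).trans
    (QuotientGroup.quotientKerEquivOfSurjective φ hsurj)⟩

end CfsgLib.Golay.Listed
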