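/-
Orbit certificates for the stabiliser of a dodecad.
-/
import Cfsg.Agent.Golay.Orbit

set_option autoImplicit false
set_option maxRecDepth 20000

namespace CfsgLib.Golay.DodStab

/-- The mask of the dodecad of squares. -/
def sqD : ℕ := 340831

/-- Generators fixing the dodecad and 0 of its points. -/
def gensA0 : List (List ℕ) :=
  [[0, 8, 2, 18, 6, 19, 16, 7, 13, 9, 5, 22, 3, 1, 21, 15, 4, 17, 12, 10, 11, 23, 20, 14],
   [3, 8, 4, 13, 0, 22, 2, 7, 9, 1, 20, 5, 16, 6, 23, 10, 12, 19, 18, 17, 21, 14, 11, 15],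
   [18, 3, 0, 16, 4, 5, 8, 14, 1, 12, 11, 21, 2, 6, 17, 7, 9, 19, 13, 23, 22, 15, 10, 20],
   [2, 12, 18, 3, 1, 7, 0, 5, 8, 9, 22, 15, 16, 13, 23, 19, 4, 21, 6, 20, 11, 10, 17, 14],
   [1, 8, 2, 4, 18, 10, 12, 7, 0, 9, 21, 15, 16, 13, 23, 20, 6, 17, 3, 14, 11, 5, 22, 19]]

/-- What they fix. -/
def fixA0 : List ℕ := [340831]

/-- Orbit tree (A0). -/
def treeA0 : OrbTree :=
  (.node 1 (.node 1 .nil (.node 2 (.node 2 .nil .nil) (.node 4 .nil .nil))) (.node 2 (.node 0 .nil (.node 3 .nil .nil)) (.node 3 .nil (.node 4 (.node 0 .nil .nil) .nil))))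

/-- Generators fixing the dodecad and 1 of its points. -/
def gensA1 : List (List ℕ) :=
  [[0, 16, 9, 3, 13, 20, 8, 5, 12, 6, 10, 14, 2, 18, 15, 22, 4, 11, 1, 19, 23, 7, 17, 21],
   [0, 2, 1, 3, 8, 14, 12, 19, 18, 4, 15, 10, 16, 9, 23, 21, 13, 5, 6, 20, 11, 22, 7, 17],
   [0, 12, 1, 2, 18, 22, 6, 11, 3, 13, 23, 5, 8, 16, 19, 7, 4, 17, 9, 10, 14, 21, 15, 20],
   [0, 2, 9, 6, 8, 20, 4, 10, 3, 16, 19, 15, 12, 13, 21, 11, 1, 5, 18, 22, 23, 14, 7, 17],
   [0, 4, 13, 8, 2, 23, 3, 10, 6, 16, 15, 7, 18, 12, 17, 5, 9, 14, 1, 22, 19, 21, 20, 11]]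

/-- What they fix. -/
def fixA1 : List ℕ := [340831, 1]

/-- Orbit tree (A1). -/
def treeA1 : OrbTree :=
  (.node 0 (.node 1 .nil (.node 4 (.node 0 .nil .nil) .nil)) (.node 1 .nil (.node 2 (.node 2 (.node 2 .nil .nil) (.node 4 .nil .nil)) (.node 4 .nil .nil))))

/-- Generators fixing the dodecad and 2 of its points. -/
def gensA2 : List (List ℕ) :=
  [[0, 1, 18, 4, 3, 21, 6, 22, 12, 13, 17, 11, 8, 9, 14, 15, 16, 10, 2, 20, 19, 5, 7, 23],
   [0, 1, 9, 18, 3, 14, 12, 7, 8, 13, 23, 10, 16, 2, 20, 21, 6, 17, 4, 15, 5, 19, 22, 11],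
   [0, 1, 4, 3, 13, 11, 16, 14, 2, 6, 15, 5, 9, 8, 23, 10, 12, 20, 18, 7, 22, 17, 21, 19],
   [0, 1, 16, 13, 18, 10, 9, 5, 3, 6, 14, 19, 8, 4, 7, 11, 12, 21, 2, 17, 23, 22, 20, 15],
   [0, 1, 8, 3, 9, 7, 16, 20, 4, 2, 5, 19, 12, 6, 11, 22, 18, 14, 13, 17, 10, 23, 15, 21]]

/-- What they fix. -/
def fixA2 : List ℕ := [340831, 1, 2]

/-- Orbit tree (A2). -/
def treeA2 : OrbTree :=
  (.node 0 (.node 4 .nil .nil) (.node 1 (.node 2 .nil .nil) (.node 2 (.node 0 .nil .nil) (.node 3 (.node 2 .nil .nil) (.node 4 .nil .nil)))))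

/-- Generators fixing the dodecad and 3 of its points. -/
def gensA3 : List (List ℕ) :=
  [[0, 1, 2, 6, 8, 23, 13, 14, 9, 12, 20, 5, 4, 16, 7, 22, 3, 21, 18, 11, 17, 10, 15, 19],
   [0, 1, 2, 3, 4, 5, 6, 7, 8, 9, 10, 11, 12, 13, 14, 15, 16, 17, 18, 19, 20, 21, 22, 23],
   [0, 1, 2, 6, 3, 21, 16, 11, 8, 18, 22, 17, 9, 12, 19, 14, 4, 23, 13, 20, 15, 5, 10, 7],
   [0, 1, 2, 8, 4, 22, 3, 14, 12, 16, 20, 15, 6, 9, 10, 11, 18, 21, 13, 23, 7, 17, 19, 5],
   [0, 1, 2, 8, 3, 10, 6, 19, 9, 4, 15, 14, 16, 18, 22, 17, 13, 5, 12, 7, 11, 23, 20, 21]]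

/-- What they fix. -/
def fixA3 : List ℕ := [340831, 1, 2, 4]

/-- Orbit tree (A3). -/
def treeA3 : OrbTree :=
  (.node 0 (.node 0 (.node 4 .nil .nil) (.node 2 (.node 2 .nil .nil) .nil)) (.node 3 (.node 0 .nil (.node 3 .nil .nil)) .nil))

/-- Generators fixing the dodecad and 4 of its points. -/
def gensA4 : List (List ℕ) :=
  [[0, 1, 2, 3, 4, 5, 6, 7, 8, 9, 10, 11, 12, 13, 14, 15, 16, 17, 18, 19, 20, 21, 22, 23],
   [0, 1, 2, 3, 8, 17, 18, 15, 12, 13, 19, 21, 16, 6, 23, 10, 4, 5, 9, 7, 11, 22, 20, 14],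
   [0, 1, 2, 3, 8, 17, 18, 15, 12, 13, 19, 21, 16, 6, 23, 10, 4, 5, 9, 7, 11, 22, 20, 14],
   [0, 1, 2, 3, 8, 17, 18, 15, 12, 13, 19, 21, 16, 6, 23, 10, 4, 5, 9, 7, 11, 22, 20, 14],
   [0, 1, 2, 3, 16, 17, 13, 19, 4, 18, 15, 20, 8, 9, 23, 7, 12, 5, 6, 10, 22, 11, 21, 14],
   [0, 1, 2, 3, 4, 5, 6, 7, 8, 9, 10, 11, 12, 13, 14, 15, 16, 17, 18, 19, 20, 21, 22, 23],
   [0, 1, 2, 3, 16, 17, 13, 19, 4, 18, 15, 20, 8, 9, 23, 7, 12, 5, 6, 10, 22, 11, 21, 14],
   [0, 1, 2, 3, 13, 23, 8, 21, 9, 16, 20, 19, 18, 12, 17, 11, 6, 14, 4, 22, 7, 10, 15, 5]]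

/-- What they fix. -/
def fixA4 : List ℕ := [340831, 1, 2, 4, 8]

/-- Orbit tree (A4). -/
def treeA4 : OrbTree :=
  (.node 1 (.node 1 (.node 7 .nil .nil) (.node 7 .nil .nil)) (.node 4 (.node 7 .nil .nil) (.node 7 .nil .nil)))

/-- Generators fixing the dodecad, a point of it and 1 outer points. -/
def gensB1 : List (List ℕ) :=
  [[0, 6, 16, 8, 3, 5, 18, 14, 13, 4, 17, 19, 9, 12, 15, 11, 2, 10, 1, 21, 22, 7, 23, 20],
   [0, 2, 12, 3, 6, 5, 8, 20, 9, 13, 23, 14, 16, 4, 19, 17, 18, 11, 1, 15, 10, 7, 22, 21],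
   [0, 8, 3, 16, 18, 5, 1, 21, 4, 2, 10, 15, 12, 9, 22, 20, 13, 23, 6, 7, 17, 14, 19, 11],
   [0, 4, 2, 3, 12, 5, 18, 7, 6, 16, 10, 14, 1, 9, 22, 19, 13, 15, 8, 17, 21, 23, 11, 20],
   [0, 3, 1, 18, 12, 5, 4, 19, 2, 8, 14, 22, 6, 16, 10, 21, 13, 15, 9, 20, 7, 23, 17, 11]]

/-- What they fix. -/
def fixB1 : List ℕ := [340831, 1, 32]

/-- Orbit tree (B1). -/
def treeB1 : OrbTree :=
  (.node 0 (.node 0 (.node 0 .nil .nil) (.node 2 .nil (.node 4 .nil .nil))) (.node 1 (.node 2 .nil .nil) (.node 2 (.node 3 .nil .nil) (.node 4 .nil .nil))))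

/-- Generators fixing the dodecad, a point of it and 2 outer points. -/
def gensB2 : List (List ℕ) :=
  [[0, 16, 2, 6, 4, 5, 3, 7, 18, 12, 15, 20, 9, 13, 14, 10, 1, 19, 8, 17, 11, 21, 23, 22],
   [0, 13, 2, 8, 9, 5, 6, 7, 18, 16, 17, 21, 1, 12, 23, 15, 4, 19, 3, 10, 14, 22, 11, 20],
   [0, 1, 8, 6, 16, 5, 3, 7, 2, 13, 22, 23, 12, 9, 19, 20, 4, 17, 18, 14, 15, 21, 10, 11],
   [0, 4, 6, 2, 16, 5, 8, 7, 18, 1, 15, 20, 9, 13, 23, 22, 12, 11, 3, 21, 19, 17, 14, 10],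
   [0, 13, 6, 3, 9, 5, 2, 7, 18, 4, 21, 17, 12, 1, 14, 15, 16, 11, 8, 22, 23, 10, 19, 20]]

/-- What they fix. -/
def fixB2 : List ℕ := [340831, 1, 32, 128]

/-- Orbit tree (B2). -/
def treeB2 : OrbTree :=
  (.node 0 (.node 2 .nil .nil) (.node 1 (.node 0 .nil (.node 3 .nil .nil)) (.node 2 (.node 0 .nil (.node 3 .nil .nil)) (.node 4 .nil .nil))))

/-- Orbit tree (B0). -/
def treeB0 : OrbTree :=
  (.node 0 (.node 1 (.node 1 .nil .nil) (.node 4 .nil .nil)) (.node 1 (.node 0 .nil (.node 3 .nil (.node 4 .nil .nil))) (.node 2 (.node 1 .nil .nil) (.node 4 .nil .nil))))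

/-- Orbit tree (A3Out). -/
def treeA3Out : OrbTree :=
  (.node 0 (.node 0 (.node 0 .nil .nil) (.node 2 (.node 0 .nil .nil) .nil)) (.node 2 (.node 3 .nil .nil) (.node 3 (.node 0 .nil (.node 4 .nil .nil)) (.node 4 .nil .nil))))

/-- Orbit tree (Oct2). -/
def treeOct2 : OrbTree :=
  (.node 0 (.node 0 (.node 1 (.node 0 .nil (.node 2 .nil .nil)) (.node 2 (.node 1 .nil (.node 2 .nil (.node 3 .nil .nil))) (.node 3 (.node 0 .nil (.node 2 .nil .nil)) (.node 4 (.node 2 .nil .nil) .nil)))) (.node 1 (.node 0 .nil (.node 1 (.node 2 .nil (.node 4 .nil .nil)) (.node 2 .nil .nil))) (.node 2 (.node 0 (.node 0 .nil (.node 4 .nil .nil)) (.node 1 (.node 1 .nil .nil) (.node 3 .nil (.node 4 (.node 1 .nil (.node 3 .nil .nil)) .nil)))) (.node 3 (.node 0 (.node 2 .nil (.node 4 .nil .nil)) (.node 2 .nil (.node 4 (.node 3 .nil .nil) .nil))) .nil)))) (.node 1 (.node 0 (.node 0 (.node 1 .nil (.node 2 .nil .nil)) (.node 1 .nil (.node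 2 (.node 1 .nil (.node 2 .nil .nil)) (.node 3 .nil (.node 4 (.node 1 .nil .nil) .nil))))) (.node 1 (.node 0 (.node 2 .nil (.node 3 .nil .nil)) (.node 2 .nil (.node 3 .nil (.node 4 .nil .nil)))) (.node 2 (.node 0 (.node 1 .nil (.node 2 .nil (.node 4 (.node 4 .nil .nil) .nil))) (.node 2 (.node 1 .nil .nil) (.node 3 .nil (.node 4 .nil .nil)))) (.node 3 (.node 0 (.node 1 .nil .nil) (.node 1 (.node 1 .nil .nil) (.node 3 .nil (.node 4 .nil .nil)))) (.node 4 (.node 2 (.node 0 .nil .nil) (.node 3 (.node 1 .nil .nil) (.node 4 .nil .nil))) .nil))))) (.node 2 (.node 0 (.node 0 (.node 1 .nil (.node 4 .nil .nil)) (.node 1 (.node 4 .nil .nil) (.node 2 .nil (.node 3 (.node 1 .nil .nil) .nil)))) (.node 1 (.node 0 .nil (.node 1 .nil (.node 2 .nil (.node 3 (.node 2 .nil .nil) (.node 4 (.node 2 .nil (.node 4 .nil .nil)) .nil))))) (.node 2 (.node 0 .nil (.node 3 .nil (.node 4 (.node 3 .nil .nil) .nil))) (.node 4 (.node 0 (.node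 2 .nil .nil) (.node 1 .nil (.node 2 .nil (.node 3 .nil (.node 4 .nil .nil))))) .nil)))) (.node 3 (.node 0 (.node 1 .nil .nil) (.node 2 (.node 0 .nil (.node 2 .nil .nil)) (.node 3 (.node 3 .nil (.node 4 .nil .nil)) (.node 4 (.node 1 .nil (.node 3 .nil .nil)) .nil)))) (.node 4 (.node 0 (.node 2 .nil .nil) (.node 1 (.node 3 .nil (.node 4 .nil .nil)) (.node 3 (.node 1 .nil (.node 2 .nil .nil)) .nil))) .nil)))))

/-- Orbit tree (Oct4). -/
def treeOct4 : OrbTree :=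
  (.node 0 (.node 0 (.node 1 (.node 0 (.node 2 .nil .nil) (.node 1 .nil (.node 2 (.node 0 .nil (.node 2 .nil (.node 3 .nil (.node 4 .nil .nil)))) (.node 3 (.node 4 .nil .nil) .nil)))) (.node 2 (.node 0 (.node 0 .nil (.node 1 .nil (.node 2 .nil .nil))) (.node 1 (.node 0 (.node 3 .nil .nil) .nil) (.node 2 (.node 0 .nil (.node 3 .nil .nil)) (.node 3 .nil (.node 4 (.node 1 .nil (.node 2 .nil .nil)) .nil))))) (.node 3 (.node 0 (.node 3 .nil .nil) (.node 2 (.node 0 .nil (.node 1 .nil .nil)) (.node 3 .nil (.node 4 (.node 2 .nil (.node 4 .nil .nil)) .nil)))) (.node 4 (.node 1 .nil (.node 2 (.node 2 .nil (.node 3 .nil .nil)) (.node 3 (.node 0 .nil (.node 1 .nil (.node 4 .nil .nil))) .nil))) .nil)))) (.node 1 (.node 1 (.node 0 .nil (.node 1 (.node 2 .nil .nil) (.node 2 (.node 1 .nil (.node 2 .nil .nil)) (.node 4 (.node 2 .nil (.node 3 .nil (.node 4 .nil .nil))) .nil)))) (.node 2 (.node 0 (.node 3 .nil .nil) (.node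 2 (.node 1 .nil (.node 4 .nil .nil)) (.node 4 .nil .nil))) (.node 3 (.node 1 (.node 2 .nil (.node 4 .nil .nil)) (.node 2 .nil (.node 3 (.node 1 .nil .nil) (.node 4 .nil .nil)))) (.node 4 (.node 0 (.node 0 .nil (.node 3 .nil .nil)) (.node 1 .nil (.node 2 (.node 3 .nil .nil) (.node 3 .nil (.node 4 .nil .nil))))) .nil)))) (.node 2 (.node 0 (.node 1 (.node 3 .nil .nil) (.node 2 (.node 0 .nil (.node 1 .nil (.node 4 .nil .nil))) (.node 3 .nil (.node 4 (.node 1 .nil .nil) .nil)))) (.node 1 (.node 0 (.node 1 .nil (.node 3 .nil .nil)) (.node 1 .nil (.node 3 (.node 2 .nil (.node 4 .nil .nil)) .nil))) (.node 2 (.node 0 (.node 1 .nil (.node 3 .nil (.node 4 .nil .nil))) (.node 1 (.node 1 .nil .nil) (.node 3 (.node 3 .nil .nil) (.node 4 (.node 3 .nil (.node 4 .nil .nil)) .nil)))) (.node 4 (.node 4 (.node 1 .nil .nil) .nil) .nil)))) (.node 3 (.node 0 (.node 0 .nil (.node 1 (.node 1 .nil (.node 2 .nil .nil)) (.node 2 (.node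 3 .nil (.node 4 .nil .nil)) (.node 3 (.node 4 .nil .nil) .nil)))) (.node 1 (.node 0 (.node 0 .nil .nil) (.node 1 .nil (.node 2 (.node 3 .nil .nil) (.node 3 (.node 0 .nil (.node 1 .nil (.node 2 .nil (.node 4 .nil .nil)))) .nil)))) (.node 2 (.node 1 (.node 3 .nil .nil) (.node 3 (.node 0 .nil .nil) (.node 4 (.node 1 .nil (.node 2 .nil .nil)) .nil))) (.node 4 (.node 1 .nil (.node 2 .nil (.node 3 (.node 0 .nil .nil) (.node 4 (.node 2 .nil (.node 3 .nil .nil)) .nil)))) .nil)))) (.node 4 (.node 1 (.node 0 .nil (.node 1 (.node 0 .nil .nil) (.node 2 .nil .nil))) (.node 2 (.node 0 (.node 0 .nil .nil) (.node 1 (.node 4 .nil .nil) (.node 2 (.node 2 .nil .nil) (.node 3 (.node 0 .nil (.node 1 .nil .nil)) .nil)))) (.node 3 (.node 0 (.node 0 .nil .nil) (.node 1 .nil (.node 2 .nil (.node 3 (.node 1 .nil (.node 2 .nil (.node 3 .nil .nil))) (.node 4 .nil .nil))))) (.node 4 (.node 3 .nil .nil) .nil)))) .nil))))) (.node 1 (.node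 0 (.node 0 (.node 1 .nil (.node 2 (.node 0 .nil (.node 1 .nil (.node 3 .nil .nil))) (.node 3 (.node 0 .nil (.node 1 .nil (.node 2 .nil .nil))) (.node 4 (.node 2 .nil (.node 3 .nil .nil)) .nil)))) (.node 1 (.node 0 (.node 3 .nil .nil) (.node 3 (.node 2 .nil .nil) .nil)) (.node 2 (.node 1 (.node 3 .nil .nil) (.node 3 (.node 0 .nil (.node 2 .nil (.node 4 .nil .nil))) (.node 4 .nil .nil))) (.node 4 (.node 1 (.node 1 .nil .nil) (.node 2 .nil (.node 3 (.node 2 .nil .nil) (.node 4 .nil .nil)))) .nil)))) (.node 1 (.node 1 (.node 2 .nil (.node 4 .nil .nil)) (.node 2 (.node 0 .nil (.node 3 (.node 1 .nil .nil) (.node 4 (.node 0 .nil .nil) .nil))) (.node 3 (.node 0 (.node 1 .nil .nil) (.node 1 .nil (.node 2 (.node 0 .nil .nil) (.node 4 .nil .nil)))) (.node 4 (.node 2 .nil (.node 3 .nil .nil)) .nil)))) (.node 2 (.node 0 (.node 0 .nil (.node 3 (.node 3 .nil .nil) (.node 4 (.node 1 .nil (.node 4 .nil .nil)) .nil))) (.node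 2 (.node 2 .nil .nil) (.node 3 (.node 0 (.node 1 .nil (.node 3 .nil .nil)) (.node 1 (.node 0 .nil (.node 4 .nil .nil)) .nil)) .nil))) (.node 3 (.node 0 (.node 2 (.node 3 .nil .nil) (.node 3 .nil .nil)) (.node 1 (.node 0 .nil (.node 2 (.node 2 .nil .nil) (.node 4 (.node 2 .nil .nil) .nil))) (.node 2 (.node 0 .nil (.node 1 (.node 1 .nil .nil) (.node 2 (.node 0 .nil .nil) (.node 3 (.node 0 .nil .nil) (.node 4 (.node 4 .nil .nil) .nil))))) (.node 3 (.node 0 .nil (.node 1 (.node 2 .nil .nil) (.node 3 .nil (.node 4 (.node 2 .nil .nil) .nil)))) (.node 4 (.node 2 .nil (.node 3 .nil .nil)) .nil))))) .nil)))) (.node 2 (.node 0 (.node 0 (.node 3 .nil .nil) (.node 1 (.node 1 .nil (.node 2 .nil (.node 3 (.node 0 .nil .nil) .nil))) (.node 2 (.node 1 .nil (.node 3 (.node 0 .nil .nil) (.node 4 .nil .nil))) (.node 3 (.node 0 (.node 0 .nil .nil) (.node 1 .nil (.node 4 .nil .nil))) (.node 4 (.node 3 (.node 4 .nil .nil) (.node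 4 (.node 3 .nil .nil) .nil)) .nil))))) (.node 1 (.node 0 (.node 1 .nil (.node 3 .nil .nil)) (.node 1 (.node 1 .nil (.node 2 .nil .nil)) (.node 2 (.node 0 .nil (.node 3 .nil (.node 4 .nil .nil))) (.node 3 (.node 0 (.node 2 .nil .nil) (.node 1 (.node 1 .nil .nil) (.node 2 .nil (.node 3 .nil (.node 4 (.node 3 .nil .nil) .nil))))) (.node 4 (.node 0 (.node 0 .nil .nil) (.node 1 .nil .nil)) .nil))))) (.node 2 (.node 0 (.node 0 .nil (.node 1 (.node 3 .nil .nil) .nil)) (.node 1 (.node 1 .nil (.node 2 .nil (.node 3 (.node 1 .nil .nil) .nil))) (.node 2 (.node 0 .nil (.node 1 .nil (.node 2 .nil .nil))) (.node 3 (.node 0 .nil (.node 1 .nil (.node 4 .nil .nil))) (.node 4 (.node 0 (.node 1 .nil .nil) (.node 2 (.node 0 .nil .nil) (.node 4 .nil .nil))) .nil))))) (.node 3 (.node 0 (.node 2 .nil .nil) (.node 1 (.node 0 .nil (.node 3 (.node 0 .nil .nil) (.node 4 .nil .nil))) (.node 2 (.node 0 .nil (.node 1 .nil (.node 2 .nil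 (.node 4 .nil .nil)))) (.node 3 (.node 0 .nil (.node 1 (.node 3 .nil .nil) (.node 2 (.node 2 .nil .nil) (.node 3 .nil .nil)))) (.node 4 (.node 0 .nil (.node 1 .nil (.node 2 .nil (.node 3 .nil .nil)))) .nil))))) (.node 4 (.node 0 (.node 0 .nil .nil) (.node 2 (.node 4 .nil .nil) (.node 3 (.node 2 .nil (.node 3 .nil .nil)) (.node 4 (.node 0 .nil .nil) .nil)))) .nil))))) (.node 3 (.node 1 (.node 1 (.node 0 .nil (.node 2 .nil (.node 3 .nil .nil))) (.node 2 (.node 4 .nil .nil) (.node 3 (.node 0 .nil (.node 1 (.node 1 .nil .nil) (.node 2 .nil (.node 4 .nil .nil)))) .nil))) (.node 2 (.node 1 (.node 0 .nil .nil) (.node 2 (.node 0 (.node 0 .nil .nil) (.node 4 (.node 2 .nil (.node 4 .nil .nil)) .nil)) (.node 3 (.node 2 .nil (.node 3 .nil (.node 4 .nil .nil))) (.node 4 (.node 3 .nil (.node 4 .nil .nil)) .nil)))) (.node 3 (.node 0 (.node 1 .nil (.node 2 (.node 2 .nil .nil) .nil)) (.node 1 (.node 2 .nil .nil) (.node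 2 (.node 0 .nil (.node 1 .nil .nil)) (.node 3 (.node 1 (.node 1 .nil .nil) (.node 2 .nil .nil)) (.node 4 (.node 1 .nil (.node 4 .nil .nil)) .nil))))) (.node 4 (.node 0 (.node 0 .nil .nil) (.node 2 (.node 0 .nil (.node 1 .nil (.node 3 (.node 1 .nil .nil) .nil))) (.node 3 (.node 0 .nil (.node 1 .nil (.node 3 .nil (.node 4 .nil .nil)))) .nil))) .nil)))) (.node 4 (.node 0 (.node 0 (.node 1 .nil (.node 3 .nil .nil)) (.node 1 (.node 0 .nil (.node 2 .nil (.node 4 .nil .nil))) (.node 2 (.node 0 .nil (.node 1 .nil .nil)) (.node 3 (.node 3 .nil .nil) .nil)))) (.node 1 (.node 0 .nil (.node 1 (.node 1 .nil (.node 2 .nil (.node 3 .nil .nil))) (.node 2 (.node 4 .nil .nil) .nil))) (.node 2 (.node 1 (.node 2 .nil (.node 3 .nil (.node 4 .nil .nil))) (.node 3 (.node 1 .nil (.node 2 .nil .nil)) (.node 4 (.node 3 (.node 3 .nil .nil) .nil) .nil))) (.node 4 (.node 1 .nil (.node 2 (.node 0 .nil (.node 3 .nil .nil)) (.node 3 (.node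 0 .nil (.node 1 .nil .nil)) .nil))) .nil)))) .nil)))))

/-- Orbit tree (Oct6). -/
def treeOct6 : OrbTree :=
  (.node 0 (.node 0 (.node 1 (.node 0 (.node 3 .nil .nil) (.node 2 .nil (.node 3 .nil .nil))) (.node 2 (.node 0 (.node 1 .nil .nil) (.node 2 .nil (.node 4 .nil .nil))) (.node 3 .nil (.node 4 .nil .nil)))) (.node 1 (.node 0 (.node 0 .nil (.node 2 .nil (.node 4 .nil .nil))) (.node 1 (.node 0 .nil (.node 3 .nil (.node 4 .nil .nil))) (.node 2 (.node 1 .nil .nil) (.node 3 (.node 4 .nil .nil) (.node 4 (.node 0 .nil (.node 4 .nil .nil)) .nil))))) (.node 3 (.node 1 (.node 2 .nil (.node 4 .nil .nil)) (.node 2 (.node 3 .nil .nil) (.node 3 (.node 1 .nil (.node 2 .nil .nil)) (.node 4 (.node 0 .nil (.node 2 .nil .nil)) .nil)))) (.node 4 (.node 1 (.node 0 (.node 0 .nil .nil) (.node 4 .nil .nil)) (.node 2 .nil (.node 3 .nil (.node 4 (.node 1 .nil (.node 2 .nil .nil)) .nil)))) .nil)))) (.node 1 (.node 0 (.node 0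 (.node 1 .nil (.node 2 .nil .nil)) (.node 2 (.node 0 .nil (.node 1 .nil .nil)) (.node 3 .nil (.node 4 (.node 2 .nil .nil) .nil)))) (.node 1 (.node 0 .nil (.node 1 .nil (.node 2 .nil (.node 4 (.node 0 .nil (.node 4 .nil .nil)) .nil)))) (.node 2 (.node 1 .nil (.node 3 (.node 1 .nil .nil) .nil)) (.node 3 (.node 0 (.node 1 .nil .nil) (.node 2 .nil .nil)) (.node 4 (.node 0 .nil (.node 3 (.node 0 .nil .nil) (.node 4 .nil .nil))) .nil))))) (.node 2 (.node 0 (.node 0 .nil (.node 1 .nil (.node 2 .nil (.node 3 .nil .nil)))) (.node 2 (.node 1 (.node 0 .nil .nil) (.node 2 .nil (.node 4 .nil .nil))) (.node 3 (.node 4 .nil .nil) (.node 4 (.node 2 (.node 2 .nil .nil) (.node 3 .nil (.node 4 .nil .nil))) .nil)))) (.node 3 (.node 0 (.node 2 (.node 0 .nil .nil) (.node 3 (.node 1 .nil .nil) .nil)) (.node 1 (.node 1 .nil (.node 3 (.node 1 .nil .nil) .nil)) (.node 2 (.node 1 .nil (.node 2 .nil (.node 4 .nil .nil))) (.node 4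 (.node 2 .nil .nil) .nil)))) (.node 4 (.node 0 (.node 0 .nil (.node 1 .nil .nil)) (.node 1 (.node 0 .nil (.node 1 (.node 4 .nil .nil) (.node 2 .nil .nil))) (.node 2 (.node 3 .nil .nil) (.node 3 (.node 4 .nil .nil) (.node 4 .nil .nil))))) .nil)))))

/-- Orbit tree (Dod4). -/
def treeDod4 : OrbTree :=
  (.node 0 (.node 0 (.node 1 (.node 0 .nil (.node 1 (.node 4 .nil .nil) (.node 2 (.node 1 .nil (.node 3 .nil .nil)) .nil))) (.node 2 (.node 0 (.node 2 .nil .nil) (.node 1 (.node 0 .nil (.node 4 .nil .nil)) (.node 2 (.node 2 .nil (.node 3 .nil .nil)) (.node 3 (.node 3 .nil .nil) (.node 4 (.node 4 .nil .nil) .nil))))) (.node 3 (.node 0 (.node 4 .nil .nil) (.node 1 (.node 1 .nil (.node 4 .nil .nil)) (.node 2 (.node 1 .nil .nil) (.node 3 (.node 0 .nil (.node 1 .nil (.node 2 .nil (.node 3 .nil (.node 4 .nil .nil))))) (.node 4 (.node 2 .nil (.node 4 .nil .nil)) .nil))))) .nil))) (.node 1 (.node 0 (.node 1 (.node 0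 .nil (.node 2 .nil (.node 3 .nil .nil))) (.node 2 (.node 1 .nil (.node 3 .nil .nil)) (.node 3 .nil .nil))) (.node 1 (.node 0 (.node 0 .nil (.node 2 .nil (.node 4 .nil .nil))) (.node 1 .nil (.node 2 (.node 0 .nil .nil) (.node 3 (.node 0 .nil (.node 1 .nil .nil)) (.node 4 (.node 1 .nil .nil) .nil))))) (.node 2 (.node 0 (.node 3 .nil .nil) (.node 1 (.node 1 .nil .nil) (.node 2 (.node 0 .nil .nil) (.node 3 (.node 0 .nil .nil) .nil)))) (.node 4 (.node 1 .nil (.node 2 .nil (.node 3 (.node 0 .nil .nil) .nil))) .nil)))) (.node 2 (.node 0 (.node 0 (.node 3 .nil .nil) (.node 1 (.node 0 .nil .nil) (.node 3 (.node 0 .nil (.node 2 .nil .nil)) (.node 4 (.node 2 .nil (.node 4 .nil .nil)) .nil)))) (.node 1 (.node 1 .nil (.node 2 (.node 1 .nil (.node 4 .nil .nil)) (.node 3 .nil .nil))) (.node 2 (.node 0 .nil (.node 1 (.node 2 .nil .nil) (.node 2 (.node 0 .nil (.node 1 .nil .nil)) (.node 4 .nil .nil)))) (.node 3 (.node 1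 (.node 0 .nil (.node 4 .nil .nil)) (.node 2 (.node 1 .nil .nil) .nil)) (.node 4 (.node 0 .nil (.node 1 (.node 4 .nil .nil) (.node 2 (.node 1 .nil .nil) (.node 3 (.node 2 .nil .nil) (.node 4 (.node 1 .nil .nil) .nil))))) .nil))))) (.node 3 (.node 0 (.node 0 .nil (.node 3 .nil (.node 4 .nil .nil))) (.node 1 (.node 0 (.node 3 .nil .nil) (.node 1 (.node 3 .nil .nil) (.node 2 .nil (.node 3 (.node 4 .nil .nil) .nil)))) (.node 2 (.node 0 .nil (.node 1 (.node 1 .nil (.node 2 .nil (.node 4 .nil .nil))) (.node 4 (.node 1 .nil (.node 2 .nil .nil)) .nil))) (.node 4 (.node 1 .nil (.node 3 .nil (.node 4 .nil .nil))) .nil)))) (.node 4 (.node 1 (.node 1 .nil (.node 2 (.node 3 .nil .nil) (.node 3 .nil (.node 4 (.node 0 .nil .nil) .nil)))) (.node 2 (.node 0 .nil (.node 1 (.node 0 .nil (.node 2 .nil .nil)) (.node 2 (.node 4 .nil .nil) .nil))) (.node 3 (.node 0 (.node 1 .nil .nil) (.node 1 (.node 3 .nil .nil) (.node 4 (.node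 2 .nil .nil) .nil))) (.node 4 (.node 1 (.node 1 .nil .nil) (.node 2 (.node 0 .nil (.node 3 .nil .nil)) .nil)) .nil)))) .nil))))) (.node 1 (.node 0 (.node 1 (.node 1 .nil (.node 2 (.node 0 .nil (.node 4 .nil .nil)) (.node 3 (.node 3 .nil .nil) .nil))) (.node 2 (.node 1 (.node 0 .nil .nil) (.node 2 .nil (.node 4 .nil .nil))) (.node 3 (.node 1 (.node 1 .nil .nil) (.node 4 (.node 0 .nil .nil) .nil)) .nil))) (.node 1 (.node 0 (.node 0 .nil (.node 1 .nil (.node 2 .nil (.node 4 .nil .nil)))) (.node 3 (.node 1 .nil .nil) (.node 4 (.node 1 .nil (.node 2 (.node 1 .nil .nil) (.node 4 .nil .nil))) .nil))) (.node 2 (.node 0 (.node 2 .nil (.node 3 .nil (.node 4 (.node 1 .nil .nil) .nil))) (.node 1 (.node 2 (.node 1 .nil .nil) (.node 3 (.node 4 .nil .nil) (.node 4 (.node 1 .nil .nil) .nil))) (.node 2 (.node 0 (.node 1 .nil (.node 4 .nil .nil)) (.node 1 .nil (.node 2 (.node 1 .nil .nil) (.node 4 .nil .nil)))) (.node 3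 (.node 1 .nil (.node 2 .nil (.node 3 .nil (.node 4 .nil .nil)))) (.node 4 (.node 1 .nil (.node 2 .nil (.node 3 .nil (.node 4 .nil .nil)))) .nil))))) (.node 3 (.node 0 (.node 3 (.node 0 .nil .nil) (.node 4 (.node 2 .nil .nil) .nil)) (.node 1 (.node 3 .nil (.node 4 .nil .nil)) (.node 2 (.node 0 .nil (.node 1 (.node 2 .nil .nil) (.node 2 (.node 4 .nil .nil) (.node 4 (.node 1 .nil (.node 2 .nil .nil)) .nil)))) (.node 3 (.node 1 .nil (.node 2 .nil (.node 3 (.node 0 .nil .nil) .nil))) (.node 4 (.node 1 .nil (.node 3 .nil (.node 4 .nil .nil))) .nil))))) (.node 4 (.node 1 (.node 0 .nil (.node 4 (.node 2 .nil .nil) .nil)) (.node 2 (.node 0 .nil (.node 2 .nil (.node 4 .nil .nil))) (.node 3 (.node 0 .nil (.node 1 .nil .nil)) (.node 4 (.node 1 .nil (.node 2 .nil (.node 3 (.node 1 .nil .nil) .nil))) .nil)))) .nil))))) (.node 2 (.node 0 (.node 0 (.node 1 .nil (.node 4 .nil .nil)) (.node 1 (.node 2 .nil (.node 3 .nil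 (.node 4 (.node 2 .nil .nil) .nil))) (.node 2 (.node 0 .nil (.node 1 .nil (.node 2 .nil .nil))) (.node 4 (.node 1 .nil (.node 3 .nil .nil)) .nil)))) (.node 1 (.node 0 (.node 0 .nil (.node 2 .nil (.node 4 .nil .nil))) (.node 1 (.node 0 .nil (.node 1 .nil (.node 3 .nil .nil))) (.node 2 (.node 0 .nil (.node 2 .nil (.node 4 .nil .nil))) (.node 3 (.node 2 (.node 3 .nil .nil) (.node 4 (.node 3 .nil .nil) .nil)) (.node 4 (.node 0 .nil (.node 1 (.node 0 .nil (.node 1 .nil (.node 4 .nil .nil))) (.node 2 .nil (.node 4 .nil .nil)))) .nil))))) (.node 2 (.node 0 (.node 0 .nil (.node 3 .nil (.node 4 .nil .nil))) (.node 1 (.node 0 .nil (.node 1 (.node 2 .nil .nil) (.node 3 (.node 2 .nil .nil) .nil))) (.node 2 .nil (.node 3 (.node 0 .nil (.node 1 .nil (.node 2 .nil (.node 4 .nil .nil)))) (.node 4 (.node 0 .nil (.node 1 .nil (.node 3 .nil (.node 4 .nil .nil)))) .nil))))) (.node 3 (.node 0 (.node 0 .nil (.node 1 .nil (.node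 3 .nil (.node 4 .nil .nil)))) (.node 1 (.node 0 .nil (.node 2 .nil (.node 4 .nil .nil))) (.node 2 (.node 1 .nil (.node 2 .nil (.node 3 .nil .nil))) (.node 3 (.node 0 .nil .nil) (.node 4 (.node 0 .nil (.node 1 .nil .nil)) .nil))))) (.node 4 (.node 0 (.node 0 .nil (.node 1 .nil (.node 3 (.node 2 .nil .nil) .nil))) (.node 1 (.node 0 (.node 1 .nil .nil) (.node 1 .nil (.node 2 .nil (.node 4 .nil .nil)))) (.node 3 (.node 2 .nil (.node 3 .nil (.node 4 .nil .nil))) (.node 4 (.node 3 .nil .nil) .nil)))) .nil))))) (.node 3 (.node 0 (.node 0 (.node 4 .nil .nil) (.node 1 (.node 0 .nil (.node 4 .nil .nil)) (.node 2 (.node 1 .nil (.node 2 .nil .nil)) (.node 3 (.node 1 .nil (.node 3 .nil .nil)) (.node 4 (.node 1 .nil (.node 2 .nil (.node 3 .nil (.node 4 .nil .nil)))) .nil))))) (.node 1 (.node 1 (.node 0 .nil (.node 1 .nil (.node 2 .nil .nil))) (.node 2 (.node 2 .nil (.node 3 .nil .nil)) (.node 3 (.node 0 .nil (.node 2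 .nil .nil)) (.node 4 (.node 0 .nil (.node 1 .nil (.node 4 .nil .nil))) .nil)))) (.node 2 (.node 0 (.node 3 .nil .nil) (.node 2 (.node 0 .nil (.node 1 .nil .nil)) (.node 3 (.node 3 .nil .nil) .nil))) (.node 3 (.node 1 .nil (.node 2 (.node 1 .nil (.node 3 .nil .nil)) (.node 3 (.node 0 .nil (.node 1 .nil .nil)) (.node 4 (.node 0 .nil (.node 2 .nil .nil)) .nil)))) (.node 4 (.node 1 (.node 0 .nil .nil) (.node 3 (.node 3 .nil (.node 4 .nil .nil)) (.node 4 .nil .nil))) .nil))))) (.node 4 (.node 0 (.node 2 (.node 1 .nil (.node 2 .nil (.node 3 .nil .nil))) .nil) (.node 1 (.node 0 (.node 1 .nil (.node 3 .nil .nil)) (.node 1 (.node 1 .nil (.node 2 .nil (.node 4 .nil .nil))) (.node 2 (.node 1 .nil .nil) (.node 3 .nil (.node 4 (.node 0 .nil (.node 2 .nil .nil)) .nil))))) (.node 2 (.node 0 (.node 1 .nil (.node 3 .nil .nil)) (.node 1 (.node 4 .nil .nil) (.node 2 .nil (.node 3 (.node 1 .nil (.node 4 .nil .nil)) (.node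 4 .nil .nil))))) (.node 3 (.node 0 (.node 2 .nil (.node 3 .nil .nil)) (.node 1 (.node 0 .nil (.node 1 .nil .nil)) (.node 2 (.node 4 .nil .nil) (.node 3 (.node 2 .nil (.node 3 .nil .nil)) (.node 4 (.node 2 .nil (.node 4 .nil .nil)) .nil))))) (.node 4 (.node 1 (.node 0 .nil .nil) (.node 2 (.node 4 .nil .nil) (.node 3 (.node 2 .nil (.node 3 .nil .nil)) .nil))) .nil))))) .nil)))))

/-- Orbit tree (DodPt4). -/
def treeDodPt4 : OrbTree :=
  (.node 0 (.node 1 (.node 0 (.node 0 .nil .nil) (.node 1 (.node 2 .nil .nil) (.node 2 (.node 2 .nil (.node 3 .nil .nil)) (.node 4 (.node 0 (.node 0 .nil .nil) (.node 1 .nil .nil)) .nil)))) (.node 2 (.node 0 (.node 2 .nil (.node 4 .nil .nil)) (.node 1 .nil (.node 2 (.node 1 .nil (.node 2 .nil (.node 3 .nil (.node 4 .nil .nil)))) (.node 3 (.node 3 .nil (.node 4 .nil .nil)) (.node 4 (.node 0 .nil .nil) .nil))))) (.node 3 (.node 0 (.node 1 .nil .nil) (.node 1 (.node 0 .nil (.node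 2 .nil .nil)) (.node 2 (.node 2 .nil (.node 3 .nil (.node 4 .nil .nil))) (.node 3 (.node 2 .nil (.node 3 .nil .nil)) .nil)))) (.node 4 (.node 0 .nil (.node 1 (.node 4 .nil .nil) (.node 3 (.node 2 .nil .nil) (.node 4 (.node 3 .nil .nil) .nil)))) .nil)))) (.node 1 (.node 1 (.node 1 (.node 3 .nil .nil) (.node 2 (.node 1 .nil .nil) (.node 3 .nil (.node 4 (.node 1 .nil .nil) .nil)))) (.node 2 (.node 0 (.node 2 .nil .nil) (.node 1 (.node 4 .nil .nil) (.node 2 .nil (.node 4 (.node 2 .nil .nil) .nil)))) (.node 3 (.node 0 (.node 0 .nil (.node 4 .nil .nil)) (.node 1 (.node 2 .nil (.node 3 .nil (.node 4 .nil .nil))) (.node 3 (.node 2 .nil .nil) .nil))) (.node 4 (.node 0 .nil (.node 1 (.node 0 .nil .nil) .nil)) .nil)))) (.node 2 (.node 0 (.node 1 .nil (.node 2 (.node 2 .nil .nil) (.node 4 (.node 1 .nil .nil) .nil))) (.node 1 (.node 0 (.node 0 .nil (.node 1 .nil .nil)) (.node 1 (.node 0 .nil (.node 3 .nil (.node 4 .nil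 .nil))) (.node 3 .nil (.node 4 (.node 1 .nil .nil) .nil)))) (.node 2 (.node 0 (.node 0 .nil (.node 2 .nil .nil)) (.node 1 .nil (.node 2 .nil (.node 3 (.node 3 .nil .nil) .nil)))) (.node 3 (.node 1 .nil (.node 2 .nil (.node 3 .nil (.node 4 .nil .nil)))) (.node 4 (.node 0 (.node 2 .nil .nil) (.node 2 (.node 0 .nil (.node 4 .nil .nil)) (.node 4 .nil .nil))) .nil))))) (.node 3 (.node 0 (.node 0 .nil (.node 1 (.node 2 .nil (.node 3 .nil .nil)) (.node 2 .nil (.node 3 .nil .nil)))) (.node 1 (.node 0 (.node 1 .nil .nil) (.node 1 .nil (.node 2 .nil (.node 3 .nil (.node 4 .nil .nil))))) (.node 2 (.node 0 .nil (.node 2 .nil (.node 4 .nil .nil))) (.node 3 (.node 0 .nil (.node 1 .nil (.node 4 .nil .nil))) (.node 4 (.node 0 (.node 2 .nil .nil) (.node 2 (.node 0 .nil (.node 4 .nil .nil)) (.node 4 (.node 0 .nil .nil) .nil))) .nil))))) (.node 4 (.node 0 (.node 0 .nil (.node 1 (.node 3 .nil .nil) (.node 3 .nil .nil))) (.node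 1 (.node 2 (.node 0 .nil .nil) (.node 3 .nil .nil)) (.node 4 (.node 0 .nil (.node 1 .nil (.node 4 (.node 3 .nil .nil) .nil))) .nil))) .nil)))))

/-- Orbit tree (Dod6). -/
def treeDod6 : OrbTree :=
  (.node 0 (.node 0 (.node 1 (.node 0 (.node 0 (.node 1 .nil .nil) (.node 1 (.node 0 .nil (.node 1 .nil (.node 3 .nil .nil))) (.node 2 (.node 2 .nil (.node 3 .nil (.node 4 .nil .nil))) (.node 3 .nil (.node 4 .nil .nil))))) (.node 1 (.node 3 (.node 2 .nil (.node 4 .nil .nil)) (.node 4 .nil .nil)) (.node 2 (.node 1 .nil (.node 4 (.node 3 .nil .nil) .nil)) (.node 3 (.node 0 (.node 1 .nil (.node 2 .nil (.node 3 .nil .nil))) (.node 2 .nil (.node 4 (.node 0 .nil .nil) .nil))) (.node 4 (.node 0 (.node 0 .nil .nil) (.node 2 (.node 1 .nil .nil) (.node 3 (.node 4 .nil .nil) (.node 4 (.node 0 .nil (.node 3 .nil .nil)) .nil)))) .nil))))) (.node 2 (.node 0 (.node 0 (.node 3 .nil (.node 4 .nil .nil)) (.node 3 (.node 3 .nil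 .nil) .nil)) (.node 1 (.node 0 .nil (.node 1 .nil (.node 3 (.node 3 .nil .nil) (.node 4 (.node 3 .nil .nil) .nil)))) (.node 3 (.node 0 (.node 2 .nil .nil) (.node 1 (.node 3 .nil .nil) (.node 2 .nil (.node 3 (.node 0 .nil .nil) (.node 4 (.node 0 .nil .nil) .nil))))) (.node 4 (.node 0 (.node 0 .nil (.node 2 .nil .nil)) (.node 2 .nil .nil)) .nil)))) (.node 3 (.node 0 .nil (.node 1 (.node 0 .nil (.node 1 .nil .nil)) (.node 2 (.node 0 .nil (.node 1 (.node 4 .nil .nil) (.node 2 (.node 1 .nil .nil) (.node 3 (.node 0 .nil .nil) .nil)))) (.node 3 (.node 0 (.node 3 .nil .nil) (.node 1 .nil (.node 2 .nil (.node 4 .nil .nil)))) (.node 4 (.node 0 (.node 0 .nil .nil) .nil) .nil))))) (.node 4 (.node 1 (.node 0 .nil (.node 1 (.node 4 .nil .nil) (.node 3 (.node 1 .nil (.node 2 .nil .nil)) .nil))) (.node 2 (.node 1 (.node 2 .nil .nil) (.node 3 .nil .nil)) (.node 3 (.node 1 .nil (.node 3 (.node 1 .nil (.node 2 .nil .nil))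 .nil)) .nil))) .nil)))) (.node 1 (.node 0 (.node 1 (.node 1 .nil (.node 2 (.node 2 .nil .nil) (.node 3 .nil .nil))) (.node 2 (.node 2 .nil (.node 3 .nil (.node 4 .nil .nil))) (.node 3 (.node 1 .nil (.node 2 (.node 1 .nil (.node 3 .nil .nil)) (.node 4 .nil .nil))) (.node 4 (.node 1 (.node 3 .nil .nil) (.node 2 .nil (.node 3 (.node 2 .nil .nil) .nil))) .nil)))) (.node 1 (.node 0 (.node 0 (.node 1 .nil .nil) (.node 1 (.node 0 .nil (.node 1 .nil (.node 4 .nil .nil))) (.node 2 (.node 1 .nil (.node 4 .nil .nil)) (.node 3 .nil .nil)))) (.node 1 (.node 0 .nil (.node 1 .nil (.node 2 (.node 1 .nil .nil) (.node 3 .nil .nil)))) (.node 2 (.node 0 (.node 3 .nil .nil) (.node 1 (.node 3 .nil .nil) (.node 2 (.node 2 .nil (.node 4 .nil .nil)) (.node 3 (.node 1 .nil .nil) (.node 4 .nil .nil))))) (.node 3 (.node 0 .nil (.node 2 (.node 0 .nil .nil) (.node 4 .nil .nil))) (.node 4 (.node 0 .nil (.node 3 .nil (.node 4 (.node 2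 .nil .nil) .nil))) .nil))))) (.node 2 (.node 0 (.node 1 .nil (.node 3 (.node 1 .nil (.node 3 .nil .nil)) (.node 4 .nil .nil))) (.node 1 (.node 0 .nil (.node 1 (.node 2 .nil .nil) (.node 3 (.node 2 .nil .nil) (.node 4 .nil .nil)))) (.node 2 (.node 0 .nil (.node 1 (.node 4 .nil .nil) (.node 2 .nil (.node 3 (.node 1 .nil .nil) .nil)))) (.node 3 (.node 0 (.node 3 .nil .nil) (.node 2 .nil (.node 4 .nil .nil))) (.node 4 (.node 0 (.node 2 .nil .nil) (.node 2 (.node 4 .nil .nil) (.node 4 (.node 0 .nil .nil) .nil))) .nil))))) (.node 3 (.node 0 (.node 0 (.node 1 .nil .nil) (.node 1 .nil (.node 2 .nil (.node 3 (.node 0 .nil .nil) (.node 4 (.node 4 .nil .nil) .nil))))) (.node 1 (.node 1 .nil (.node 4 (.node 4 .nil .nil) .nil)) (.node 2 (.node 0 .nil (.node 2 (.node 4 .nil .nil) (.node 3 .nil .nil))) (.node 3 (.node 1 .nil (.node 2 .nil (.node 3 (.node 1 .nil (.node 2 .nil .nil)) (.node 4 (.node 1 .nil (.node 2 .nil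 .nil)) .nil)))) (.node 4 (.node 0 (.node 0 .nil .nil) (.node 1 .nil (.node 3 (.node 4 .nil .nil) .nil))) .nil))))) (.node 4 (.node 0 (.node 0 .nil (.node 1 (.node 3 .nil .nil) (.node 2 (.node 0 .nil .nil) .nil))) (.node 1 (.node 1 (.node 0 .nil .nil) .nil) (.node 2 (.node 3 .nil .nil) (.node 3 (.node 0 .nil (.node 1 (.node 0 .nil .nil) (.node 4 (.node 0 .nil (.node 2 .nil (.node 4 .nil .nil))) .nil))) (.node 4 (.node 0 .nil (.node 1 .nil (.node 2 .nil (.node 3 .nil .nil)))) .nil))))) .nil))))) (.node 2 (.node 0 (.node 0 (.node 2 (.node 3 .nil .nil) .nil) (.node 1 (.node 1 (.node 0 .nil .nil) (.node 2 (.node 3 .nil (.node 4 .nil .nil)) (.node 3 (.node 2 .nil .nil) .nil))) (.node 2 (.node 0 (.node 0 .nil .nil) (.node 1 .nil (.node 4 .nil .nil))) (.node 3 (.node 0 .nil (.node 2 .nil (.node 3 (.node 2 .nil (.node 4 .nil .nil)) (.node 4 (.node 1 .nil .nil) .nil)))) (.node 4 (.node 2 .nil (.node 3 .nil .nil))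 .nil))))) (.node 1 (.node 0 (.node 1 .nil (.node 2 (.node 4 .nil .nil) (.node 3 .nil (.node 4 .nil .nil)))) (.node 1 (.node 0 .nil .nil) (.node 2 (.node 1 (.node 4 .nil .nil) (.node 3 .nil (.node 4 .nil .nil))) (.node 3 (.node 0 .nil (.node 2 .nil (.node 4 .nil .nil))) (.node 4 (.node 1 .nil (.node 2 .nil (.node 4 .nil .nil))) .nil))))) (.node 2 (.node 0 (.node 0 .nil (.node 2 .nil (.node 3 .nil (.node 4 .nil .nil)))) (.node 1 (.node 0 .nil (.node 2 (.node 0 .nil (.node 2 .nil .nil)) (.node 4 .nil .nil))) (.node 2 (.node 0 .nil (.node 1 .nil (.node 3 .nil .nil))) (.node 3 (.node 1 .nil (.node 3 .nil .nil)) (.node 4 (.node 0 .nil (.node 3 .nil (.node 4 .nil .nil))) .nil))))) (.node 3 (.node 0 (.node 1 .nil (.node 2 (.node 4 .nil .nil) (.node 3 .nil .nil))) (.node 1 (.node 1 .nil (.node 2 .nil (.node 4 .nil .nil))) (.node 2 (.node 0 (.node 2 .nil .nil) (.node 1 .nil (.node 3 .nil .nil))) (.node 3 (.node 0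 .nil .nil) (.node 4 (.node 0 .nil (.node 1 .nil (.node 4 .nil .nil))) .nil))))) (.node 4 (.node 2 (.node 0 .nil (.node 1 (.node 4 .nil .nil) (.node 2 (.node 0 .nil .nil) (.node 4 .nil .nil)))) (.node 3 (.node 0 (.node 0 .nil .nil) (.node 2 (.node 4 .nil .nil) (.node 3 .nil .nil))) (.node 4 (.node 3 .nil .nil) .nil))) .nil))))) (.node 3 (.node 0 (.node 0 (.node 1 (.node 0 .nil (.node 2 .nil (.node 4 .nil .nil))) (.node 2 .nil (.node 3 .nil .nil))) (.node 1 (.node 0 .nil (.node 2 .nil (.node 4 .nil .nil))) (.node 2 (.node 0 .nil (.node 1 .nil (.node 3 (.node 3 .nil (.node 4 .nil .nil)) .nil))) (.node 3 (.node 0 .nil (.node 1 (.node 3 .nil .nil) (.node 2 (.node 4 .nil .nil) (.node 3 (.node 1 .nil .nil) .nil)))) (.node 4 .nil .nil))))) (.node 1 (.node 0 (.node 0 (.node 2 .nil .nil) .nil) (.node 1 (.node 0 .nil (.node 2 (.node 4 .nil .nil) (.node 3 (.node 4 .nil .nil) (.node 4 .nil .nil)))) (.node 2 (.node 0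 .nil (.node 1 .nil .nil)) (.node 3 (.node 1 .nil (.node 2 (.node 1 .nil (.node 3 .nil .nil)) (.node 4 .nil .nil))) (.node 4 (.node 0 .nil (.node 4 .nil .nil)) .nil))))) (.node 2 (.node 0 (.node 0 .nil (.node 3 .nil .nil)) (.node 1 (.node 0 .nil (.node 2 (.node 4 .nil .nil) (.node 3 .nil (.node 4 (.node 0 .nil .nil) .nil)))) (.node 2 (.node 0 .nil (.node 2 .nil .nil)) (.node 3 (.node 0 (.node 0 .nil (.node 4 .nil .nil)) (.node 2 .nil .nil)) .nil)))) (.node 3 (.node 0 (.node 1 .nil (.node 2 (.node 1 .nil (.node 2 .nil .nil)) (.node 3 .nil .nil))) (.node 2 (.node 0 .nil (.node 3 (.node 0 .nil .nil) (.node 4 .nil .nil))) (.node 3 (.node 1 .nil .nil) .nil))) (.node 4 (.node 1 (.node 0 .nil (.node 1 .nil (.node 3 (.node 0 .nil .nil) .nil))) (.node 2 (.node 2 .nil .nil) (.node 3 (.node 1 .nil (.node 2 (.node 3 .nil .nil) .nil)) .nil))) .nil))))) (.node 4 (.node 1 (.node 0 (.node 1 (.node 1 .nil .nil) (.node 2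 .nil (.node 3 (.node 1 .nil .nil) (.node 4 (.node 2 .nil .nil) .nil)))) (.node 1 (.node 3 .nil (.node 4 (.node 3 .nil .nil) .nil)) (.node 3 (.node 0 .nil (.node 1 (.node 1 .nil .nil) .nil)) (.node 4 (.node 0 .nil (.node 2 .nil (.node 3 .nil .nil))) .nil)))) (.node 2 (.node 0 (.node 0 (.node 1 .nil .nil) (.node 1 .nil (.node 3 .nil .nil))) (.node 2 (.node 0 (.node 3 .nil .nil) .nil) (.node 3 (.node 0 (.node 4 .nil .nil) (.node 1 .nil (.node 4 .nil .nil))) (.node 4 (.node 2 .nil (.node 3 .nil (.node 4 .nil .nil))) .nil)))) (.node 4 (.node 0 (.node 2 .nil .nil) (.node 1 (.node 3 (.node 3 .nil .nil) (.node 4 .nil .nil)) (.node 2 (.node 1 .nil (.node 2 (.node 1 .nil .nil) .nil)) (.node 3 (.node 1 .nil (.node 2 .nil (.node 3 .nil (.node 4 (.node 0 .nil .nil) .nil)))) .nil)))) .nil))) .nil))))) (.node 1 (.node 0 (.node 0 (.node 1 (.node 0 .nil (.node 4 .nil .nil)) (.node 2 (.node 1 (.node 4 .nil .nil) (.node 2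 .nil (.node 3 (.node 1 .nil .nil) (.node 4 (.node 2 .nil .nil) .nil)))) (.node 4 (.node 2 .nil (.node 3 (.node 2 .nil .nil) .nil)) .nil))) (.node 1 (.node 0 (.node 3 .nil (.node 4 .nil .nil)) (.node 1 (.node 0 (.node 3 .nil .nil) (.node 3 .nil (.node 4 (.node 4 .nil .nil) .nil))) (.node 3 (.node 0 .nil (.node 1 .nil (.node 3 .nil .nil))) .nil))) (.node 2 (.node 1 (.node 3 .nil (.node 4 .nil .nil)) (.node 2 (.node 0 .nil (.node 1 .nil (.node 2 .nil (.node 4 (.node 4 .nil .nil) .nil)))) (.node 3 (.node 0 .nil (.node 3 .nil .nil)) (.node 4 (.node 0 .nil (.node 3 .nil .nil)) .nil)))) (.node 3 (.node 0 (.node 1 (.node 0 .nil .nil) (.node 2 .nil (.node 3 .nil (.node 4 (.node 4 .nil .nil) .nil)))) (.node 1 (.node 0 .nil (.node 1 .nil (.node 3 (.node 2 .nil .nil) .nil))) (.node 2 (.node 1 .nil (.node 2 (.node 0 .nil .nil) (.node 3 .nil .nil))) (.node 3 .nil (.node 4 (.node 1 (.node 1 .nil .nil) (.node 2 (.node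 4 .nil .nil) (.node 3 .nil (.node 4 (.node 1 .nil .nil) .nil)))) .nil))))) (.node 4 (.node 1 (.node 0 .nil (.node 2 .nil (.node 4 .nil .nil))) (.node 2 (.node 0 (.node 3 .nil .nil) (.node 3 (.node 3 .nil .nil) (.node 4 .nil .nil))) (.node 3 (.node 0 (.node 1 .nil .nil) (.node 1 .nil (.node 2 .nil (.node 3 .nil .nil)))) .nil))) .nil))))) (.node 1 (.node 0 (.node 0 (.node 1 (.node 4 .nil .nil) (.node 2 .nil .nil)) (.node 1 (.node 0 .nil (.node 1 .nil (.node 2 .nil (.node 4 .nil .nil)))) (.node 2 (.node 0 .nil (.node 2 .nil (.node 4 (.node 0 .nil (.node 4 .nil .nil)) .nil))) .nil))) (.node 1 (.node 1 (.node 2 .nil .nil) (.node 2 (.node 1 .nil (.node 2 .nil (.node 3 .nil .nil))) .nil)) (.node 2 (.node 0 (.node 3 .nil (.node 4 .nil .nil)) (.node 1 (.node 0 .nil (.node 1 .nil (.node 2 .nil (.node 3 (.node 0 .nil .nil) .nil)))) (.node 2 (.node 0 .nil (.node 3 .nil (.node 4 .nil .nil))) (.node 3 (.node 1 (.node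 1 .nil (.node 3 .nil .nil)) (.node 2 (.node 0 .nil .nil) (.node 4 (.node 0 .nil .nil) .nil))) (.node 4 (.node 0 (.node 3 .nil .nil) (.node 1 (.node 2 .nil .nil) .nil)) .nil))))) (.node 3 (.node 0 (.node 1 .nil (.node 2 (.node 4 .nil .nil) (.node 4 .nil .nil))) (.node 1 (.node 1 .nil (.node 3 (.node 3 .nil .nil) (.node 4 .nil .nil))) (.node 2 (.node 0 (.node 0 .nil .nil) (.node 1 .nil (.node 2 .nil (.node 3 .nil .nil)))) (.node 3 (.node 4 .nil .nil) (.node 4 (.node 1 (.node 1 .nil .nil) .nil) .nil))))) (.node 4 (.node 0 (.node 1 .nil (.node 3 (.node 0 .nil .nil) .nil)) (.node 1 (.node 0 .nil (.node 1 .nil (.node 3 (.node 2 .nil .nil) .nil))) (.node 2 (.node 0 .nil (.node 1 .nil .nil)) (.node 3 (.node 1 .nil (.node 2 (.node 2 .nil .nil) .nil)) (.node 4 (.node 1 .nil (.node 2 .nil (.node 3 .nil .nil))) .nil))))) .nil))))) (.node 2 (.node 0 (.node 0 (.node 1 (.node 4 .nil .nil) (.node 2 .nil (.node 3 (.node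 0 .nil .nil) (.node 4 .nil .nil)))) (.node 1 (.node 0 .nil .nil) (.node 2 (.node 1 .nil (.node 3 (.node 1 .nil .nil) .nil)) (.node 3 (.node 0 (.node 1 .nil .nil) (.node 4 (.node 2 .nil .nil) .nil)) (.node 4 (.node 1 .nil (.node 2 .nil (.node 4 .nil .nil))) .nil))))) (.node 1 (.node 0 (.node 1 .nil (.node 2 .nil .nil)) (.node 1 (.node 1 .nil (.node 2 .nil (.node 3 .nil .nil))) (.node 2 (.node 1 .nil (.node 4 .nil .nil)) (.node 3 (.node 4 (.node 2 .nil .nil) .nil) (.node 4 (.node 1 (.node 1 .nil .nil) (.node 2 .nil (.node 3 .nil .nil))) .nil))))) (.node 2 (.node 0 (.node 3 .nil (.node 4 (.node 4 .nil .nil) .nil)) (.node 1 (.node 1 .nil (.node 2 .nil (.node 3 .nil .nil))) (.node 2 (.node 1 .nil (.node 2 .nil .nil)) (.node 3 (.node 1 .nil .nil) (.node 4 (.node 1 .nil (.node 3 .nil (.node 4 (.node 3 .nil .nil) .nil))) .nil))))) (.node 3 (.node 0 .nil (.node 1 (.node 1 .nil .nil) (.node 2 (.node 0 .nil (.node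 1 .nil (.node 2 (.node 2 .nil .nil) .nil))) (.node 3 (.node 1 .nil (.node 4 .nil .nil)) (.node 4 (.node 1 (.node 0 .nil .nil) (.node 3 .nil (.node 4 .nil .nil))) .nil))))) (.node 4 (.node 0 (.node 0 .nil .nil) (.node 1 (.node 1 .nil (.node 3 .nil (.node 4 .nil .nil))) (.node 2 (.node 0 .nil (.node 1 .nil (.node 2 .nil (.node 4 .nil .nil)))) (.node 3 (.node 0 .nil (.node 2 .nil (.node 3 .nil .nil))) (.node 4 (.node 1 .nil (.node 2 (.node 4 .nil .nil) (.node 3 .nil .nil))) .nil))))) .nil))))) (.node 3 (.node 0 (.node 1 (.node 3 .nil (.node 4 .nil .nil)) (.node 2 (.node 0 .nil (.node 4 .nil .nil)) (.node 3 (.node 3 .nil .nil) (.node 4 .nil .nil)))) (.node 1 (.node 0 (.node 0 (.node 3 .nil .nil) (.node 2 .nil .nil)) (.node 1 (.node 2 .nil .nil) (.node 2 (.node 1 .nil (.node 2 .nil (.node 3 .nil .nil))) (.node 4 (.node 2 .nil (.node 4 .nil .nil)) .nil)))) (.node 2 (.node 1 .nil (.node 2 (.node 0 .nil (.node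 4 .nil .nil)) (.node 3 (.node 0 .nil (.node 3 .nil (.node 4 .nil .nil))) (.node 4 (.node 0 .nil (.node 3 (.node 2 .nil .nil) .nil)) .nil)))) (.node 3 (.node 1 (.node 1 .nil (.node 2 .nil (.node 3 .nil (.node 4 .nil .nil)))) (.node 3 .nil (.node 4 (.node 0 .nil (.node 1 (.node 0 .nil .nil) (.node 2 .nil (.node 4 .nil .nil)))) .nil))) (.node 4 (.node 1 (.node 0 .nil (.node 4 .nil .nil)) (.node 2 (.node 3 .nil (.node 4 .nil .nil)) (.node 3 (.node 1 .nil (.node 2 .nil (.node 4 .nil .nil))) (.node 4 (.node 1 .nil (.node 2 .nil (.node 3 .nil .nil))) .nil)))) .nil))))) (.node 4 (.node 0 (.node 0 (.node 1 .nil (.node 2 .nil .nil)) (.node 1 (.node 0 .nil (.node 2 .nil .nil)) (.node 2 .nil (.node 3 (.node 1 .nil (.node 3 .nil .nil)) .nil)))) (.node 1 (.node 0 (.node 2 .nil (.node 3 .nil .nil)) (.node 2 (.node 4 .nil .nil) (.node 3 .nil .nil))) (.node 2 (.node 0 (.node 1 .nil (.node 2 .nil (.node 3 .nil .nil))) (.node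 1 (.node 1 .nil (.node 3 .nil (.node 4 (.node 2 .nil .nil) .nil))) (.node 2 (.node 0 .nil (.node 1 .nil (.node 4 .nil .nil))) (.node 3 (.node 1 .nil (.node 3 .nil (.node 4 (.node 4 .nil .nil) .nil))) .nil)))) (.node 3 (.node 0 (.node 0 .nil (.node 3 .nil (.node 4 .nil .nil))) (.node 1 (.node 1 .nil .nil) (.node 2 (.node 0 .nil (.node 1 .nil (.node 2 .nil .nil))) (.node 3 .nil (.node 4 (.node 0 .nil .nil) .nil))))) (.node 4 (.node 0 (.node 1 (.node 1 .nil .nil) (.node 2 .nil .nil)) (.node 2 (.node 0 .nil (.node 3 .nil .nil)) (.node 3 (.node 0 .nil (.node 4 .nil .nil)) .nil))) .nil))))) .nil))))) (.node 2 (.node 0 (.node 0 (.node 2 (.node 1 .nil (.node 2 .nil (.node 4 .nil .nil))) (.node 3 (.node 1 .nil (.node 2 .nil (.node 3 .nil (.node 4 (.node 4 .nil .nil) .nil)))) .nil)) (.node 1 (.node 0 (.node 0 .nil (.node 4 .nil .nil)) (.node 1 (.node 0 .nil (.node 2 .nil (.node 4 .nil .nil))) (.node 2 .nil (.node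 3 (.node 0 .nil (.node 2 .nil .nil)) (.node 4 (.node 0 .nil (.node 4 .nil .nil)) .nil))))) (.node 2 (.node 0 (.node 0 .nil (.node 4 .nil .nil)) (.node 1 .nil (.node 4 (.node 1 .nil (.node 2 .nil .nil)) .nil))) (.node 3 (.node 0 (.node 0 .nil (.node 4 .nil .nil)) (.node 1 (.node 0 .nil .nil) (.node 2 .nil (.node 4 (.node 0 .nil (.node 1 .nil (.node 4 (.node 0 .nil .nil) .nil))) .nil)))) (.node 4 (.node 1 (.node 2 .nil .nil) (.node 3 (.node 1 .nil (.node 4 .nil .nil)) .nil)) .nil))))) (.node 1 (.node 0 (.node 0 (.node 1 .nil (.node 2 .nil (.node 4 .nil .nil))) (.node 1 (.node 0 .nil (.node 1 .nil .nil)) (.node 2 (.node 0 .nil .nil) (.node 3 (.node 2 .nil (.node 3 .nil .nil)) (.node 4 (.node 2 .nil .nil) .nil))))) (.node 2 (.node 0 (.node 1 .nil (.node 2 .nil (.node 3 .nil (.node 4 .nil .nil)))) (.node 1 (.node 3 .nil (.node 4 .nil .nil)) (.node 2 (.node 0 .nil (.node 1 .nil (.node 2 .nil (.node 4 .nil .nil))))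 (.node 3 .nil .nil)))) (.node 3 (.node 0 (.node 2 .nil .nil) (.node 1 (.node 0 .nil (.node 1 .nil .nil)) (.node 2 (.node 0 .nil (.node 2 (.node 1 .nil .nil) (.node 3 .nil .nil))) (.node 3 (.node 1 .nil .nil) (.node 4 (.node 1 (.node 1 .nil .nil) (.node 3 (.node 2 .nil .nil) .nil)) .nil))))) (.node 4 (.node 1 (.node 0 .nil .nil) (.node 2 .nil (.node 3 (.node 1 .nil (.node 2 .nil (.node 4 .nil .nil))) (.node 4 (.node 0 .nil (.node 2 .nil (.node 3 .nil .nil))) .nil)))) .nil)))) (.node 2 (.node 0 (.node 0 (.node 2 .nil (.node 3 .nil .nil)) (.node 1 (.node 1 .nil (.node 2 .nil (.node 3 .nil .nil))) (.node 2 (.node 2 .nil (.node 3 .nil .nil)) (.node 3 (.node 1 .nil (.node 3 .nil .nil)) (.node 4 (.node 1 .nil (.node 2 .nil .nil)) .nil))))) (.node 1 (.node 0 (.node 1 .nil (.node 2 .nil .nil)) (.node 2 (.node 1 .nil (.node 2 .nil .nil)) (.node 4 (.node 2 .nil .nil) .nil))) (.node 2 (.node 1 (.node 2 .nil (.node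 4 .nil .nil)) (.node 2 (.node 0 .nil (.node 1 .nil (.node 4 .nil .nil))) (.node 3 (.node 0 .nil (.node 3 .nil .nil)) (.node 4 (.node 1 (.node 2 .nil .nil) .nil) .nil)))) (.node 3 (.node 0 (.node 2 .nil (.node 3 .nil (.node 4 .nil .nil))) (.node 1 (.node 1 .nil .nil) (.node 2 (.node 1 .nil .nil) (.node 3 .nil .nil)))) (.node 4 (.node 0 (.node 3 .nil .nil) (.node 1 (.node 0 .nil .nil) (.node 2 (.node 1 .nil (.node 3 .nil .nil)) (.node 3 (.node 1 .nil .nil) .nil)))) .nil))))) (.node 3 (.node 0 (.node 0 .nil (.node 1 (.node 1 .nil (.node 3 .nil (.node 4 .nil .nil))) (.node 2 .nil (.node 4 (.node 1 .nil (.node 2 .nil .nil)) .nil)))) (.node 1 (.node 0 (.node 1 .nil (.node 2 (.node 1 .nil .nil) .nil)) (.node 2 (.node 1 .nil .nil) (.node 3 (.node 2 .nil (.node 4 .nil .nil)) (.node 4 .nil .nil)))) (.node 2 (.node 0 (.node 0 .nil (.node 1 .nil (.node 2 .nil (.node 3 .nil .nil)))) (.node 1 (.node 1 .nil (.node 4 .nil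 .nil)) (.node 2 (.node 2 .nil (.node 3 .nil .nil)) (.node 3 (.node 2 .nil .nil) (.node 4 (.node 2 .nil .nil) .nil))))) (.node 3 (.node 0 (.node 0 .nil (.node 1 .nil (.node 3 .nil .nil))) (.node 1 (.node 0 .nil (.node 2 .nil .nil)) (.node 2 .nil (.node 3 (.node 4 .nil .nil) (.node 4 (.node 1 .nil (.node 3 .nil (.node 4 .nil .nil))) .nil))))) (.node 4 (.node 0 .nil (.node 1 .nil (.node 2 (.node 2 .nil .nil) (.node 3 (.node 0 .nil (.node 2 .nil (.node 3 .nil (.node 4 .nil .nil)))) (.node 4 (.node 0 .nil .nil) .nil))))) .nil))))) (.node 4 (.node 1 (.node 1 (.node 0 .nil (.node 3 .nil (.node 4 .nil .nil))) (.node 2 (.node 1 .nil .nil) (.node 3 (.node 0 .nil .nil) (.node 4 .nil .nil)))) (.node 2 .nil (.node 3 (.node 0 (.node 0 .nil .nil) (.node 1 (.node 2 .nil (.node 3 .nil .nil)) (.node 3 (.node 0 .nil (.node 4 (.node 0 .nil .nil) .nil)) (.node 4 (.node 0 .nil (.node 3 .nil (.node 4 .nil .nil))) .nil)))) (.node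 4 (.node 3 (.node 0 .nil (.node 4 .nil .nil)) .nil) .nil)))) .nil))))) (.node 3 (.node 0 (.node 0 (.node 1 (.node 3 .nil (.node 4 .nil .nil)) (.node 2 (.node 2 .nil (.node 3 .nil (.node 4 .nil .nil))) (.node 3 (.node 1 .nil (.node 4 .nil .nil)) .nil))) (.node 1 (.node 0 (.node 3 .nil .nil) (.node 1 (.node 3 .nil (.node 4 .nil .nil)) (.node 3 (.node 0 .nil (.node 1 .nil (.node 4 .nil .nil))) .nil))) (.node 2 (.node 1 (.node 1 .nil (.node 3 .nil (.node 4 .nil .nil))) (.node 3 (.node 1 .nil (.node 3 .nil (.node 4 .nil .nil))) (.node 4 .nil .nil))) (.node 3 (.node 0 (.node 0 .nil .nil) (.node 1 (.node 1 .nil .nil) (.node 2 (.node 2 .nil (.node 3 .nil .nil)) (.node 4 (.node 0 .nil (.node 3 .nil (.node 4 .nil .nil))) .nil)))) .nil)))) (.node 1 (.node 0 (.node 2 (.node 0 .nil (.node 1 .nil (.node 2 .nil .nil))) .nil) (.node 1 (.node 0 .nil (.node 1 .nil (.node 2 (.node 0 .nil (.node 3 .nil .nil)) (.node 3 .nil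 .nil)))) (.node 2 (.node 1 (.node 4 .nil .nil) (.node 3 (.node 4 .nil .nil) (.node 4 .nil .nil))) (.node 3 (.node 0 (.node 4 .nil .nil) (.node 1 (.node 2 .nil .nil) (.node 2 (.node 1 .nil .nil) (.node 4 (.node 0 .nil (.node 2 .nil (.node 4 .nil .nil))) .nil)))) (.node 4 (.node 0 (.node 1 .nil .nil) (.node 2 (.node 2 .nil (.node 3 .nil .nil)) (.node 4 (.node 2 .nil .nil) .nil))) .nil))))) (.node 2 (.node 0 (.node 0 (.node 1 .nil (.node 3 .nil .nil)) (.node 1 .nil (.node 2 (.node 1 .nil (.node 3 .nil .nil)) (.node 3 (.node 0 .nil .nil) (.node 4 .nil .nil))))) (.node 1 (.node 0 (.node 0 .nil .nil) (.node 1 (.node 1 .nil .nil) (.node 2 (.node 1 .nil .nil) (.node 3 (.node 0 .nil (.node 2 .nil (.node 3 .nil (.node 4 .nil .nil)))) (.node 4 (.node 0 .nil .nil) .nil))))) (.node 2 (.node 0 .nil (.node 1 .nil (.node 3 (.node 4 .nil .nil) (.node 4 .nil .nil)))) (.node 3 (.node 0 .nil (.node 1 (.node 0 .nil (.node 4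 .nil .nil)) (.node 2 (.node 1 .nil .nil) (.node 4 .nil .nil)))) (.node 4 (.node 0 (.node 1 .nil (.node 2 .nil .nil)) (.node 1 .nil (.node 2 (.node 0 .nil (.node 1 .nil .nil)) (.node 3 (.node 2 .nil .nil) (.node 4 (.node 1 .nil (.node 2 .nil (.node 3 .nil .nil))) .nil))))) .nil))))) (.node 3 (.node 0 (.node 3 (.node 1 .nil .nil) .nil) (.node 1 (.node 0 (.node 3 .nil .nil) (.node 1 .nil (.node 2 (.node 2 .nil (.node 3 .nil .nil)) (.node 3 (.node 1 .nil .nil) (.node 4 .nil .nil))))) (.node 2 (.node 0 .nil (.node 3 (.node 3 .nil .nil) (.node 4 (.node 4 .nil .nil) .nil))) (.node 4 (.node 1 (.node 3 .nil (.node 4 .nil .nil)) (.node 2 (.node 1 .nil .nil) (.node 3 (.node 1 .nil (.node 2 .nil (.node 3 .nil .nil))) .nil))) .nil)))) (.node 4 (.node 1 (.node 4 .nil .nil) (.node 2 (.node 0 (.node 1 .nil (.node 4 .nil .nil)) (.node 1 .nil (.node 3 (.node 0 .nil .nil) .nil))) (.node 3 (.node 0 (.node 0 .nil (.node 2 .nil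 (.node 3 .nil .nil))) (.node 2 (.node 2 .nil (.node 4 .nil .nil)) (.node 4 (.node 1 .nil (.node 2 .nil .nil)) .nil))) (.node 4 (.node 1 .nil (.node 2 .nil (.node 3 (.node 2 .nil .nil) .nil))) .nil)))) .nil))))) (.node 4 (.node 0 (.node 0 (.node 1 (.node 3 .nil .nil) (.node 2 (.node 2 .nil (.node 4 .nil .nil)) (.node 3 (.node 2 .nil (.node 4 .nil .nil)) .nil))) (.node 1 (.node 0 (.node 0 .nil .nil) (.node 1 (.node 1 .nil .nil) (.node 3 .nil (.node 4 (.node 0 .nil .nil) .nil)))) (.node 2 (.node 0 (.node 0 .nil (.node 1 .nil (.node 4 .nil .nil))) (.node 1 (.node 4 .nil .nil) (.node 3 (.node 1 .nil .nil) (.node 4 (.node 3 .nil .nil) .nil)))) (.node 3 (.node 0 (.node 0 .nil (.node 1 .nil .nil)) (.node 3 (.node 0 .nil .nil) (.node 4 (.node 1 .nil (.node 4 .nil .nil)) .nil))) .nil)))) (.node 1 (.node 0 (.node 2 (.node 0 .nil (.node 1 .nil (.node 2 .nil .nil))) (.node 4 (.node 3 .nil .nil) .nil)) (.node 1 (.node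 2 .nil (.node 3 (.node 0 .nil .nil) .nil)) (.node 2 (.node 0 .nil (.node 2 (.node 2 .nil (.node 3 .nil (.node 4 .nil .nil))) (.node 4 .nil .nil))) (.node 3 (.node 0 (.node 3 .nil .nil) (.node 1 (.node 1 .nil .nil) (.node 2 .nil .nil))) (.node 4 (.node 2 (.node 2 .nil .nil) (.node 3 (.node 1 .nil .nil) (.node 4 .nil .nil))) .nil))))) (.node 2 (.node 0 (.node 1 (.node 1 .nil .nil) (.node 3 .nil (.node 4 .nil .nil))) (.node 1 (.node 0 (.node 3 .nil .nil) (.node 1 (.node 1 .nil (.node 2 .nil .nil)) (.node 4 .nil .nil))) (.node 2 (.node 0 (.node 3 .nil .nil) (.node 1 (.node 0 .nil .nil) (.node 2 (.node 3 .nil .nil) (.node 4 (.node 1 .nil (.node 2 .nil (.node 3 .nil .nil))) .nil)))) (.node 3 (.node 3 (.node 2 .nil (.node 3 .nil .nil)) (.node 4 .nil .nil)) (.node 4 (.node 0 (.node 2 .nil (.node 3 .nil .nil)) (.node 1 (.node 1 .nil .nil) .nil)) .nil))))) (.node 3 (.node 0 (.node 0 (.node 1 .nil (.node 3 .nil .nil))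 (.node 1 (.node 0 .nil .nil) (.node 4 (.node 1 .nil .nil) .nil))) (.node 1 (.node 0 .nil (.node 2 (.node 2 .nil .nil) (.node 3 (.node 2 .nil (.node 3 .nil .nil)) .nil))) (.node 2 (.node 0 (.node 3 .nil .nil) (.node 1 (.node 3 .nil .nil) (.node 2 .nil (.node 4 (.node 2 .nil (.node 3 .nil .nil)) .nil)))) (.node 3 (.node 0 .nil (.node 1 .nil (.node 2 .nil (.node 3 .nil (.node 4 (.node 2 .nil .nil) .nil))))) (.node 4 (.node 1 (.node 1 .nil (.node 3 .nil .nil)) (.node 2 (.node 2 .nil (.node 3 .nil (.node 4 .nil .nil))) (.node 4 .nil .nil))) .nil))))) (.node 4 (.node 0 (.node 2 .nil .nil) (.node 1 (.node 0 (.node 4 .nil .nil) (.node 1 .nil (.node 2 (.node 1 .nil (.node 3 .nil .nil)) (.node 4 (.node 3 .nil (.node 4 .nil .nil)) .nil)))) (.node 2 (.node 0 (.node 1 .nil .nil) (.node 1 .nil (.node 3 (.node 0 .nil (.node 1 .nil (.node 3 .nil .nil))) (.node 4 (.node 3 .nil .nil) .nil)))) (.node 3 (.node 1 (.node 4 .nil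 .nil) (.node 2 .nil (.node 3 .nil (.node 4 .nil .nil)))) .nil)))) .nil))))) .nil)))))

/-- Orbit tree (DodPt6). -/
def treeDodPt6 : OrbTree :=
  (.node 0 (.node 0 (.node 0 (.node 0 (.node 1 .nil .nil) (.node 1 (.node 0 .nil (.node 1 (.node 1 .nil .nil) (.node 3 .nil .nil))) (.node 3 (.node 1 .nil (.node 4 .nil .nil)) (.node 4 (.node 1 (.node 4 .nil .nil) (.node 2 .nil (.node 3 .nil (.node 4 .nil .nil)))) .nil)))) (.node 1 (.node 0 (.node 3 .nil .nil) (.node 1 (.node 0 .nil (.node 1 .nil (.node 2 .nil (.node 3 .nil .nil)))) (.node 2 (.node 0 .nil (.node 3 .nil (.node 4 (.node 4 .nil .nil) .nil))) (.node 3 (.node 2 .nil .nil) (.node 4 (.node 1 (.node 4 .nil .nil) (.node 2 .nil (.node 3 .nil .nil))) .nil))))) (.node 3 (.node 0 (.node 1 .nil (.node 2 .nil (.node 3 .nil (.node 4 .nil .nil)))) (.node 1 (.node 1 .nil (.node 2 .nil (.node 4 .nil .nil))) (.node 2 (.node 0 .nil (.node 4 .nil .nil)) (.node 3 (.node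 0 .nil .nil) (.node 4 (.node 0 .nil (.node 3 .nil .nil)) .nil))))) (.node 4 (.node 0 (.node 0 .nil (.node 1 .nil .nil)) (.node 1 (.node 0 .nil (.node 1 .nil (.node 3 .nil .nil))) (.node 2 (.node 3 .nil .nil) (.node 3 (.node 0 .nil (.node 2 .nil (.node 3 .nil (.node 4 .nil .nil)))) (.node 4 (.node 1 .nil .nil) .nil))))) .nil)))) (.node 1 (.node 0 (.node 0 (.node 3 .nil (.node 4 .nil .nil)) (.node 1 (.node 0 .nil (.node 1 .nil (.node 4 .nil .nil))) (.node 3 (.node 2 (.node 3 .nil .nil) (.node 3 .nil (.node 4 .nil .nil))) (.node 4 (.node 1 .nil (.node 3 .nil .nil)) .nil)))) (.node 1 (.node 0 (.node 2 .nil (.node 3 .nil (.node 4 .nil .nil))) (.node 1 .nil (.node 2 (.node 1 .nil .nil) (.node 3 (.node 0 .nil .nil) (.node 4 (.node 3 .nil (.node 4 .nil .nil)) .nil))))) (.node 2 (.node 0 (.node 0 .nil (.node 4 .nil .nil)) (.node 1 (.node 3 .nil .nil) (.node 3 (.node 2 .nil .nil) (.node 4 (.node 2 .nil .nil) .nil))))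 (.node 3 (.node 0 (.node 0 .nil (.node 1 .nil .nil)) (.node 1 (.node 0 .nil (.node 1 .nil .nil)) (.node 2 (.node 0 .nil (.node 1 .nil .nil)) (.node 3 (.node 0 .nil .nil) (.node 4 (.node 2 .nil (.node 4 .nil .nil)) .nil))))) (.node 4 (.node 0 .nil (.node 1 (.node 2 .nil (.node 3 .nil (.node 4 .nil .nil))) (.node 2 (.node 0 .nil (.node 3 .nil (.node 4 .nil .nil))) (.node 3 (.node 0 .nil (.node 4 .nil .nil)) (.node 4 (.node 1 .nil .nil) .nil))))) .nil))))) (.node 2 (.node 0 (.node 0 (.node 2 .nil .nil) (.node 2 (.node 1 .nil .nil) (.node 3 (.node 2 .nil (.node 4 .nil .nil)) (.node 4 (.node 2 .nil (.node 4 .nil .nil)) .nil)))) (.node 1 (.node 0 (.node 0 .nil (.node 1 .nil .nil)) (.node 1 (.node 4 .nil .nil) (.node 2 (.node 0 .nil (.node 4 .nil .nil)) .nil))) (.node 2 (.node 1 (.node 0 .nil (.node 4 .nil .nil)) (.node 2 (.node 0 .nil (.node 1 .nil .nil)) (.node 3 (.node 0 .nil .nil) (.node 4 (.node 0 .nil .nil)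 .nil)))) (.node 3 (.node 0 (.node 2 .nil .nil) (.node 2 (.node 1 .nil (.node 4 .nil .nil)) (.node 3 (.node 1 .nil (.node 4 .nil .nil)) (.node 4 (.node 1 .nil (.node 4 .nil .nil)) .nil)))) (.node 4 (.node 0 (.node 2 .nil (.node 3 .nil .nil)) (.node 1 (.node 0 .nil .nil) (.node 3 (.node 0 .nil .nil) .nil))) .nil))))) (.node 3 (.node 0 (.node 0 (.node 0 .nil (.node 1 .nil (.node 2 .nil .nil))) (.node 1 (.node 1 .nil .nil) (.node 3 .nil (.node 4 (.node 3 .nil .nil) .nil)))) (.node 2 (.node 0 (.node 1 .nil (.node 3 .nil (.node 4 .nil .nil))) (.node 1 .nil (.node 2 (.node 2 .nil (.node 4 .nil .nil)) (.node 3 (.node 0 .nil (.node 2 .nil .nil)) (.node 4 .nil .nil))))) (.node 3 (.node 0 (.node 4 .nil .nil) (.node 2 .nil (.node 3 (.node 0 .nil .nil) (.node 4 (.node 3 .nil (.node 4 .nil .nil)) .nil)))) (.node 4 (.node 1 (.node 0 .nil (.node 3 .nil .nil)) (.node 2 .nil (.node 3 (.node 1 .nil (.node 4 .nil .nil)) (.node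 4 (.node 3 .nil .nil) .nil)))) .nil)))) (.node 4 (.node 0 (.node 0 (.node 0 .nil (.node 1 .nil .nil)) (.node 1 (.node 0 .nil (.node 4 .nil .nil)) (.node 2 (.node 0 .nil (.node 4 .nil .nil)) (.node 3 (.node 0 .nil .nil) (.node 4 (.node 1 .nil (.node 3 .nil (.node 4 .nil .nil))) .nil))))) (.node 1 (.node 0 .nil (.node 1 (.node 1 .nil .nil) (.node 3 (.node 2 .nil .nil) (.node 4 .nil .nil)))) (.node 2 (.node 0 (.node 3 .nil (.node 4 .nil .nil)) (.node 1 (.node 2 .nil (.node 4 .nil .nil)) (.node 2 (.node 1 .nil .nil) (.node 4 (.node 3 .nil .nil) .nil)))) (.node 3 (.node 2 (.node 1 .nil .nil) (.node 3 (.node 2 .nil (.node 3 .nil .nil)) (.node 4 (.node 3 .nil .nil) .nil))) (.node 4 (.node 0 .nil (.node 1 (.node 3 .nil .nil) (.node 2 .nil (.node 3 .nil (.node 4 (.node 0 .nil .nil) .nil))))) .nil))))) .nil))))) (.node 1 (.node 0 (.node 0 (.node 2 (.node 0 .nil (.node 1 .nil .nil)) (.node 4 (.node 0 .nil .nil) .nil))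 (.node 1 (.node 0 (.node 0 .nil (.node 1 .nil .nil)) (.node 1 .nil (.node 3 (.node 2 .nil (.node 3 .nil .nil)) (.node 4 (.node 2 .nil .nil) .nil)))) (.node 2 (.node 1 .nil (.node 3 (.node 4 .nil .nil) (.node 4 (.node 0 .nil (.node 3 .nil .nil)) .nil))) (.node 3 (.node 0 (.node 0 .nil .nil) (.node 1 .nil (.node 2 (.node 3 .nil .nil) (.node 4 (.node 1 .nil (.node 2 .nil .nil)) .nil)))) (.node 4 (.node 0 (.node 1 .nil .nil) (.node 2 (.node 0 .nil .nil) (.node 3 (.node 2 .nil (.node 3 .nil (.node 4 .nil .nil))) (.node 4 .nil .nil)))) .nil))))) (.node 1 (.node 0 (.node 0 .nil (.node 1 .nil (.node 2 .nil (.node 3 (.node 3 .nil .nil) (.node 4 (.node 2 .nil (.node 3 .nil .nil)) .nil))))) (.node 2 (.node 2 (.node 2 .nil (.node 3 .nil .nil)) (.node 3 (.node 0 .nil (.node 4 .nil .nil)) (.node 4 (.node 0 .nil (.node 2 .nil .nil)) .nil))) (.node 4 (.node 1 .nil (.node 4 (.node 2 .nil .nil) .nil)) .nil))) (.node 2 (.node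 0 (.node 0 .nil (.node 2 .nil (.node 3 (.node 0 .nil (.node 1 .nil .nil)) .nil))) (.node 1 (.node 1 .nil (.node 3 (.node 0 .nil (.node 2 .nil .nil)) (.node 4 .nil .nil))) (.node 2 (.node 2 (.node 2 .nil (.node 4 .nil .nil)) (.node 3 (.node 2 .nil .nil) (.node 4 (.node 1 .nil (.node 3 .nil .nil)) .nil))) (.node 3 (.node 0 (.node 0 .nil .nil) (.node 1 (.node 3 .nil .nil) (.node 2 (.node 3 .nil (.node 4 .nil .nil)) (.node 3 .nil (.node 4 (.node 1 .nil .nil) .nil))))) (.node 4 (.node 0 .nil (.node 1 (.node 3 .nil (.node 4 .nil .nil)) (.node 2 .nil (.node 3 (.node 3 .nil .nil) .nil)))) .nil))))) (.node 3 (.node 0 (.node 0 (.node 1 .nil (.node 2 .nil .nil)) (.node 1 .nil (.node 4 (.node 1 .nil .nil) .nil))) (.node 1 (.node 0 .nil (.node 1 (.node 3 .nil (.node 4 .nil .nil)) (.node 2 .nil (.node 3 (.node 0 .nil .nil) (.node 4 .nil .nil))))) (.node 3 (.node 0 (.node 2 .nil .nil) (.node 1 (.node 1 .nil .nil) (.node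 2 (.node 1 .nil (.node 2 .nil (.node 3 .nil .nil))) (.node 3 (.node 2 .nil .nil) .nil)))) (.node 4 (.node 1 .nil (.node 2 (.node 2 .nil (.node 4 .nil .nil)) (.node 4 .nil .nil))) .nil)))) (.node 4 (.node 0 (.node 0 (.node 1 .nil .nil) (.node 3 .nil (.node 4 .nil .nil))) (.node 1 (.node 0 .nil (.node 1 (.node 0 .nil .nil) (.node 2 .nil (.node 3 .nil (.node 4 (.node 2 .nil .nil) .nil))))) (.node 2 (.node 1 .nil (.node 2 .nil (.node 3 .nil (.node 4 (.node 2 .nil .nil) .nil)))) (.node 3 (.node 0 (.node 2 .nil .nil) (.node 1 (.node 0 .nil .nil) (.node 2 .nil (.node 4 .nil .nil)))) (.node 4 (.node 1 .nil (.node 2 (.node 2 .nil (.node 3 .nil .nil)) (.node 4 (.node 0 .nil .nil) .nil))) .nil))))) .nil))))) (.node 2 (.node 0 (.node 0 (.node 1 .nil (.node 3 .nil .nil)) (.node 1 (.node 0 .nil (.node 1 .nil (.node 2 (.node 1 .nil (.node 3 .nil .nil)) (.node 4 (.node 4 .nil .nil) .nil)))) (.node 2 (.node 0 .nil (.node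 2 (.node 4 .nil .nil) (.node 3 .nil (.node 4 .nil .nil)))) (.node 3 (.node 1 .nil (.node 3 .nil .nil)) (.node 4 (.node 4 (.node 3 .nil .nil) .nil) .nil))))) (.node 1 (.node 0 (.node 1 .nil (.node 2 .nil (.node 3 (.node 2 .nil .nil) .nil))) (.node 1 (.node 1 (.node 0 .nil (.node 2 .nil .nil)) (.node 2 (.node 0 .nil .nil) (.node 4 .nil .nil))) (.node 2 (.node 1 .nil (.node 3 (.node 2 .nil .nil) (.node 4 .nil .nil))) (.node 3 (.node 1 (.node 2 .nil .nil) (.node 3 .nil .nil)) (.node 4 (.node 1 (.node 0 .nil (.node 1 .nil (.node 3 .nil .nil))) (.node 4 (.node 2 .nil .nil) .nil)) .nil))))) (.node 2 (.node 0 (.node 2 (.node 2 .nil .nil) (.node 4 .nil .nil)) (.node 1 (.node 0 .nil (.node 3 .nil .nil)) (.node 2 (.node 0 (.node 2 .nil .nil) (.node 1 (.node 3 .nil .nil) (.node 2 .nil .nil))) (.node 3 (.node 0 .nil (.node 2 (.node 2 .nil (.node 3 .nil .nil)) (.node 3 .nil (.node 4 (.node 4 .nil .nil) .nil)))) (.node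 4 (.node 2 (.node 0 .nil (.node 1 .nil .nil)) (.node 3 .nil (.node 4 (.node 1 .nil .nil) .nil))) .nil))))) (.node 3 (.node 0 (.node 2 .nil (.node 4 .nil .nil)) (.node 1 (.node 1 .nil (.node 2 .nil (.node 4 .nil .nil))) (.node 2 (.node 0 (.node 2 .nil .nil) (.node 1 (.node 0 .nil .nil) (.node 2 (.node 1 .nil .nil) (.node 3 .nil (.node 4 .nil .nil))))) (.node 3 (.node 0 .nil (.node 2 (.node 0 .nil (.node 4 .nil .nil)) (.node 3 (.node 4 .nil .nil) (.node 4 .nil .nil)))) (.node 4 (.node 0 (.node 0 .nil (.node 1 .nil .nil)) (.node 4 .nil .nil)) .nil))))) (.node 4 (.node 0 (.node 0 .nil (.node 1 .nil (.node 2 .nil (.node 3 .nil (.node 4 (.node 1 .nil .nil) .nil))))) (.node 1 (.node 1 .nil (.node 2 (.node 0 .nil (.node 4 .nil .nil)) (.node 4 .nil .nil))) (.node 2 (.node 0 .nil (.node 1 .nil (.node 3 .nil .nil))) (.node 3 (.node 0 .nil (.node 1 .nil (.node 3 .nil .nil))) (.node 4 (.node 1 .nil (.node 3 .nil .nil))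 .nil))))) .nil))))) (.node 3 (.node 0 (.node 0 (.node 0 (.node 0 .nil (.node 3 .nil .nil)) (.node 2 .nil (.node 4 (.node 1 .nil .nil) .nil))) (.node 1 (.node 1 .nil (.node 2 (.node 2 .nil .nil) (.node 3 (.node 2 .nil (.node 4 .nil .nil)) (.node 4 .nil .nil)))) (.node 2 (.node 0 .nil (.node 1 .nil (.node 2 .nil (.node 3 .nil .nil)))) (.node 3 (.node 1 .nil .nil) (.node 4 (.node 1 (.node 2 .nil .nil) (.node 2 (.node 4 .nil .nil) (.node 3 .nil .nil))) .nil))))) (.node 1 (.node 1 (.node 0 .nil (.node 1 (.node 0 .nil .nil) (.node 2 (.node 4 .nil .nil) (.node 3 .nil (.node 4 .nil .nil))))) (.node 2 (.node 3 .nil (.node 4 .nil .nil)) (.node 3 (.node 1 .nil (.node 4 .nil .nil)) (.node 4 (.node 2 .nil .nil) .nil)))) (.node 2 (.node 0 (.node 3 .nil (.node 4 .nil .nil)) (.node 1 (.node 2 .nil (.node 3 (.node 0 .nil .nil) .nil)) (.node 2 (.node 0 .nil (.node 1 (.node 4 .nil .nil) .nil)) (.node 3 (.node 0 .nil (.node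 4 .nil .nil)) (.node 4 (.node 1 .nil (.node 2 (.node 4 .nil .nil) (.node 4 .nil .nil))) .nil))))) (.node 3 (.node 0 (.node 4 (.node 0 .nil .nil) .nil) (.node 1 (.node 0 .nil (.node 2 .nil (.node 3 .nil (.node 4 .nil .nil)))) (.node 2 (.node 2 .nil .nil) (.node 3 (.node 2 .nil .nil) (.node 4 (.node 0 .nil (.node 1 .nil (.node 4 .nil .nil))) .nil))))) (.node 4 (.node 0 (.node 0 .nil (.node 1 .nil (.node 3 (.node 3 .nil .nil) (.node 4 (.node 4 .nil .nil) .nil)))) (.node 1 (.node 0 .nil (.node 3 .nil (.node 4 .nil .nil))) (.node 2 (.node 0 (.node 4 .nil .nil) (.node 1 .nil (.node 4 (.node 0 .nil .nil) .nil))) (.node 3 (.node 1 .nil (.node 2 .nil .nil)) .nil)))) .nil))))) (.node 4 (.node 0 (.node 0 (.node 1 .nil (.node 2 .nil (.node 4 .nil .nil))) (.node 1 (.node 1 .nil .nil) (.node 3 (.node 4 .nil .nil) (.node 4 (.node 0 .nil (.node 4 (.node 4 .nil .nil) .nil)) .nil)))) (.node 1 (.node 0 (.node 0 (.node 2 .nil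 .nil) (.node 3 .nil (.node 4 .nil .nil))) (.node 1 (.node 0 .nil .nil) (.node 2 (.node 0 .nil (.node 3 .nil .nil)) (.node 3 (.node 1 (.node 0 .nil .nil) (.node 2 .nil (.node 3 .nil .nil))) (.node 4 (.node 0 .nil (.node 2 .nil (.node 4 .nil .nil))) .nil))))) (.node 2 (.node 0 (.node 0 .nil (.node 1 .nil (.node 2 .nil (.node 4 .nil .nil)))) (.node 1 .nil (.node 2 (.node 4 .nil .nil) (.node 3 (.node 1 (.node 2 .nil .nil) .nil) (.node 4 (.node 0 .nil (.node 3 .nil (.node 4 .nil .nil))) .nil))))) (.node 3 (.node 0 (.node 1 .nil (.node 3 .nil .nil)) (.node 1 (.node 0 .nil .nil) (.node 2 (.node 0 .nil (.node 3 .nil .nil)) (.node 3 (.node 0 (.node 0 .nil .nil) (.node 1 .nil (.node 4 .nil .nil))) (.node 4 (.node 1 .nil (.node 2 .nil (.node 3 (.node 1 .nil .nil) .nil))) .nil))))) (.node 4 (.node 1 (.node 1 .nil (.node 2 .nil (.node 3 .nil .nil))) (.node 2 (.node 2 .nil (.node 3 .nil (.node 4 .nil .nil))) (.node 3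 (.node 0 .nil (.node 4 .nil .nil)) .nil))) .nil))))) .nil)))))

/-- Orbit tree (Dod8). -/
def treeDod8 : OrbTree :=
  (.node 0 (.node 0 (.node 1 (.node 1 .nil (.node 2 (.node 3 .nil .nil) .nil)) (.node 2 (.node 0 (.node 2 .nil (.node 3 .nil .nil)) (.node 1 (.node 0 .nil (.node 3 .nil .nil)) (.node 2 (.node 0 .nil (.node 1 .nil (.node 2 .nil (.node 3 .nil .nil)))) (.node 3 (.node 1 .nil (.node 4 .nil .nil)) .nil)))) (.node 3 (.node 0 .nil (.node 1 (.node 2 .nil (.node 4 .nil .nil)) (.node 2 (.node 1 .nil (.node 2 .nil .nil)) (.node 3 (.node 4 .nil .nil) (.node 4 (.node 3 .nil .nil) .nil))))) (.node 4 (.node 1 (.node 2 .nil .nil) (.node 2 (.node 0 .nil (.node 1 .nil (.node 3 .nil .nil))) (.node 3 (.node 4 .nil .nil) .nil))) .nil)))) (.node 2 (.node 0 (.node 0 .nil (.node 2 (.node 0 .nil (.node 3 .nil (.node 4 .nil .nil))) (.node 3 (.node 2 .nil .nil) .nil))) (.node 1 (.node 2 (.node 3 .nil .nil) (.node 3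 (.node 3 .nil (.node 4 .nil .nil)) .nil)) (.node 2 (.node 0 (.node 0 .nil (.node 3 .nil .nil)) (.node 2 (.node 0 .nil (.node 1 .nil (.node 2 .nil (.node 3 .nil .nil)))) (.node 4 (.node 3 .nil (.node 4 .nil .nil)) .nil))) (.node 3 (.node 0 (.node 1 .nil .nil) (.node 1 (.node 0 .nil (.node 1 .nil .nil)) (.node 2 (.node 1 .nil (.node 4 .nil .nil)) (.node 3 (.node 0 (.node 2 .nil .nil) .nil) .nil)))) (.node 4 (.node 1 (.node 0 .nil (.node 3 .nil (.node 4 .nil .nil))) (.node 2 (.node 0 .nil (.node 3 .nil (.node 4 .nil .nil))) (.node 4 (.node 1 .nil .nil) .nil))) .nil))))) (.node 3 (.node 1 (.node 0 .nil (.node 1 (.node 0 .nil (.node 2 .nil (.node 3 .nil .nil))) (.node 2 .nil (.node 3 .nil .nil)))) (.node 2 (.node 0 (.node 3 .nil .nil) (.node 1 (.node 3 .nil .nil) (.node 3 .nil (.node 4 (.node 1 .nil .nil) .nil)))) (.node 4 (.node 3 .nil (.node 4 (.node 1 .nil .nil) .nil)) .nil))) .nil))) (.node 1 (.node 0 (.node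 0 (.node 1 (.node 0 .nil .nil) (.node 2 (.node 2 .nil .nil) (.node 3 (.node 2 .nil .nil) (.node 4 (.node 2 .nil (.node 3 .nil .nil)) .nil)))) (.node 1 (.node 0 .nil (.node 1 .nil (.node 2 (.node 1 .nil .nil) (.node 3 .nil .nil)))) (.node 2 (.node 0 (.node 1 .nil .nil) (.node 1 (.node 0 .nil .nil) (.node 2 (.node 1 .nil (.node 3 .nil .nil)) (.node 3 (.node 1 .nil (.node 3 .nil .nil)) .nil)))) (.node 3 (.node 1 .nil (.node 2 (.node 2 .nil .nil) (.node 3 (.node 0 .nil .nil) (.node 4 .nil .nil)))) (.node 4 (.node 1 .nil (.node 2 (.node 3 .nil .nil) (.node 3 (.node 2 .nil .nil) (.node 4 (.node 1 .nil (.node 2 .nil .nil)) .nil)))) .nil))))) (.node 1 (.node 0 (.node 1 (.node 1 .nil .nil) (.node 2 (.node 3 .nil .nil) (.node 3 (.node 0 .nil (.node 1 .nil (.node 4 .nil .nil))) (.node 4 .nil .nil)))) (.node 1 (.node 0 (.node 1 .nil (.node 2 .nil .nil)) (.node 2 (.node 0 .nil (.node 1 .nil .nil)) (.node 3 (.node 2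 .nil .nil) .nil))) (.node 2 (.node 0 (.node 0 .nil (.node 3 .nil .nil)) (.node 1 (.node 2 .nil .nil) (.node 2 (.node 4 .nil .nil) (.node 4 (.node 0 .nil (.node 4 .nil .nil)) .nil)))) (.node 3 (.node 0 .nil (.node 2 (.node 1 .nil .nil) (.node 3 (.node 0 .nil .nil) (.node 4 (.node 1 .nil .nil) .nil)))) (.node 4 (.node 1 .nil (.node 2 (.node 3 .nil .nil) (.node 3 (.node 0 .nil (.node 2 .nil .nil)) (.node 4 (.node 2 .nil .nil) .nil)))) .nil))))) (.node 2 (.node 0 (.node 0 (.node 3 .nil .nil) (.node 1 (.node 1 .nil (.node 4 .nil .nil)) (.node 2 .nil (.node 3 .nil (.node 4 (.node 1 .nil .nil) .nil))))) (.node 1 (.node 0 (.node 1 .nil .nil) (.node 1 .nil (.node 2 (.node 1 .nil .nil) (.node 3 (.node 2 .nil .nil) .nil)))) (.node 2 (.node 0 (.node 3 .nil (.node 4 .nil .nil)) (.node 1 (.node 2 .nil .nil) (.node 2 (.node 1 .nil (.node 2 .nil .nil)) (.node 3 .nil (.node 4 .nil .nil))))) (.node 3 (.node 0 (.node 1 .nil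 .nil) (.node 2 (.node 2 .nil .nil) (.node 3 (.node 0 .nil .nil) (.node 4 (.node 1 .nil .nil) .nil)))) (.node 4 (.node 0 (.node 0 .nil .nil) (.node 3 .nil (.node 4 .nil .nil))) .nil))))) (.node 3 (.node 0 (.node 1 .nil (.node 3 (.node 2 .nil .nil) .nil)) (.node 1 (.node 1 .nil (.node 3 .nil (.node 4 (.node 3 .nil .nil) .nil))) (.node 2 (.node 1 (.node 1 .nil .nil) (.node 2 (.node 3 .nil .nil) (.node 4 .nil .nil))) (.node 3 (.node 0 (.node 1 .nil .nil) (.node 2 .nil (.node 4 (.node 1 .nil .nil) .nil))) (.node 4 (.node 1 .nil (.node 3 (.node 1 .nil .nil) (.node 4 (.node 2 .nil .nil) .nil))) .nil))))) (.node 4 (.node 0 (.node 1 .nil (.node 3 .nil .nil)) (.node 1 (.node 1 (.node 2 .nil .nil) (.node 4 .nil .nil)) (.node 2 (.node 0 .nil (.node 1 (.node 0 .nil .nil) (.node 2 (.node 2 .nil .nil) (.node 4 .nil .nil)))) (.node 3 (.node 1 (.node 2 .nil .nil) (.node 2 (.node 2 .nil .nil) .nil)) (.node 4 (.node 0 .nil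 (.node 3 .nil .nil)) .nil))))) .nil))))) (.node 2 (.node 0 (.node 0 (.node 2 .nil (.node 4 (.node 3 .nil .nil) .nil)) (.node 1 (.node 1 .nil (.node 2 .nil (.node 3 .nil .nil))) (.node 2 (.node 0 (.node 4 .nil .nil) (.node 1 .nil (.node 2 .nil (.node 3 (.node 2 .nil .nil) (.node 4 .nil .nil))))) (.node 3 (.node 0 .nil (.node 2 .nil (.node 4 .nil .nil))) (.node 4 (.node 1 .nil (.node 2 (.node 2 .nil .nil) (.node 3 .nil .nil))) .nil))))) (.node 2 (.node 0 (.node 0 .nil (.node 1 (.node 2 .nil .nil) (.node 2 .nil (.node 3 (.node 2 .nil .nil) (.node 4 .nil .nil))))) (.node 1 (.node 0 (.node 1 .nil .nil) (.node 1 .nil (.node 4 (.node 1 .nil .nil) .nil))) (.node 2 (.node 0 .nil (.node 4 .nil .nil)) (.node 3 (.node 0 (.node 2 .nil .nil) (.node 3 .nil (.node 4 .nil .nil))) (.node 4 (.node 1 .nil (.node 2 .nil (.node 3 .nil (.node 4 .nil .nil)))) .nil))))) (.node 3 (.node 0 (.node 0 .nil (.node 1 .nil .nil)) (.node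 1 (.node 1 .nil (.node 3 .nil (.node 4 .nil .nil))) (.node 2 (.node 2 (.node 2 .nil .nil) (.node 3 .nil (.node 4 .nil .nil))) (.node 3 (.node 0 .nil (.node 2 (.node 4 .nil .nil) (.node 4 .nil .nil))) .nil)))) .nil))) (.node 3 (.node 0 (.node 1 (.node 0 .nil (.node 4 .nil .nil)) (.node 2 (.node 1 .nil (.node 2 (.node 1 .nil .nil) (.node 3 (.node 0 .nil .nil) (.node 4 (.node 3 .nil .nil) .nil)))) (.node 3 (.node 0 (.node 2 .nil .nil) (.node 2 .nil .nil)) (.node 4 (.node 2 .nil (.node 3 .nil .nil)) .nil)))) (.node 1 (.node 1 (.node 2 .nil .nil) (.node 2 (.node 0 (.node 1 .nil (.node 2 .nil .nil)) (.node 2 .nil (.node 4 .nil .nil))) (.node 4 (.node 4 .nil .nil) .nil))) (.node 2 (.node 1 (.node 0 (.node 3 .nil .nil) .nil) (.node 2 (.node 0 .nil (.node 4 (.node 1 .nil .nil) .nil)) (.node 3 (.node 2 .nil (.node 4 .nil .nil)) .nil))) (.node 3 (.node 0 (.node 2 .nil (.node 3 .nil .nil)) (.node 1 (.node 0 .nil (.node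 1 .nil (.node 2 .nil (.node 4 .nil .nil)))) (.node 2 (.node 2 .nil (.node 3 .nil (.node 4 .nil .nil))) (.node 3 (.node 1 .nil .nil) (.node 4 (.node 1 .nil (.node 2 (.node 1 .nil .nil) .nil)) .nil))))) .nil)))) (.node 4 (.node 0 (.node 1 (.node 0 .nil (.node 4 .nil .nil)) (.node 2 (.node 0 (.node 2 .nil .nil) (.node 1 .nil (.node 3 .nil .nil))) (.node 3 (.node 0 .nil (.node 1 .nil .nil)) .nil))) (.node 1 (.node 0 (.node 0 (.node 2 .nil .nil) (.node 2 .nil (.node 4 .nil .nil))) (.node 1 (.node 2 .nil (.node 4 .nil .nil)) (.node 2 (.node 3 .nil (.node 4 .nil .nil)) (.node 3 (.node 1 .nil (.node 3 .nil (.node 4 .nil .nil))) (.node 4 (.node 0 .nil (.node 4 .nil .nil)) .nil))))) (.node 2 (.node 0 (.node 0 .nil (.node 1 .nil (.node 4 .nil .nil))) (.node 1 (.node 1 .nil (.node 2 .nil (.node 3 .nil (.node 4 .nil .nil)))) (.node 2 .nil (.node 3 (.node 0 .nil .nil) .nil)))) (.node 3 (.node 0 (.node 1 .nil .nil) (.node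 1 (.node 1 .nil (.node 2 .nil (.node 4 .nil .nil))) (.node 2 (.node 2 .nil .nil) (.node 3 (.node 0 .nil .nil) (.node 4 (.node 1 .nil (.node 2 .nil .nil)) .nil))))) .nil)))) .nil)))))

/-- Orbit tree (DodPt8). -/
def treeDodPt8 : OrbTree :=
  (.node 0 (.node 0 (.node 0 (.node 0 (.node 3 .nil .nil) (.node 1 (.node 1 .nil (.node 2 .nil .nil)) (.node 2 .nil (.node 3 .nil (.node 4 (.node 2 .nil .nil) .nil))))) (.node 2 (.node 0 (.node 1 .nil .nil) (.node 1 .nil (.node 2 (.node 3 .nil .nil) (.node 4 .nil .nil)))) (.node 3 (.node 1 .nil (.node 2 (.node 4 .nil .nil) (.node 3 (.node 2 .nil .nil) .nil))) (.node 4 (.node 0 (.node 0 .nil .nil) (.node 1 .nil (.node 2 .nil (.node 3 (.node 0 .nil .nil) (.node 4 .nil .nil))))) .nil)))) (.node 1 (.node 0 (.node 0 (.node 2 .nil .nil) (.node 3 (.node 4 .nil .nil) (.node 4 .nil .nil))) (.node 1 (.node 0 .nil (.node 3 (.node 0 .nil .nil) (.node 4 .nil .nil))) (.node 2 (.node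 0 .nil (.node 1 (.node 0 .nil (.node 3 .nil .nil)) (.node 2 .nil (.node 3 .nil (.node 4 .nil .nil))))) (.node 3 (.node 0 .nil (.node 1 (.node 0 .nil .nil) (.node 3 .nil (.node 4 (.node 4 .nil .nil) .nil)))) (.node 4 (.node 0 .nil (.node 1 .nil (.node 2 .nil (.node 3 .nil (.node 4 .nil .nil))))) .nil))))) (.node 2 (.node 0 (.node 1 .nil (.node 2 .nil .nil)) (.node 2 (.node 1 (.node 1 .nil .nil) (.node 2 .nil (.node 3 .nil (.node 4 .nil .nil)))) (.node 3 (.node 0 .nil (.node 3 .nil .nil)) (.node 4 (.node 0 .nil (.node 1 .nil (.node 3 .nil .nil))) .nil)))) (.node 3 (.node 0 (.node 0 (.node 4 .nil .nil) (.node 1 .nil (.node 2 (.node 4 .nil .nil) (.node 3 .nil .nil)))) (.node 2 (.node 0 .nil (.node 2 .nil (.node 4 (.node 2 .nil (.node 4 .nil .nil)) .nil))) (.node 4 (.node 1 .nil .nil) .nil))) (.node 4 (.node 0 (.node 0 .nil (.node 1 (.node 2 .nil .nil) (.node 3 .nil .nil))) (.node 1 (.node 1 .nil (.node 3 .nil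 (.node 4 .nil .nil))) (.node 2 (.node 0 .nil (.node 1 .nil (.node 3 (.node 3 .nil .nil) .nil))) (.node 3 (.node 0 .nil (.node 1 .nil (.node 3 .nil .nil))) (.node 4 (.node 1 .nil (.node 2 .nil .nil)) .nil))))) .nil))))) (.node 1 (.node 0 (.node 0 (.node 2 .nil (.node 3 .nil (.node 4 .nil .nil))) (.node 1 (.node 0 .nil (.node 1 .nil (.node 4 .nil .nil))) (.node 2 (.node 1 .nil (.node 2 .nil .nil)) (.node 3 (.node 0 .nil (.node 2 (.node 3 .nil .nil) (.node 3 .nil .nil))) (.node 4 (.node 1 (.node 4 .nil .nil) (.node 2 .nil .nil)) .nil))))) (.node 1 (.node 0 (.node 0 .nil (.node 2 (.node 4 .nil .nil) (.node 4 .nil .nil))) (.node 1 (.node 0 .nil .nil) (.node 2 (.node 2 .nil (.node 4 .nil .nil)) (.node 4 (.node 1 .nil (.node 3 .nil (.node 4 .nil .nil))) .nil)))) (.node 2 (.node 0 (.node 0 .nil (.node 1 .nil (.node 3 .nil (.node 4 .nil .nil)))) (.node 1 (.node 3 .nil (.node 4 .nil .nil)) (.node 2 (.node 2 .nil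 (.node 4 .nil .nil)) (.node 3 (.node 1 .nil (.node 2 .nil (.node 3 .nil (.node 4 .nil .nil)))) .nil)))) (.node 3 (.node 0 (.node 0 .nil (.node 4 .nil .nil)) (.node 1 (.node 0 .nil (.node 1 .nil (.node 3 .nil .nil))) (.node 2 (.node 0 .nil .nil) (.node 3 .nil (.node 4 (.node 1 .nil .nil) .nil))))) (.node 4 (.node 0 (.node 0 .nil (.node 2 .nil .nil)) (.node 2 (.node 0 .nil .nil) (.node 3 (.node 1 .nil (.node 2 .nil .nil)) (.node 4 (.node 1 .nil (.node 2 .nil (.node 4 .nil .nil))) .nil)))) .nil))))) (.node 2 (.node 0 (.node 0 (.node 1 .nil (.node 3 .nil .nil)) (.node 1 (.node 4 .nil .nil) (.node 2 (.node 0 .nil (.node 4 .nil .nil)) (.node 4 (.node 3 .nil (.node 4 .nil .nil)) .nil)))) (.node 1 (.node 0 (.node 0 .nil (.node 2 .nil .nil)) (.node 1 (.node 4 .nil .nil) (.node 2 (.node 1 .nil .nil) .nil))) (.node 2 (.node 0 (.node 0 .nil .nil) (.node 1 (.node 0 .nil (.node 2 .nil (.node 3 .nil (.node 4 .nil .nil))))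 (.node 2 (.node 1 .nil (.node 2 .nil (.node 4 .nil .nil))) (.node 3 (.node 3 .nil .nil) (.node 4 (.node 0 .nil (.node 1 .nil (.node 3 .nil (.node 4 .nil .nil)))) .nil))))) (.node 3 (.node 0 .nil (.node 3 (.node 0 .nil .nil) (.node 4 (.node 4 .nil .nil) .nil))) (.node 4 (.node 1 (.node 0 .nil (.node 1 .nil (.node 2 .nil (.node 3 .nil (.node 4 .nil .nil))))) (.node 2 .nil (.node 4 (.node 0 .nil (.node 2 .nil .nil)) .nil))) .nil))))) (.node 3 (.node 0 (.node 0 (.node 3 .nil .nil) (.node 2 (.node 0 .nil (.node 3 .nil (.node 4 .nil .nil))) (.node 3 (.node 2 .nil .nil) .nil))) (.node 1 (.node 0 .nil (.node 1 (.node 0 .nil (.node 1 .nil (.node 2 .nil .nil))) (.node 2 (.node 3 .nil .nil) (.node 4 .nil .nil)))) (.node 2 (.node 2 .nil (.node 3 (.node 4 .nil .nil) (.node 4 (.node 1 .nil (.node 2 .nil (.node 4 .nil .nil))) .nil))) (.node 3 (.node 1 (.node 3 .nil .nil) (.node 3 (.node 0 .nil (.node 4 .nil .nil)) (.node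 4 (.node 2 .nil .nil) .nil))) (.node 4 (.node 1 .nil (.node 2 .nil (.node 3 .nil .nil))) .nil))))) (.node 4 (.node 0 (.node 1 .nil (.node 2 (.node 0 .nil .nil) (.node 4 (.node 1 .nil .nil) .nil))) (.node 1 (.node 0 (.node 3 .nil .nil) (.node 2 (.node 0 .nil .nil) (.node 3 (.node 3 .nil .nil) (.node 4 (.node 0 .nil (.node 1 .nil (.node 4 .nil .nil))) .nil)))) (.node 2 (.node 0 (.node 1 .nil .nil) (.node 1 .nil .nil)) (.node 3 (.node 1 (.node 0 .nil .nil) (.node 3 (.node 1 .nil .nil) .nil)) (.node 4 (.node 0 .nil (.node 3 .nil (.node 4 (.node 0 .nil .nil) .nil))) .nil))))) .nil)))))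

/-- Orbit tree (Dodecads). -/
def treeDodecads : OrbTree :=
  (.node 0 (.node 0 (.node 0 (.node 0 (.node 0 (.node 0 (.node 0 (.node 0 (.node 0 (.node 1 .nil .nil) (.node 1 .nil .nil)) (.node 1 (.node 0 (.node 2 .nil .nil) (.node 2 .nil .nil)) (.node 2 (.node 0 (.node 1 (.node 0 .nil .nil) (.node 2 .nil .nil)) .nil) .nil))) (.node 1 (.node 0 (.node 0 (.node 0 (.node 1 .nil .nil) (.node 1 .nil .nil)) (.node 1 .nil (.node 2 (.node 2 (.node 2 .nil .nil) .nil) .nil))) .nil) .nil)) (.node 1 (.node 0 (.node 0 (.node 0 (.node 0 (.node 0 .nil .nil) (.node 2 .nil .nil)) (.node 1 (.node 2 (.node 2 .nil .nil) .nil) (.node 2 (.node 0 .nil (.node 2 .nil .nil)) .nil))) (.node 1 (.node 2 (.node 2 (.node 0 .nil .nil) .nil) .nil) (.node 2 (.node 2 (.node 0 (.node 2 .nil .nil) (.node 2 .nil .nil)) .nil) .nil))) (.node 2 (.node 0 (.node 0 (.node 0 (.node 0 .nil .nil) (.node 1 .nil (.node 2 (.node 2 .nil .nil) .nil))) (.node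 1 (.node 0 (.node 2 .nil .nil) .nil) (.node 2 (.node 2 (.node 0 (.node 2 .nil .nil) .nil) .nil) .nil))) (.node 2 (.node 2 (.node 0 .nil (.node 2 .nil .nil)) .nil) .nil)) .nil)) (.node 2 (.node 0 (.node 0 (.node 1 .nil .nil) (.node 1 (.node 0 .nil (.node 2 (.node 0 (.node 2 .nil .nil) (.node 2 (.node 2 .nil .nil) .nil)) .nil)) (.node 2 (.node 0 (.node 2 .nil .nil) (.node 2 (.node 0 .nil (.node 2 .nil .nil)) .nil)) .nil))) (.node 2 (.node 0 (.node 0 .nil (.node 1 .nil .nil)) (.node 2 (.node 0 (.node 0 .nil (.node 1 (.node 0 .nil .nil) (.node 2 .nil .nil))) (.node 2 (.node 0 .nil .nil) .nil)) .nil)) .nil)) .nil))) (.node 1 (.node 0 (.node 0 (.node 0 (.node 0 (.node 0 .nil (.node 1 (.node 2 .nil .nil) (.node 2 .nil .nil))) (.node 1 (.node 0 (.node 2 .nil .nil) .nil) (.node 2 (.node 0 (.node 2 .nil .nil) (.node 2 .nil .nil)) .nil))) (.node 1 (.node 0 .nil (.node 2 (.node 0 (.node 0 .nil .nil) .nil) .nil)) (.node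 2 (.node 2 (.node 0 .nil .nil) .nil) .nil))) (.node 1 .nil (.node 2 (.node 0 (.node 0 (.node 1 (.node 0 (.node 2 .nil .nil) .nil) .nil) (.node 1 (.node 2 (.node 2 .nil .nil) .nil) (.node 2 (.node 0 .nil (.node 2 .nil .nil)) .nil))) (.node 2 (.node 2 (.node 0 (.node 1 .nil .nil) .nil) .nil) .nil)) .nil))) (.node 2 (.node 0 (.node 0 (.node 0 (.node 1 (.node 2 .nil .nil) (.node 2 (.node 2 .nil .nil) .nil)) (.node 1 .nil (.node 2 .nil .nil))) (.node 1 (.node 0 (.node 1 .nil .nil) (.node 2 (.node 0 .nil (.node 2 (.node 2 .nil .nil) .nil)) .nil)) (.node 2 (.node 2 (.node 0 (.node 1 .nil .nil) (.node 2 (.node 2 .nil .nil) .nil)) .nil) .nil))) (.node 2 (.node 0 (.node 1 (.node 0 (.node 0 .nil .nil) .nil) (.node 2 .nil .nil)) (.node 2 (.node 0 (.node 1 .nil .nil) .nil) .nil)) .nil)) .nil)) (.node 2 (.node 0 (.node 0 (.node 0 (.node 0 .nil (.node 1 (.node 0 .nil .nil) .nil)) (.node 1 (.node 0 (.node 0 .nil (.node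 1 .nil .nil)) (.node 2 .nil .nil)) (.node 2 (.node 0 (.node 0 (.node 0 .nil .nil) (.node 1 (.node 2 (.node 0 .nil .nil) .nil) (.node 2 .nil .nil))) (.node 2 .nil .nil)) .nil))) (.node 1 (.node 0 (.node 0 (.node 0 (.node 1 .nil .nil) .nil) (.node 1 (.node 2 .nil .nil) (.node 2 .nil .nil))) (.node 2 (.node 0 (.node 0 .nil (.node 1 (.node 2 (.node 2 .nil .nil) .nil) (.node 2 (.node 2 .nil .nil) .nil))) (.node 2 (.node 0 (.node 1 .nil .nil) (.node 2 (.node 0 .nil .nil) .nil)) .nil)) .nil)) (.node 2 (.node 0 (.node 0 (.node 0 (.node 1 .nil .nil) (.node 1 (.node 0 .nil .nil) (.node 2 .nil .nil))) (.node 1 (.node 2 .nil .nil) (.node 2 (.node 2 .nil .nil) .nil))) (.node 2 (.node 0 (.node 0 (.node 0 .nil .nil) (.node 1 (.node 2 .nil .nil) (.node 2 (.node 2 .nil .nil) .nil))) (.node 2 (.node 2 .nil .nil) .nil)) .nil)) .nil))) (.node 2 (.node 0 (.node 0 (.node 2 (.node 0 .nil .nil) .nil) (.node 1 (.node 0 .nil (.node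 2 (.node 0 (.node 2 .nil .nil) (.node 2 .nil .nil)) .nil)) (.node 2 (.node 0 (.node 1 .nil (.node 2 .nil .nil)) (.node 2 (.node 0 .nil (.node 2 .nil .nil)) .nil)) .nil))) (.node 2 (.node 0 (.node 0 (.node 0 (.node 1 .nil .nil) (.node 1 (.node 0 .nil .nil) .nil)) (.node 1 (.node 0 (.node 0 .nil .nil) (.node 2 (.node 0 .nil .nil) .nil)) (.node 2 (.node 0 .nil .nil) .nil))) .nil) .nil)) .nil)) .nil))) (.node 1 (.node 0 (.node 0 (.node 0 (.node 0 (.node 1 .nil (.node 2 (.node 2 .nil .nil) .nil)) (.node 1 (.node 0 (.node 0 (.node 2 .nil .nil) .nil) .nil) (.node 2 .nil .nil))) (.node 1 (.node 0 (.node 0 (.node 0 .nil (.node 1 (.node 0 .nil .nil) .nil)) (.node 1 .nil (.node 2 (.node 0 (.node 0 .nil (.node 1 .nil .nil)) .nil) .nil))) (.node 2 (.node 2 (.node 0 .nil (.node 2 (.node 2 .nil .nil) .nil)) .nil) .nil)) (.node 2 (.node 0 (.node 0 (.node 0 (.node 2 .nil .nil) .nil) (.node 1 .nil .nil)) (.node 2 (.node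 0 (.node 1 .nil (.node 2 .nil .nil)) (.node 2 (.node 2 .nil .nil) .nil)) .nil)) .nil))) (.node 1 .nil .nil)) (.node 2 (.node 0 (.node 0 (.node 0 (.node 1 .nil (.node 2 .nil .nil)) (.node 1 (.node 0 (.node 0 (.node 1 .nil (.node 2 .nil .nil)) .nil) (.node 2 (.node 2 (.node 0 .nil (.node 2 .nil .nil)) .nil) .nil)) (.node 2 (.node 0 .nil (.node 2 (.node 0 .nil (.node 2 .nil .nil)) .nil)) .nil))) (.node 1 (.node 0 (.node 2 .nil .nil) (.node 2 (.node 0 (.node 0 .nil (.node 1 .nil (.node 2 (.node 2 .nil .nil) .nil))) (.node 2 (.node 0 .nil (.node 2 (.node 2 .nil .nil) .nil)) .nil)) .nil)) (.node 2 (.node 2 (.node 0 (.node 0 .nil (.node 1 (.node 2 .nil .nil) (.node 2 (.node 0 (.node 0 .nil .nil) .nil) .nil))) (.node 2 (.node 2 .nil .nil) .nil)) .nil) .nil))) (.node 2 (.node 0 (.node 0 .nil (.node 2 (.node 0 (.node 2 .nil .nil) .nil) .nil)) (.node 2 (.node 0 (.node 0 (.node 1 (.node 2 (.node 0 .nil .nil) .nil)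 (.node 2 (.node 0 .nil .nil) .nil)) (.node 1 (.node 0 .nil .nil) (.node 2 (.node 2 .nil .nil) .nil))) (.node 2 .nil .nil)) .nil)) .nil)) .nil)) (.node 2 (.node 0 (.node 0 (.node 0 (.node 0 (.node 1 (.node 2 (.node 0 (.node 0 (.node 0 .nil .nil) .nil) .nil) .nil) (.node 2 .nil .nil)) (.node 1 (.node 2 (.node 2 (.node 0 .nil .nil) .nil) .nil) (.node 2 (.node 0 (.node 2 (.node 0 .nil .nil) .nil) (.node 2 (.node 0 .nil .nil) .nil)) .nil))) (.node 1 (.node 2 (.node 0 .nil .nil) .nil) (.node 2 (.node 2 (.node 0 (.node 0 .nil .nil) (.node 2 (.node 2 .nil .nil) .nil)) .nil) .nil))) (.node 1 (.node 0 (.node 0 (.node 0 (.node 1 .nil (.node 2 .nil .nil)) .nil) (.node 2 .nil .nil)) (.node 2 (.node 0 (.node 0 (.node 0 .nil (.node 2 .nil .nil)) (.node 1 (.node 0 (.node 0 .nil .nil) (.node 2 (.node 0 .nil .nil) .nil)) (.node 2 (.node 0 (.node 0 .nil .nil) .nil) .nil))) (.node 2 (.node 0 (.node 0 .nil (.node 1 (.node 2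 .nil .nil) (.node 2 .nil .nil))) (.node 2 (.node 0 (.node 2 .nil .nil) .nil) .nil)) .nil)) .nil)) (.node 2 (.node 0 (.node 0 (.node 0 (.node 0 (.node 1 .nil .nil) .nil) (.node 2 .nil .nil)) (.node 1 (.node 0 (.node 0 .nil (.node 1 .nil (.node 2 .nil .nil))) (.node 2 (.node 2 .nil .nil) .nil)) (.node 2 (.node 0 (.node 1 (.node 0 .nil .nil) (.node 2 .nil .nil)) (.node 2 (.node 2 .nil .nil) .nil)) .nil))) (.node 2 (.node 0 (.node 0 (.node 0 (.node 2 .nil .nil) (.node 1 (.node 2 .nil .nil) (.node 2 .nil .nil))) (.node 1 (.node 0 (.node 2 .nil .nil) (.node 2 .nil .nil)) (.node 2 .nil .nil))) (.node 2 (.node 0 (.node 0 .nil .nil) .nil) .nil)) .nil)) .nil))) (.node 2 (.node 0 (.node 0 (.node 0 (.node 0 (.node 0 .nil (.node 1 (.node 0 .nil .nil) .nil)) (.node 1 (.node 0 .nil .nil) (.node 2 (.node 0 .nil (.node 2 .nil .nil)) .nil))) (.node 1 (.node 0 (.node 0 (.node 2 .nil .nil) (.node 2 .nil .nil)) (.node 2 (.node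 0 .nil .nil) .nil)) (.node 2 .nil .nil))) (.node 1 (.node 0 (.node 0 (.node 0 .nil (.node 2 (.node 0 .nil .nil) .nil)) (.node 2 (.node 0 (.node 0 .nil .nil) .nil) .nil)) (.node 2 (.node 0 .nil (.node 2 (.node 0 (.node 1 .nil .nil) .nil) .nil)) .nil)) (.node 2 (.node 0 (.node 0 .nil (.node 1 (.node 0 (.node 0 .nil .nil) .nil) (.node 2 .nil .nil))) (.node 2 (.node 0 (.node 0 (.node 2 .nil .nil) (.node 1 .nil (.node 2 .nil .nil))) .nil) .nil)) .nil))) (.node 2 (.node 0 (.node 1 .nil .nil) (.node 2 (.node 0 (.node 0 .nil (.node 1 .nil .nil)) .nil) .nil)) .nil)) .nil)) .nil))) (.node 1 (.node 0 (.node 0 (.node 0 (.node 0 (.node 0 (.node 0 .nil (.node 1 (.node 0 (.node 1 .nil .nil) (.node 2 .nil .nil)) (.node 2 .nil .nil))) (.node 1 (.node 0 (.node 0 (.node 2 .nil .nil) (.node 1 (.node 2 .nil .nil) (.node 2 .nil .nil))) (.node 2 (.node 0 .nil (.node 2 .nil .nil)) .nil)) (.node 2 (.node 0 (.node 0 (.node 0 .nil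 .nil) (.node 1 .nil .nil)) (.node 2 (.node 2 .nil .nil) .nil)) .nil))) (.node 1 .nil .nil)) (.node 1 (.node 2 (.node 0 (.node 0 .nil (.node 1 .nil (.node 2 (.node 0 (.node 2 .nil .nil) (.node 2 .nil .nil)) .nil))) (.node 2 (.node 2 .nil .nil) .nil)) .nil) (.node 2 (.node 0 (.node 0 (.node 1 (.node 0 .nil (.node 2 .nil .nil)) (.node 2 (.node 0 (.node 0 .nil .nil) (.node 2 .nil .nil)) .nil)) (.node 1 (.node 2 (.node 0 (.node 2 (.node 0 .nil .nil) .nil) .nil) .nil) (.node 2 .nil .nil))) (.node 2 (.node 0 (.node 1 (.node 0 (.node 0 .nil .nil) .nil) (.node 2 (.node 2 .nil .nil) .nil)) (.node 2 (.node 0 (.node 1 (.node 2 .nil .nil) (.node 2 .nil .nil)) .nil) .nil)) .nil)) .nil))) (.node 1 (.node 2 (.node 0 (.node 0 (.node 0 (.node 0 .nil .nil) (.node 2 (.node 2 .nil .nil) .nil)) (.node 1 (.node 0 (.node 0 (.node 1 .nil .nil) (.node 1 (.node 2 .nil .nil) (.node 2 .nil .nil))) (.node 2 .nil .nil)) (.node 2 (.node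 0 .nil .nil) .nil))) (.node 2 (.node 2 (.node 0 (.node 0 (.node 0 .nil .nil) (.node 1 (.node 0 .nil .nil) .nil)) (.node 2 (.node 0 .nil .nil) .nil)) .nil) .nil)) .nil) (.node 2 (.node 0 (.node 0 (.node 0 (.node 1 (.node 2 .nil .nil) (.node 2 (.node 0 (.node 0 .nil .nil) .nil) .nil)) (.node 1 (.node 2 .nil .nil) (.node 2 (.node 0 (.node 0 .nil .nil) (.node 2 (.node 2 .nil .nil) .nil)) .nil))) (.node 1 (.node 0 (.node 0 (.node 0 (.node 0 .nil .nil) (.node 2 .nil .nil)) (.node 1 (.node 2 (.node 2 .nil .nil) .nil) (.node 2 (.node 2 .nil .nil) .nil))) (.node 2 (.node 0 .nil (.node 2 .nil .nil)) .nil)) (.node 2 (.node 2 (.node 0 (.node 1 (.node 0 (.node 0 .nil .nil) (.node 2 .nil .nil)) (.node 2 (.node 2 .nil .nil) .nil)) .nil) .nil) .nil))) (.node 2 (.node 0 (.node 0 (.node 0 .nil (.node 1 (.node 2 (.node 2 .nil .nil) .nil) (.node 2 (.node 0 (.node 0 .nil .nil) (.node 2 .nil .nil)) .nil))) (.node 1 (.node 0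 (.node 0 .nil .nil) .nil) .nil)) (.node 2 (.node 0 (.node 0 (.node 0 .nil (.node 1 (.node 0 .nil (.node 2 .nil .nil)) (.node 2 .nil .nil))) (.node 1 .nil (.node 2 .nil .nil))) (.node 2 (.node 0 (.node 1 (.node 2 .nil .nil) (.node 2 .nil .nil)) .nil) .nil)) .nil)) .nil)) .nil))) (.node 2 (.node 0 (.node 0 (.node 0 (.node 1 (.node 0 (.node 0 .nil (.node 2 .nil .nil)) .nil) .nil) (.node 1 (.node 0 (.node 1 .nil (.node 2 .nil .nil)) (.node 2 (.node 0 (.node 0 .nil (.node 2 .nil .nil)) (.node 2 (.node 0 .nil .nil) .nil)) .nil)) (.node 2 (.node 2 (.node 0 (.node 1 .nil .nil) (.node 2 .nil .nil)) .nil) .nil))) (.node 1 (.node 0 (.node 0 (.node 2 (.node 0 (.node 2 .nil .nil) .nil) .nil) (.node 1 (.node 2 .nil .nil) (.node 2 (.node 0 (.node 1 (.node 0 .nil (.node 2 .nil .nil)) (.node 2 .nil .nil)) (.node 2 .nil .nil)) .nil))) (.node 2 (.node 0 (.node 1 (.node 0 (.node 0 .nil (.node 1 .nil .nil)) .nil) (.node 2 .nil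 .nil)) (.node 2 (.node 0 (.node 0 .nil (.node 1 .nil .nil)) (.node 2 (.node 0 .nil (.node 2 (.node 0 .nil .nil) .nil)) .nil)) .nil)) .nil)) (.node 2 (.node 0 (.node 0 (.node 0 .nil (.node 1 (.node 0 (.node 0 .nil .nil) (.node 2 .nil .nil)) (.node 2 .nil .nil))) (.node 1 (.node 0 (.node 0 .nil (.node 1 .nil .nil)) (.node 2 .nil .nil)) (.node 2 (.node 0 (.node 0 .nil .nil) .nil) .nil))) (.node 2 (.node 0 (.node 0 (.node 0 .nil (.node 1 .nil .nil)) (.node 1 (.node 0 .nil (.node 2 .nil .nil)) (.node 2 .nil .nil))) (.node 2 (.node 0 (.node 0 .nil .nil) (.node 2 (.node 0 (.node 1 .nil .nil) .nil) .nil)) .nil)) .nil)) .nil))) (.node 2 (.node 0 (.node 0 (.node 0 (.node 0 .nil (.node 1 (.node 2 (.node 2 .nil .nil) .nil) (.node 2 (.node 2 .nil .nil) .nil))) (.node 1 (.node 0 .nil .nil) (.node 2 (.node 2 .nil .nil) .nil))) (.node 1 (.node 0 (.node 0 (.node 1 (.node 0 .nil .nil) .nil) (.node 1 .nil (.node 2 (.node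 0 (.node 0 .nil (.node 2 .nil .nil)) .nil) .nil))) .nil) (.node 2 (.node 0 (.node 1 .nil (.node 2 (.node 0 .nil (.node 2 .nil .nil)) .nil)) (.node 2 (.node 2 (.node 0 .nil (.node 2 (.node 0 .nil .nil) .nil)) .nil) .nil)) .nil))) (.node 2 (.node 0 (.node 1 (.node 0 (.node 0 .nil (.node 2 .nil .nil)) (.node 2 (.node 0 (.node 1 .nil .nil) (.node 2 .nil .nil)) .nil)) (.node 2 (.node 0 (.node 2 (.node 2 .nil .nil) .nil) (.node 2 (.node 0 .nil .nil) .nil)) .nil)) (.node 2 (.node 0 (.node 0 (.node 1 .nil (.node 2 .nil .nil)) (.node 1 .nil (.node 2 (.node 0 .nil .nil) .nil))) .nil) .nil)) .nil)) .nil)) .nil)) (.node 2 (.node 0 (.node 0 (.node 0 (.node 0 (.node 2 (.node 0 .nil .nil) .nil) (.node 1 (.node 0 (.node 2 .nil .nil) (.node 2 (.node 0 (.node 1 .nil .nil) .nil) .nil)) (.node 2 (.node 0 (.node 0 (.node 0 .nil (.node 1 (.node 0 .nil .nil) .nil)) (.node 1 (.node 2 .nil .nil) (.node 2 .nil .nil))) (.node 2 .nil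 .nil)) .nil))) (.node 1 (.node 0 (.node 0 (.node 1 (.node 2 .nil .nil) (.node 2 .nil .nil)) (.node 1 (.node 2 (.node 0 .nil .nil) .nil) (.node 2 .nil .nil))) (.node 2 (.node 0 (.node 0 (.node 0 .nil .nil) (.node 1 (.node 2 .nil .nil) (.node 2 (.node 2 (.node 0 .nil .nil) .nil) .nil))) (.node 2 (.node 0 (.node 1 .nil .nil) (.node 2 (.node 2 (.node 0 (.node 1 .nil .nil) .nil) .nil) .nil)) .nil)) .nil)) (.node 2 (.node 0 (.node 0 (.node 1 .nil .nil) (.node 1 (.node 0 (.node 0 .nil (.node 1 .nil .nil)) (.node 2 (.node 0 (.node 0 (.node 0 .nil .nil) .nil) (.node 2 .nil .nil)) .nil)) (.node 2 (.node 2 (.node 0 (.node 1 .nil .nil) .nil) .nil) .nil))) (.node 2 (.node 0 (.node 1 (.node 2 .nil .nil) (.node 2 (.node 0 .nil .nil) .nil)) (.node 2 (.node 0 (.node 0 (.node 0 .nil .nil) (.node 2 .nil .nil)) (.node 2 .nil .nil)) .nil)) .nil)) .nil))) (.node 1 (.node 0 (.node 2 (.node 0 (.node 1 .nil .nil) (.node 2 (.node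 0 (.node 2 (.node 2 .nil .nil) .nil) (.node 2 .nil .nil)) .nil)) .nil) (.node 2 (.node 0 (.node 0 (.node 0 (.node 1 (.node 2 .nil .nil) (.node 2 .nil .nil)) .nil) (.node 1 (.node 0 .nil (.node 2 (.node 2 .nil .nil) .nil)) (.node 2 (.node 0 (.node 1 .nil .nil) (.node 2 (.node 0 .nil .nil) .nil)) .nil))) (.node 2 .nil .nil)) .nil)) (.node 2 (.node 0 (.node 0 (.node 2 (.node 2 (.node 0 .nil .nil) .nil) .nil) (.node 1 (.node 0 (.node 1 .nil (.node 2 (.node 0 (.node 1 .nil .nil) .nil) .nil)) (.node 2 (.node 0 (.node 0 .nil (.node 1 .nil (.node 2 .nil .nil))) (.node 2 (.node 2 (.node 2 .nil .nil) .nil) .nil)) .nil)) (.node 2 (.node 2 (.node 0 (.node 0 (.node 1 .nil .nil) .nil) (.node 2 (.node 0 .nil (.node 2 .nil .nil)) .nil)) .nil) .nil))) (.node 2 (.node 0 (.node 0 (.node 0 (.node 1 (.node 0 .nil .nil) .nil) (.node 1 .nil (.node 2 .nil .nil))) (.node 1 (.node 0 (.node 0 (.node 2 .nil .nil) (.node 1 .nil (.node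 2 .nil .nil))) (.node 2 (.node 2 .nil .nil) .nil)) (.node 2 (.node 0 .nil (.node 2 (.node 0 .nil .nil) .nil)) .nil))) .nil) .nil)) .nil))) (.node 2 (.node 0 (.node 0 (.node 0 (.node 0 (.node 1 .nil (.node 2 (.node 2 .nil .nil) .nil)) (.node 1 (.node 2 (.node 2 .nil .nil) .nil) (.node 2 (.node 2 (.node 2 .nil .nil) .nil) .nil))) .nil) (.node 2 (.node 0 (.node 0 (.node 0 (.node 0 (.node 2 .nil .nil) (.node 1 .nil .nil)) (.node 1 (.node 2 .nil .nil) (.node 2 (.node 0 .nil (.node 2 .nil .nil)) .nil))) (.node 1 (.node 2 (.node 0 .nil (.node 2 .nil .nil)) .nil) (.node 2 (.node 2 .nil .nil) .nil))) (.node 2 (.node 0 (.node 0 (.node 1 .nil .nil) (.node 2 (.node 2 (.node 0 .nil .nil) .nil) .nil)) (.node 2 (.node 0 (.node 1 (.node 0 .nil .nil) .nil) .nil) .nil)) .nil)) .nil)) (.node 2 (.node 0 (.node 0 (.node 0 (.node 1 (.node 0 .nil .nil) .nil) (.node 1 (.node 2 .nil .nil) (.node 2 (.node 0 (.node 1 .nil (.node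 2 .nil .nil)) .nil) .nil))) (.node 1 (.node 2 (.node 2 .nil .nil) .nil) (.node 2 (.node 0 (.node 0 (.node 1 .nil .nil) (.node 1 .nil .nil)) (.node 2 (.node 0 (.node 1 (.node 0 .nil (.node 2 .nil .nil)) (.node 2 .nil .nil)) .nil) .nil)) .nil))) (.node 2 (.node 0 (.node 0 (.node 0 (.node 1 .nil .nil) (.node 1 (.node 2 .nil .nil) (.node 2 (.node 0 (.node 1 .nil .nil) .nil) .nil))) (.node 1 (.node 0 .nil .nil) .nil)) .nil) .nil)) .nil)) .nil)) .nil))) (.node 1 (.node 0 (.node 0 (.node 0 (.node 0 (.node 0 (.node 0 (.node 0 .nil (.node 1 (.node 0 (.node 0 .nil (.node 1 .nil .nil)) .nil) .nil)) (.node 1 (.node 0 .nil (.node 2 (.node 0 (.node 0 .nil .nil) .nil) .nil)) (.node 2 .nil .nil))) (.node 1 (.node 0 (.node 0 (.node 0 (.node 1 .nil .nil) .nil) (.node 2 (.node 2 .nil .nil) .nil)) (.node 2 (.node 0 (.node 0 .nil (.node 2 .nil .nil)) (.node 2 .nil .nil)) .nil)) (.node 2 (.node 0 (.node 1 (.node 0 .nil .nil)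 .nil) (.node 2 (.node 0 (.node 2 .nil .nil) .nil) .nil)) .nil))) (.node 1 (.node 0 (.node 0 (.node 0 (.node 0 (.node 0 .nil (.node 1 .nil .nil)) .nil) (.node 1 .nil (.node 2 .nil .nil))) (.node 2 .nil .nil)) .nil) .nil)) (.node 1 (.node 0 (.node 0 (.node 0 (.node 1 (.node 2 (.node 0 .nil .nil) .nil) (.node 2 .nil .nil)) (.node 1 (.node 0 (.node 1 .nil (.node 2 (.node 2 .nil .nil) .nil)) (.node 2 (.node 0 (.node 1 .nil .nil) (.node 2 (.node 2 .nil .nil) .nil)) .nil)) (.node 2 (.node 2 (.node 2 .nil .nil) .nil) .nil))) (.node 1 (.node 2 (.node 0 (.node 1 .nil .nil) .nil) .nil) (.node 2 (.node 0 (.node 2 (.node 0 (.node 1 .nil .nil) (.node 2 .nil .nil)) .nil) .nil) .nil))) (.node 2 (.node 0 (.node 1 .nil (.node 2 .nil .nil)) (.node 2 (.node 2 (.node 0 (.node 0 .nil (.node 2 .nil .nil)) (.node 2 .nil .nil)) .nil) .nil)) .nil)) (.node 2 (.node 0 (.node 1 (.node 0 (.node 0 (.node 2 (.node 0 .nil .nil) .nil) (.node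 2 .nil .nil)) (.node 2 (.node 2 (.node 0 (.node 0 .nil (.node 1 .nil (.node 2 .nil .nil))) .nil) .nil) .nil)) (.node 2 (.node 2 (.node 0 (.node 1 (.node 0 .nil .nil) .nil) (.node 2 (.node 0 .nil (.node 2 .nil .nil)) .nil)) .nil) .nil)) (.node 2 (.node 0 (.node 0 (.node 0 .nil (.node 1 (.node 0 .nil (.node 2 .nil .nil)) (.node 2 .nil .nil))) (.node 1 (.node 2 (.node 0 (.node 0 .nil .nil) .nil) .nil) (.node 2 (.node 0 .nil .nil) .nil))) (.node 2 (.node 0 (.node 0 .nil .nil) (.node 2 .nil .nil)) .nil)) .nil)) .nil))) (.node 1 (.node 2 (.node 0 (.node 0 (.node 0 (.node 0 (.node 1 .nil (.node 2 (.node 2 .nil .nil) .nil)) (.node 1 .nil (.node 2 (.node 0 .nil .nil) .nil))) (.node 1 (.node 0 (.node 0 .nil (.node 1 .nil .nil)) (.node 2 .nil .nil)) (.node 2 (.node 0 (.node 0 .nil (.node 1 .nil .nil)) .nil) .nil))) (.node 1 (.node 0 (.node 0 (.node 2 .nil .nil) (.node 1 .nil (.node 2 .nil .nil))) (.node 2 (.node 0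 (.node 0 .nil .nil) (.node 2 .nil .nil)) .nil)) (.node 2 (.node 0 (.node 1 (.node 0 .nil (.node 2 .nil .nil)) (.node 2 (.node 0 .nil .nil) .nil)) (.node 2 (.node 0 (.node 0 .nil (.node 1 .nil .nil)) .nil) .nil)) .nil))) (.node 2 (.node 0 (.node 0 (.node 0 (.node 0 .nil (.node 1 .nil .nil)) (.node 2 .nil .nil)) (.node 1 (.node 0 (.node 0 .nil .nil) (.node 2 (.node 2 .nil .nil) .nil)) (.node 2 (.node 0 (.node 1 (.node 0 .nil .nil) (.node 2 (.node 2 .nil .nil) .nil)) (.node 2 (.node 0 (.node 1 .nil .nil) .nil) .nil)) .nil))) (.node 2 (.node 2 .nil .nil) .nil)) .nil)) .nil) (.node 2 (.node 0 (.node 0 (.node 0 (.node 0 (.node 0 .nil (.node 2 .nil .nil)) (.node 1 (.node 2 (.node 0 (.node 1 .nil .nil) .nil) .nil) (.node 2 (.node 0 (.node 0 .nil (.node 1 (.node 0 .nil .nil) .nil)) .nil) .nil))) (.node 1 (.node 0 (.node 1 .nil .nil) (.node 2 .nil .nil)) (.node 2 (.node 0 (.node 0 .nil (.node 2 .nil .nil)) (.node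 2 (.node 2 (.node 2 .nil .nil) .nil) .nil)) .nil))) (.node 1 (.node 0 (.node 0 (.node 2 (.node 0 .nil .nil) .nil) (.node 1 (.node 2 (.node 0 .nil .nil) .nil) (.node 2 (.node 2 (.node 2 .nil .nil) .nil) .nil))) (.node 2 (.node 2 (.node 0 (.node 2 (.node 0 .nil .nil) .nil) (.node 2 (.node 0 .nil .nil) .nil)) .nil) .nil)) (.node 2 (.node 0 (.node 1 (.node 0 (.node 2 .nil .nil) .nil) (.node 2 (.node 2 (.node 0 .nil .nil) .nil) .nil)) (.node 2 (.node 0 (.node 2 (.node 0 (.node 2 .nil .nil) .nil) .nil) (.node 2 (.node 0 (.node 0 .nil (.node 1 (.node 0 .nil .nil) .nil)) .nil) .nil)) .nil)) .nil))) (.node 2 (.node 0 (.node 0 (.node 0 (.node 1 (.node 0 .nil (.node 2 .nil .nil)) (.node 2 .nil .nil)) (.node 1 (.node 2 .nil .nil) (.node 2 (.node 0 .nil .nil) .nil))) (.node 1 (.node 0 (.node 0 (.node 0 .nil (.node 1 .nil .nil)) (.node 1 .nil .nil)) (.node 2 (.node 0 (.node 0 .nil (.node 2 .nil .nil)) (.node 2 .nil .nil))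 .nil)) (.node 2 (.node 0 (.node 1 .nil (.node 2 .nil .nil)) (.node 2 .nil .nil)) .nil))) (.node 2 (.node 0 (.node 0 (.node 0 (.node 1 .nil (.node 2 .nil .nil)) (.node 1 (.node 0 .nil .nil) .nil)) (.node 1 (.node 2 (.node 2 .nil .nil) .nil) (.node 2 (.node 0 (.node 1 .nil .nil) (.node 2 .nil .nil)) .nil))) (.node 2 (.node 0 (.node 0 (.node 0 .nil .nil) (.node 1 (.node 0 .nil .nil) .nil)) .nil) .nil)) .nil)) .nil)) .nil))) (.node 2 (.node 0 (.node 0 (.node 0 (.node 0 (.node 0 (.node 1 (.node 0 .nil .nil) (.node 2 .nil .nil)) (.node 1 .nil .nil)) (.node 1 (.node 0 (.node 1 .nil .nil) .nil) .nil)) (.node 1 (.node 0 (.node 2 (.node 0 (.node 1 .nil .nil) .nil) .nil) (.node 2 (.node 0 (.node 1 .nil (.node 2 (.node 0 .nil .nil) .nil)) .nil) .nil)) (.node 2 (.node 0 (.node 0 (.node 1 (.node 0 .nil .nil) (.node 2 .nil .nil)) (.node 1 (.node 0 (.node 1 .nil .nil) (.node 2 .nil .nil)) (.node 2 (.node 0 .nil .nil) .nil)))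 .nil) .nil))) (.node 1 (.node 0 (.node 0 (.node 0 (.node 1 .nil (.node 2 .nil .nil)) (.node 2 (.node 2 .nil .nil) .nil)) (.node 1 (.node 2 (.node 0 .nil .nil) .nil) (.node 2 (.node 0 (.node 1 .nil .nil) .nil) .nil))) (.node 2 (.node 0 (.node 1 (.node 2 (.node 2 .nil .nil) .nil) (.node 2 (.node 2 (.node 0 (.node 0 .nil .nil) (.node 2 .nil .nil)) .nil) .nil)) (.node 2 (.node 0 (.node 2 (.node 2 .nil .nil) .nil) (.node 2 (.node 2 .nil .nil) .nil)) .nil)) .nil)) (.node 2 (.node 0 (.node 0 (.node 0 (.node 1 .nil .nil) (.node 1 (.node 0 (.node 0 .nil .nil) (.node 2 .nil .nil)) (.node 2 .nil .nil))) (.node 1 (.node 0 (.node 2 (.node 2 .nil .nil) .nil) (.node 2 (.node 0 .nil (.node 2 (.node 2 .nil .nil) .nil)) .nil)) (.node 2 (.node 0 (.node 0 .nil .nil) (.node 2 (.node 0 (.node 1 .nil .nil) (.node 2 .nil .nil)) .nil)) .nil))) (.node 2 (.node 0 (.node 0 (.node 1 (.node 2 .nil .nil) (.node 2 .nil .nil)) (.node 2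 (.node 2 (.node 0 .nil .nil) .nil) .nil)) (.node 2 (.node 0 (.node 0 (.node 1 .nil .nil) (.node 2 .nil .nil)) (.node 2 (.node 0 (.node 0 .nil .nil) .nil) .nil)) .nil)) .nil)) .nil))) (.node 2 (.node 0 (.node 0 (.node 0 (.node 0 (.node 0 (.node 1 .nil .nil) (.node 1 (.node 2 .nil .nil) (.node 2 (.node 0 .nil (.node 2 .nil .nil)) .nil))) (.node 1 (.node 2 (.node 0 (.node 2 .nil .nil) (.node 2 (.node 0 .nil .nil) .nil)) .nil) (.node 2 (.node 0 (.node 0 .nil (.node 1 .nil .nil)) (.node 2 (.node 0 .nil .nil) .nil)) .nil))) (.node 1 (.node 2 (.node 0 .nil .nil) .nil) (.node 2 (.node 0 (.node 1 (.node 0 .nil .nil) (.node 2 (.node 2 .nil .nil) .nil)) (.node 2 (.node 0 (.node 2 .nil .nil) (.node 2 (.node 0 .nil .nil) .nil)) .nil)) .nil))) (.node 1 (.node 0 (.node 0 (.node 1 (.node 2 (.node 2 .nil .nil) .nil) (.node 2 (.node 2 .nil .nil) .nil)) (.node 1 (.node 2 (.node 0 .nil .nil) .nil) (.node 2 (.node 2 (.node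 0 (.node 1 .nil .nil) .nil) .nil) .nil))) (.node 2 (.node 0 (.node 0 (.node 0 .nil (.node 1 .nil .nil)) (.node 2 (.node 0 .nil (.node 2 .nil .nil)) .nil)) (.node 2 (.node 0 (.node 0 (.node 0 .nil .nil) .nil) .nil) .nil)) .nil)) (.node 2 (.node 0 (.node 0 (.node 1 .nil .nil) (.node 1 .nil (.node 2 (.node 2 .nil .nil) .nil))) (.node 2 (.node 0 (.node 0 .nil (.node 2 .nil .nil)) .nil) .nil)) .nil))) (.node 2 (.node 0 (.node 0 (.node 0 (.node 2 .nil .nil) (.node 1 .nil .nil)) (.node 1 (.node 0 (.node 2 (.node 0 .nil (.node 2 .nil .nil)) .nil) (.node 2 (.node 2 .nil .nil) .nil)) (.node 2 (.node 0 (.node 0 (.node 0 .nil .nil) (.node 1 .nil .nil)) (.node 2 .nil .nil)) .nil))) .nil) .nil)) .nil)) .nil)) (.node 2 (.node 0 (.node 0 (.node 0 (.node 0 (.node 0 (.node 0 .nil (.node 1 (.node 2 (.node 2 .nil .nil) .nil) (.node 2 (.node 0 (.node 2 .nil .nil) (.node 2 .nil .nil)) .nil))) (.node 1 (.node 2 (.node 2 (.node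 2 .nil .nil) .nil) .nil) (.node 2 (.node 2 (.node 2 (.node 0 .nil .nil) .nil) .nil) .nil))) (.node 1 (.node 2 (.node 0 (.node 0 (.node 0 .nil (.node 1 (.node 0 .nil .nil) (.node 2 .nil .nil))) (.node 1 (.node 0 .nil (.node 2 .nil .nil)) (.node 2 .nil .nil))) (.node 2 (.node 0 (.node 2 .nil .nil) (.node 2 (.node 0 (.node 2 .nil .nil) .nil) .nil)) .nil)) .nil) (.node 2 (.node 0 (.node 0 (.node 0 (.node 0 .nil .nil) (.node 1 .nil .nil)) .nil) (.node 2 (.node 0 (.node 0 (.node 1 .nil (.node 2 .nil .nil)) (.node 2 (.node 0 .nil (.node 2 .nil .nil)) .nil)) (.node 2 (.node 0 (.node 0 .nil .nil) .nil) .nil)) .nil)) .nil))) (.node 1 (.node 0 (.node 1 (.node 2 .nil .nil) (.node 2 (.node 0 (.node 0 .nil (.node 2 .nil .nil)) .nil) .nil)) (.node 2 (.node 0 (.node 0 (.node 0 (.node 2 .nil .nil) (.node 1 (.node 0 .nil (.node 2 .nil .nil)) (.node 2 .nil .nil))) (.node 1 (.node 2 (.node 2 .nil .nil) .nil) (.node 2 (.node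 2 .nil .nil) .nil))) (.node 2 (.node 0 (.node 2 .nil .nil) (.node 2 (.node 0 (.node 2 .nil .nil) (.node 2 .nil .nil)) .nil)) .nil)) .nil)) (.node 2 (.node 0 (.node 0 (.node 2 (.node 0 (.node 1 (.node 0 .nil .nil) .nil) .nil) .nil) (.node 1 (.node 0 (.node 1 (.node 2 .nil .nil) (.node 2 .nil .nil)) (.node 2 (.node 2 .nil .nil) .nil)) (.node 2 (.node 0 (.node 1 .nil .nil) (.node 2 .nil .nil)) .nil))) (.node 2 (.node 0 (.node 0 (.node 0 (.node 1 .nil .nil) (.node 1 (.node 0 .nil .nil) .nil)) (.node 1 (.node 2 .nil .nil) (.node 2 (.node 0 .nil .nil) .nil))) (.node 2 (.node 0 (.node 2 .nil .nil) (.node 2 (.node 0 .nil .nil) .nil)) .nil)) .nil)) .nil))) (.node 1 (.node 0 (.node 0 (.node 0 (.node 0 (.node 1 (.node 0 .nil (.node 2 .nil .nil)) (.node 2 (.node 2 (.node 0 .nil (.node 2 .nil .nil)) .nil) .nil)) (.node 1 (.node 2 .nil .nil) (.node 2 (.node 0 (.node 0 .nil .nil) (.node 2 (.node 2 .nil .nil) .nil)) .nil)))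 (.node 1 (.node 0 (.node 0 (.node 0 .nil .nil) (.node 1 .nil .nil)) (.node 2 (.node 0 (.node 0 (.node 0 .nil .nil) (.node 2 .nil .nil)) (.node 2 (.node 2 .nil .nil) .nil)) .nil)) (.node 2 (.node 0 (.node 1 (.node 2 .nil .nil) (.node 2 .nil .nil)) (.node 2 (.node 0 .nil (.node 2 (.node 0 .nil .nil) .nil)) .nil)) .nil))) (.node 1 (.node 2 (.node 2 (.node 0 .nil (.node 2 .nil .nil)) .nil) .nil) (.node 2 (.node 0 (.node 0 (.node 0 (.node 1 .nil .nil) (.node 1 (.node 0 .nil (.node 2 .nil .nil)) (.node 2 .nil .nil))) (.node 1 (.node 2 (.node 0 .nil .nil) .nil) (.node 2 (.node 0 .nil (.node 2 (.node 0 .nil (.node 2 .nil .nil)) .nil)) .nil))) (.node 2 (.node 0 (.node 0 (.node 1 .nil (.node 2 .nil .nil)) (.node 1 .nil .nil)) (.node 2 .nil .nil)) .nil)) .nil))) (.node 2 (.node 0 (.node 0 (.node 0 (.node 1 .nil .nil) (.node 1 .nil .nil)) (.node 2 (.node 2 (.node 0 (.node 1 .nil (.node 2 (.node 2 .nil .nil) .nil))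 (.node 2 (.node 2 .nil .nil) .nil)) .nil) .nil)) (.node 2 (.node 0 (.node 0 (.node 0 (.node 0 .nil (.node 1 .nil .nil)) (.node 1 (.node 2 (.node 2 .nil .nil) .nil) (.node 2 (.node 0 .nil (.node 2 .nil .nil)) .nil))) (.node 1 (.node 2 .nil .nil) (.node 2 (.node 2 (.node 0 .nil .nil) .nil) .nil))) (.node 2 (.node 0 (.node 0 (.node 0 .nil (.node 1 .nil .nil)) (.node 1 .nil (.node 2 .nil .nil))) (.node 2 .nil .nil)) .nil)) .nil)) .nil)) (.node 2 (.node 0 (.node 0 (.node 0 (.node 0 (.node 2 (.node 0 .nil (.node 2 .nil .nil)) .nil) (.node 2 .nil .nil)) (.node 1 (.node 0 (.node 0 .nil (.node 1 .nil (.node 2 .nil .nil))) .nil) (.node 2 (.node 2 .nil .nil) .nil))) (.node 1 (.node 2 (.node 2 (.node 0 (.node 1 .nil .nil) (.node 2 .nil .nil)) .nil) .nil) (.node 2 (.node 0 (.node 0 .nil (.node 1 (.node 0 (.node 0 .nil .nil) (.node 2 .nil .nil)) (.node 2 (.node 0 .nil (.node 2 (.node 2 .nil .nil) .nil)) .nil))) (.node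 2 (.node 0 (.node 0 (.node 1 .nil .nil) .nil) (.node 2 (.node 0 (.node 1 .nil .nil) (.node 2 .nil .nil)) .nil)) .nil)) .nil))) (.node 2 (.node 0 (.node 0 (.node 0 (.node 2 .nil .nil) (.node 1 (.node 2 (.node 0 .nil .nil) .nil) (.node 2 .nil .nil))) (.node 2 (.node 0 (.node 0 .nil (.node 1 (.node 0 .nil .nil) .nil)) .nil) .nil)) (.node 2 (.node 2 (.node 0 (.node 1 (.node 2 .nil .nil) (.node 2 .nil .nil)) .nil) .nil) .nil)) .nil)) .nil))) (.node 2 (.node 0 (.node 0 (.node 0 (.node 0 (.node 1 (.node 0 (.node 0 .nil (.node 2 .nil .nil)) .nil) .nil) (.node 1 (.node 0 (.node 0 (.node 2 .nil .nil) (.node 1 (.node 2 .nil .nil) (.node 2 (.node 0 (.node 0 .nil .nil) (.node 2 .nil .nil)) .nil))) (.node 2 (.node 0 (.node 0 .nil (.node 1 .nil .nil)) (.node 2 (.node 2 (.node 0 .nil .nil) .nil) .nil)) .nil)) (.node 2 (.node 0 (.node 0 .nil (.node 1 (.node 0 .nil .nil) .nil)) (.node 2 (.node 2 .nil .nil) .nil)) .nil)))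 (.node 1 (.node 0 (.node 0 (.node 0 (.node 1 .nil .nil) (.node 2 (.node 2 .nil .nil) .nil)) (.node 1 .nil (.node 2 (.node 2 .nil .nil) .nil))) (.node 2 .nil .nil)) (.node 2 (.node 0 (.node 0 (.node 1 (.node 0 .nil (.node 2 .nil .nil)) (.node 2 .nil .nil)) (.node 1 (.node 0 .nil (.node 2 (.node 0 .nil .nil) .nil)) (.node 2 (.node 0 (.node 0 .nil (.node 2 .nil .nil)) (.node 2 .nil .nil)) .nil))) .nil) .nil))) (.node 1 (.node 0 (.node 0 (.node 2 (.node 0 (.node 2 .nil .nil) .nil) .nil) (.node 1 .nil .nil)) .nil) .nil)) (.node 2 (.node 0 (.node 0 (.node 0 (.node 0 .nil (.node 1 (.node 0 (.node 0 .nil .nil) (.node 2 (.node 0 .nil (.node 2 (.node 0 .nil .nil) .nil)) .nil)) (.node 2 (.node 2 .nil .nil) .nil))) (.node 1 .nil .nil)) (.node 1 (.node 0 (.node 2 (.node 0 (.node 2 .nil .nil) .nil) .nil) (.node 2 (.node 2 (.node 0 .nil .nil) .nil) .nil)) (.node 2 (.node 0 (.node 0 (.node 0 (.node 0 .nil (.node 1 .nil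 .nil)) (.node 1 .nil (.node 2 .nil .nil))) (.node 1 (.node 0 (.node 0 .nil (.node 2 .nil .nil)) (.node 2 .nil .nil)) (.node 2 (.node 0 .nil .nil) .nil))) (.node 2 (.node 0 .nil (.node 2 (.node 2 (.node 0 .nil .nil) .nil) .nil)) .nil)) .nil))) .nil) .nil)) .nil)) .nil))) (.node 1 (.node 0 (.node 0 (.node 0 (.node 0 (.node 0 (.node 0 (.node 0 (.node 0 (.node 0 .nil .nil) (.node 1 (.node 0 .nil (.node 2 .nil .nil)) (.node 2 (.node 0 .nil .nil) .nil))) (.node 1 (.node 0 .nil .nil) .nil)) (.node 1 (.node 0 (.node 1 .nil (.node 2 .nil .nil)) (.node 2 .nil .nil)) (.node 2 (.node 0 (.node 0 .nil (.node 1 (.node 2 (.node 2 .nil .nil) .nil) (.node 2 (.node 0 .nil (.node 2 (.node 0 .nil .nil) .nil)) .nil))) (.node 2 (.node 0 .nil (.node 2 (.node 2 .nil .nil) .nil)) .nil)) .nil))) (.node 1 (.node 0 (.node 0 (.node 0 (.node 2 .nil .nil) (.node 1 .nil (.node 2 (.node 2 .nil .nil) .nil))) (.node 1 .nil (.node 2 (.node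 0 (.node 0 .nil (.node 1 (.node 2 .nil .nil) (.node 2 .nil .nil))) (.node 2 (.node 2 .nil .nil) .nil)) .nil))) (.node 2 (.node 2 (.node 0 .nil (.node 2 .nil .nil)) .nil) .nil)) (.node 2 (.node 0 (.node 0 (.node 0 (.node 0 .nil .nil) (.node 2 .nil .nil)) (.node 1 (.node 0 (.node 0 .nil (.node 1 .nil .nil)) (.node 2 (.node 2 .nil .nil) .nil)) (.node 2 (.node 0 (.node 0 (.node 2 .nil .nil) (.node 1 (.node 2 .nil .nil) (.node 2 .nil .nil))) (.node 2 (.node 2 .nil .nil) .nil)) .nil))) (.node 2 (.node 0 (.node 2 (.node 2 .nil .nil) .nil) (.node 2 (.node 0 .nil .nil) .nil)) .nil)) .nil))) (.node 1 (.node 0 (.node 0 (.node 0 (.node 0 .nil (.node 1 (.node 0 .nil .nil) (.node 2 .nil .nil))) (.node 1 (.node 0 (.node 1 .nil (.node 2 .nil .nil)) (.node 2 .nil .nil)) (.node 2 (.node 0 (.node 1 .nil .nil) .nil) .nil))) (.node 1 .nil .nil)) (.node 2 (.node 0 (.node 1 (.node 2 (.node 0 .nil .nil) .nil) (.node 2 (.node 2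 (.node 2 .nil .nil) .nil) .nil)) (.node 2 (.node 0 (.node 0 .nil (.node 2 .nil .nil)) (.node 2 (.node 2 .nil .nil) .nil)) .nil)) .nil)) (.node 2 (.node 2 (.node 0 (.node 0 (.node 0 (.node 0 (.node 0 .nil .nil) .nil) .nil) (.node 2 (.node 0 (.node 0 .nil .nil) (.node 2 (.node 0 .nil .nil) .nil)) .nil)) (.node 2 (.node 0 (.node 1 .nil .nil) (.node 2 (.node 0 (.node 0 .nil (.node 1 .nil .nil)) .nil) .nil)) .nil)) .nil) .nil))) (.node 1 (.node 0 (.node 0 (.node 0 (.node 0 (.node 0 (.node 2 .nil .nil) (.node 1 .nil .nil)) (.node 1 .nil .nil)) (.node 1 (.node 2 (.node 0 .nil (.node 2 .nil .nil)) .nil) (.node 2 (.node 0 (.node 0 .nil (.node 2 .nil .nil)) (.node 2 (.node 0 .nil .nil) .nil)) .nil))) (.node 1 (.node 2 (.node 0 (.node 1 (.node 2 .nil .nil) (.node 2 (.node 0 .nil .nil) .nil)) (.node 2 (.node 2 (.node 2 .nil .nil) .nil) .nil)) .nil) (.node 2 (.node 0 (.node 0 (.node 0 .nil (.node 1 (.node 2 .nil .nil)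 (.node 2 (.node 0 .nil (.node 2 .nil .nil)) .nil))) (.node 1 (.node 0 .nil (.node 2 (.node 2 .nil .nil) .nil)) (.node 2 (.node 2 (.node 0 .nil .nil) .nil) .nil))) (.node 2 (.node 0 (.node 0 (.node 0 .nil (.node 2 (.node 0 .nil (.node 2 .nil .nil)) .nil)) (.node 1 .nil .nil)) (.node 2 (.node 0 (.node 0 (.node 0 .nil (.node 2 .nil .nil)) .nil) (.node 2 .nil .nil)) .nil)) .nil)) .nil))) (.node 2 (.node 0 (.node 0 (.node 0 (.node 1 (.node 0 (.node 0 .nil .nil) .nil) .nil) (.node 1 (.node 2 (.node 2 .nil .nil) .nil) (.node 2 (.node 2 (.node 2 .nil .nil) .nil) .nil))) (.node 1 (.node 2 (.node 2 .nil .nil) .nil) (.node 2 (.node 0 (.node 1 (.node 0 .nil (.node 2 .nil .nil)) (.node 2 .nil .nil)) (.node 2 (.node 0 (.node 0 .nil (.node 2 .nil .nil)) (.node 2 (.node 2 (.node 0 .nil .nil) .nil) .nil)) .nil)) .nil))) (.node 2 (.node 0 (.node 0 (.node 0 .nil (.node 1 .nil .nil)) (.node 1 (.node 0 .nil .nil) .nil)) (.node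 2 (.node 2 (.node 0 .nil .nil) .nil) .nil)) .nil)) .nil)) (.node 2 (.node 0 (.node 0 (.node 0 (.node 1 (.node 0 .nil (.node 2 .nil .nil)) (.node 2 (.node 0 .nil (.node 2 .nil .nil)) .nil)) (.node 1 (.node 0 (.node 0 .nil (.node 1 .nil (.node 2 .nil .nil))) (.node 2 (.node 0 .nil .nil) .nil)) (.node 2 .nil .nil))) (.node 1 (.node 2 (.node 0 (.node 0 (.node 0 .nil .nil) (.node 1 (.node 2 .nil .nil) (.node 2 (.node 2 .nil .nil) .nil))) (.node 2 .nil .nil)) .nil) (.node 2 (.node 0 (.node 1 (.node 0 (.node 2 (.node 0 .nil .nil) .nil) (.node 2 (.node 0 (.node 2 .nil .nil) (.node 2 (.node 2 .nil .nil) .nil)) .nil)) (.node 2 (.node 2 (.node 2 .nil .nil) .nil) .nil)) (.node 2 .nil .nil)) .nil))) (.node 2 (.node 2 (.node 0 (.node 0 (.node 0 (.node 1 .nil .nil) (.node 2 (.node 0 .nil .nil) .nil)) (.node 1 (.node 2 (.node 2 .nil .nil) .nil) (.node 2 (.node 0 (.node 0 .nil .nil) (.node 2 (.node 0 .nil .nil) .nil)) .nil)))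 (.node 2 .nil .nil)) .nil) .nil)) .nil))) (.node 1 (.node 0 (.node 0 (.node 0 (.node 0 (.node 0 (.node 0 .nil (.node 1 (.node 0 .nil .nil) (.node 2 .nil .nil))) (.node 1 (.node 0 (.node 0 .nil (.node 2 (.node 2 .nil .nil) .nil)) .nil) .nil)) (.node 1 (.node 0 (.node 2 .nil .nil) .nil) .nil)) (.node 1 (.node 0 (.node 0 (.node 0 .nil (.node 1 (.node 2 (.node 2 .nil .nil) .nil) (.node 2 (.node 2 .nil .nil) .nil))) (.node 1 (.node 2 .nil .nil) (.node 2 .nil .nil))) (.node 2 (.node 0 (.node 1 .nil (.node 2 .nil .nil)) (.node 2 (.node 2 (.node 0 (.node 2 .nil .nil) (.node 2 .nil .nil)) .nil) .nil)) .nil)) (.node 2 (.node 0 (.node 1 .nil (.node 2 (.node 2 (.node 0 .nil .nil) .nil) .nil)) (.node 2 (.node 0 (.node 0 .nil (.node 2 .nil .nil)) (.node 2 (.node 2 .nil .nil) .nil)) .nil)) .nil))) (.node 1 (.node 2 (.node 0 (.node 0 (.node 0 .nil (.node 2 .nil .nil)) (.node 1 (.node 0 (.node 0 .nil .nil) (.node 2 (.node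 0 .nil .nil) .nil)) (.node 2 (.node 0 .nil .nil) .nil))) (.node 2 (.node 0 (.node 1 (.node 0 .nil .nil) .nil) (.node 2 .nil .nil)) .nil)) .nil) (.node 2 (.node 0 (.node 0 (.node 0 (.node 0 (.node 2 .nil .nil) (.node 2 (.node 0 (.node 0 .nil .nil) .nil) .nil)) (.node 1 .nil .nil)) (.node 2 (.node 0 (.node 1 .nil (.node 2 .nil .nil)) (.node 2 (.node 0 .nil (.node 2 .nil .nil)) .nil)) .nil)) (.node 2 (.node 0 (.node 0 (.node 1 .nil (.node 2 (.node 0 .nil .nil) .nil)) (.node 1 (.node 0 .nil .nil) (.node 2 (.node 0 (.node 1 .nil .nil) (.node 2 .nil .nil)) .nil))) (.node 2 (.node 0 (.node 0 .nil (.node 2 (.node 2 .nil .nil) .nil)) (.node 2 (.node 0 .nil .nil) .nil)) .nil)) .nil)) .nil))) (.node 2 (.node 0 (.node 0 (.node 0 (.node 0 (.node 0 (.node 1 .nil (.node 2 .nil .nil)) (.node 1 .nil .nil)) (.node 1 .nil .nil)) (.node 1 (.node 0 .nil (.node 2 (.node 0 .nil .nil) .nil)) (.node 2 (.node 0 (.node 0 (.node 1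 (.node 0 .nil .nil) .nil) (.node 1 (.node 2 .nil .nil) (.node 2 (.node 0 .nil .nil) .nil))) .nil) .nil))) (.node 1 (.node 0 (.node 1 (.node 2 (.node 0 .nil .nil) .nil) (.node 2 (.node 0 (.node 1 .nil .nil) .nil) .nil)) (.node 2 (.node 0 (.node 1 .nil .nil) (.node 2 (.node 2 .nil .nil) .nil)) .nil)) (.node 2 (.node 0 (.node 0 (.node 0 (.node 1 .nil .nil) .nil) (.node 1 (.node 0 (.node 2 .nil .nil) (.node 2 .nil .nil)) (.node 2 (.node 0 .nil (.node 2 .nil .nil)) .nil))) (.node 2 (.node 0 (.node 0 (.node 2 .nil .nil) (.node 2 (.node 2 (.node 0 .nil .nil) .nil) .nil)) (.node 2 (.node 2 .nil .nil) .nil)) .nil)) .nil))) (.node 2 (.node 2 (.node 0 (.node 0 (.node 1 .nil .nil) (.node 1 .nil (.node 2 (.node 0 (.node 1 .nil .nil) .nil) .nil))) .nil) .nil) .nil)) .nil)) (.node 2 (.node 0 (.node 0 (.node 0 (.node 0 (.node 0 (.node 0 .nil (.node 1 .nil .nil)) (.node 1 (.node 2 (.node 2 .nil .nil) .nil) (.node 2 (.node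 2 (.node 2 .nil .nil) .nil) .nil))) (.node 1 (.node 2 (.node 2 (.node 2 (.node 0 .nil .nil) .nil) .nil) .nil) (.node 2 (.node 2 (.node 0 (.node 0 .nil (.node 2 .nil .nil)) (.node 2 (.node 0 .nil .nil) .nil)) .nil) .nil))) (.node 1 (.node 0 (.node 1 (.node 2 .nil .nil) (.node 2 .nil .nil)) (.node 2 (.node 0 (.node 0 (.node 0 .nil (.node 2 .nil .nil)) (.node 1 (.node 2 (.node 2 .nil .nil) .nil) (.node 2 (.node 2 .nil .nil) .nil))) .nil) .nil)) (.node 2 (.node 0 (.node 0 (.node 2 (.node 0 .nil .nil) .nil) (.node 2 (.node 0 .nil (.node 2 .nil .nil)) .nil)) (.node 2 (.node 0 (.node 0 .nil (.node 1 .nil (.node 2 .nil .nil))) (.node 2 (.node 0 .nil (.node 2 .nil .nil)) .nil)) .nil)) .nil))) (.node 1 (.node 0 (.node 0 (.node 0 (.node 0 (.node 2 .nil .nil) .nil) (.node 2 .nil .nil)) (.node 1 (.node 2 (.node 2 .nil .nil) .nil) (.node 2 (.node 0 (.node 0 (.node 2 .nil .nil) (.node 1 .nil .nil)) (.node 2 (.node 2 .nil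 .nil) .nil)) .nil))) .nil) (.node 2 (.node 0 (.node 0 (.node 0 (.node 0 .nil (.node 2 .nil .nil)) (.node 1 (.node 0 (.node 0 .nil .nil) .nil) (.node 2 (.node 2 .nil .nil) .nil))) (.node 1 (.node 2 (.node 2 (.node 2 .nil .nil) .nil) .nil) (.node 2 (.node 0 (.node 1 (.node 0 .nil .nil) (.node 2 .nil .nil)) (.node 2 (.node 0 (.node 0 .nil .nil) (.node 2 (.node 0 .nil .nil) .nil)) .nil)) .nil))) (.node 2 (.node 0 (.node 0 (.node 1 .nil (.node 2 .nil .nil)) (.node 2 (.node 0 (.node 0 .nil (.node 1 .nil .nil)) .nil) .nil)) (.node 2 (.node 2 (.node 0 .nil .nil) .nil) .nil)) .nil)) .nil))) (.node 2 (.node 0 (.node 0 (.node 0 (.node 0 .nil (.node 1 (.node 0 (.node 2 .nil .nil) (.node 2 (.node 2 .nil .nil) .nil)) (.node 2 (.node 0 (.node 0 .nil (.node 1 (.node 0 .nil .nil) .nil)) (.node 2 .nil .nil)) .nil))) (.node 1 (.node 2 .nil .nil) (.node 2 (.node 0 (.node 0 .nil (.node 2 (.node 0 .nil (.node 2 .nil .nil)) .nil))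 .nil) .nil))) (.node 1 (.node 0 (.node 1 .nil .nil) .nil) .nil)) (.node 2 .nil .nil)) .nil)) .nil))) .nil) .nil))


theorem gensA0_ok : gensOk gensA0 fixA0 = true := by decide +kernel

theorem okA0 : orbitOk gensA0 treeA0 1 ((ptMasks sqD true).filter fun v => !((fixA0).contains v)) = true := by decide +kernel

theorem gensA1_ok : gensOk gensA1 fixA1 = true := by decide +kernel

theorem okA1 : orbitOk gensA1 treeA1 2 ((ptMasks sqD true).filter fun v => !((fixA1).contains v)) = true := by decide +kernel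

theorem gensA2_ok : gensOk gensA2 fixA2 = true := by decide +kernel

theorem okA2 : orbitOk gensA2 treeA2 4 ((ptMasks sqD true).filter fun v => !((fixA2).contains v)) = true := by decide +kernel

theorem gensA3_ok : gensOk gensA3 fixA3 = true := by decide +kernel

theorem okA3 : orbitOk gensA3 treeA3 8 ((ptMasks sqD true).filter fun v => !((fixA3).contains v)) = true := by decide +kernel

theorem gensA4_ok : gensOk gensA4 fixA4 = true := by decide +kernel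

theorem okA4 : orbitOk gensA4 treeA4 16 ((ptMasks sqD true).filter fun v => !((fixA4).contains v)) = true := by decide +kernel

theorem gensB1_ok : gensOk gensB1 fixB1 = true := by decide +kernel

theorem okB1 : orbitOk gensB1 treeB1 128 ((ptMasks sqD false).filter fun v => !((fixB1).contains v)) = true := by decide +kernel

theorem gensB2_ok : gensOk gensB2 fixB2 = true := by decide +kernel

theorem okB2 : orbitOk gensB2 treeB2 1024 ((ptMasks sqD false).filter fun v => !((fixB2).contains v)) = true := by decide +kernel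

theorem okB0 : orbitOk gensA1 treeB0 32 (ptMasks sqD false) = true := by decide +kernel

theorem okA3Out : orbitOk gensA3 treeA3Out 32 (ptMasks sqD false) = true := by decide +kernel

theorem okOct2 : orbitOk gensA0 treeOct2 12222476 (octList.filter fun v => Nat.beq (popc (v &&& sqD)) 2) = true := by decide +kernel

theorem okOct4 : orbitOk gensA0 treeOct4 13062145 (octList.filter fun v => Nat.beq (popc (v &&& sqD)) 4) = true := by decide +kernel

theorem okOct6 : orbitOk gensA0 treeOct6 3416079 (octList.filter fun v => Nat.beq (popc (v &&& sqD)) 6) = true := by decide +kernel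

theorem okDod4 : orbitOk gensA0 treeDod4 16748578 (dodList.filter fun v => Nat.beq (popc (v &&& sqD)) 4) = true := by decide +kernel

theorem okDodPt4 : orbitOk gensA1 treeDodPt4 15974505 (dodList.filter fun v => v.testBit 0 && Nat.beq (popc (v &&& sqD)) 4) = true := by decide +kernel

theorem okDod6 : orbitOk gensA0 treeDod6 8245261 (dodList.filter fun v => Nat.beq (popc (v &&& sqD)) 6) = true := by decide +kernel

theorem okDodPt6 : orbitOk gensA1 treeDodPt6 8245261 (dodList.filter fun v => v.testBit 0 && Nat.beq (popc (v &&& sqD)) 6) = true := by decide +kernel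

theorem okDod8 : orbitOk gensA0 treeDod8 11472927 (dodList.filter fun v => Nat.beq (popc (v &&& sqD)) 8) = true := by decide +kernel

theorem okDodPt8 : orbitOk gensA1 treeDodPt8 11472927 (dodList.filter fun v => v.testBit 0 && Nat.beq (popc (v &&& sqD)) 8) = true := by decide +kernel

theorem okDodecads : orbitOk [gen0, gen1, gen2] treeDodecads 340831 (dodList) = true := by decide +kernel

end CfsgLib.Golay.DodStab
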