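/-
A set of masks with the properties of a code of dimension 12 and minimum weight 8 containing the
standard sextet can be relabelled onto the code.
-/
import Cfsg.Agent.Golay.HexData

set_option autoImplicit false
set_option synthInstance.maxSize 2000

namespace CfsgLib.Golay.Hex

open Cfsg
open scoped Pointwise

/-- A mask from six digits of four bits. -/
def mk6 (a b c d e f : ℕ) : ℕ :=
  a ^^^ (b <<< 4) ^^^ (c <<< 8) ^^^ (d <<< 12) ^^^ (e <<< 16) ^^^ (f <<< 20)

/-- A digit of four bits. -/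
def dig (m i : ℕ) : ℕ := (m >>> (4 * i)) % 16

theorem mk6_def (a b c d e f : ℕ) : mk6 a b c d e f =
    a ^^^ (b <<< 4) ^^^ (c <<< 8) ^^^ (d <<< 12) ^^^ (e <<< 16) ^^^ (f <<< 20) := rfl

theorem dig_lt (m i : ℕ) : dig m i < 16 := Nat.mod_lt _ (by omega)

theorem dig_and (m t i : ℕ) : dig (m &&& t) i = dig m i &&& dig t i := by
  refine Nat.eq_of_testBit_eq fun j => ?_
  simp only [dig, show (16 : ℕ) = 2 ^ 4 from rfl, Nat.testBit_and, Nat.testBit_mod_two_pow,
    Nat.testBit_shiftRight]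
  cases decide (j < 4) <;> simp

theorem split4 (m : ℕ) : m = m % 16 ^^^ (m >>> 4) <<< 4 := by
  refine Nat.eq_of_testBit_eq fun j => ?_
  simp only [show (16 : ℕ) = 2 ^ 4 from rfl, Nat.testBit_xor, Nat.testBit_shiftLeft,
    Nat.testBit_mod_two_pow, Nat.testBit_shiftRight]
  rcases lt_or_ge j 4 with h | h
  · simp [h, show ¬ 4 ≤ j by omega]
  · simp [show ¬ j < 4 by omega, h, show 4 + (j - 4) = j by omega]

theorem eq_mk6 {m : ℕ} (hm : m < 2 ^ 24) :
    m = mk6 (dig m 0) (dig m 1) (dig m 2) (dig m 3) (dig m 4) (dig m 5) := by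
  have step : ∀ k, m >>> k = (m >>> k) % 16 ^^^ (m >>> (k + 4)) <<< 4 := fun k => by
    rw [Nat.shiftRight_add]; exact split4 _
  have top : m >>> 20 % 16 = m >>> 20 := by
    refine Nat.mod_eq_of_lt ?_
    rw [Nat.shiftRight_eq_div_pow]; omega
  have nest : ∀ a b c d e f : ℕ,
      a ^^^ (b ^^^ (c ^^^ (d ^^^ (e ^^^ f <<< 4) <<< 4) <<< 4) <<< 4) <<< 4 = mk6 a b c d e f := by
    intro a b c d e f
    rw [mk6_def]
    simp [Nat.shiftLeft_xor_distrib, ← Nat.shiftLeft_add, Nat.xor_assoc]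
  rw [← nest]
  simp only [dig, Nat.reduceMul, Nat.shiftRight_zero]
  have s0 := step 0
  have s4 := step 4
  have s8 := step 8
  have s12 := step 12
  have s16 := step 16
  simp only [Nat.reduceAdd, Nat.shiftRight_zero] at s0 s4 s8 s12 s16
  rw [top, ← s16, ← s12, ← s8, ← s4]
  exact s0

/-- Weight of a digit. -/
def pd (d : ℕ) : ℕ := popAux 4 d

theorem popAux_add (a b : ℕ) : ∀ m, popAux (a + b) m = popAux a m + popAux b (m >>> a) := by
  induction a with
  | zero => intro m; simp [popAux]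
  | succ a ih =>
    intro m
    rw [show a + 1 + b = a + b + 1 by omega, popAux, popAux, ih, Nat.add_assoc]
    congr 2
    rw [← Nat.shiftRight_succ_inside]

theorem popAux_four (m : ℕ) : popAux 4 m = pd (m % 16) := by
  rw [pd, popAux_eq, popAux_eq]
  refine congrArg Finset.card (Finset.filter_congr fun i _ => ?_)
  rw [show (16 : ℕ) = 2 ^ 4 from rfl, Nat.testBit_mod_two_pow]
  simp [i.isLt]

theorem popc_eq (m : ℕ) :
    popc m = pd (dig m 0) + pd (dig m 1) + pd (dig m 2) + pd (dig m 3) + pd (dig m 4) + pd (dig m 5) := by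
  rw [popc, show 24 = 4 + (4 + (4 + (4 + (4 + 4)))) from rfl, popAux_add 4, popAux_add 4, popAux_add 4,
    popAux_add 4, popAux_add 4]
  simp only [popAux_four, dig, ← Nat.shiftRight_add, Nat.reduceAdd, Nat.reduceMul, Nat.shiftRight_zero]
  omega

theorem popc_xor {a b : ℕ} (ha : a < 2 ^ 24) (hb : b < 2 ^ 24) :
    popc (a ^^^ b) + 2 * popc (a &&& b) = popc a + popc b := by
  rw [← mask_toSet ha, ← mask_toSet hb, ← mask_symmDiff, ← mask_inter, popc_mask, popc_mask, popc_mask,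
    popc_mask, symmDiff_def, Finset.sup_eq_union, Finset.card_union_of_disjoint disjoint_sdiff_sdiff]
  have h1 := Finset.card_sdiff_add_card_inter (toSet a) (toSet b)
  have h2 := Finset.card_sdiff_add_card_inter (toSet b) (toSet a)
  rw [Finset.inter_comm (toSet b) (toSet a)] at h2
  omega

theorem dig_mk6 {a b c d e f : ℕ} (ha : a < 16) (hb : b < 16) (hc : c < 16) (hd : d < 16)
    (he : e < 16) (hf : f < 16) :
    dig (mk6 a b c d e f) 0 = a ∧ dig (mk6 a b c d e f) 1 = b ∧ dig (mk6 a b c d e f) 2 = c ∧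
    dig (mk6 a b c d e f) 3 = d ∧ dig (mk6 a b c d e f) 4 = e ∧ dig (mk6 a b c d e f) 5 = f := by
  simp only [dig, mk6, Nat.shiftRight_xor_distrib, Nat.reduceMul, Nat.shiftRight_zero]
  have sl : ∀ x p q : ℕ, p ≤ q → (x <<< q) >>> p = x <<< (q - p) := fun x p q hpq => by
    refine Nat.eq_of_testBit_eq fun j => ?_
    simp only [Nat.testBit_shiftRight, Nat.testBit_shiftLeft]
    rcases lt_or_ge j (q - p) with h | h
    · simp [show ¬ q ≤ p + j by omega, show ¬ q - p ≤ j by omega]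
    · simp [show q ≤ p + j by omega, h, show p + j - q = j - (q - p) by omega]
  have sr : ∀ x p q : ℕ, x < 16 → q + 4 ≤ p → (x <<< q) >>> p = 0 := fun x p q hx hpq => by
    rw [Nat.shiftLeft_eq, Nat.shiftRight_eq_div_pow, Nat.div_eq_zero_iff]
    right
    calc x * 2 ^ q < 16 * 2 ^ q := Nat.mul_lt_mul_of_pos_right hx (Nat.two_pow_pos q)
      _ = 2 ^ (q + 4) := by rw [Nat.pow_add]; ring
      _ ≤ 2 ^ p := Nat.pow_le_pow_right (by omega) hpq
  have m0 : ∀ x q : ℕ, 4 ≤ q → (x <<< q) % 16 = 0 := fun x q hq => by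
    rw [Nat.shiftLeft_eq, show q = 4 + (q - 4) by omega, Nat.pow_add, ← Nat.mul_assoc, Nat.mul_comm x,
      Nat.mul_assoc]
    exact Nat.mul_mod_right _ _
  have xm : ∀ x y : ℕ, (x ^^^ y) % 16 = x % 16 ^^^ y % 16 := fun x y => Nat.xor_mod_two_pow (n := 4)
  have za : ∀ p : ℕ, 4 ≤ p → a >>> p = 0 := fun p hp => by
    rw [Nat.shiftRight_eq_div_pow, Nat.div_eq_zero_iff]
    exact Or.inr (lt_of_lt_of_le ha (Nat.pow_le_pow_right (n := 2) (by omega) hp))
  refine ⟨?_, ?_, ?_, ?_, ?_, ?_⟩ <;>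
    simp [sl, sr, m0, xm, za, ha, hb, hc, hd, he, hf, Nat.mod_eq_of_lt]

theorem xor_six (a b c d e f a' b' c' d' e' f' : ℕ) :
    (a ^^^ b ^^^ c ^^^ d ^^^ e ^^^ f) ^^^ (a' ^^^ b' ^^^ c' ^^^ d' ^^^ e' ^^^ f') =
      (a ^^^ a') ^^^ (b ^^^ b') ^^^ (c ^^^ c') ^^^ (d ^^^ d') ^^^ (e ^^^ e') ^^^ (f ^^^ f') := by
  ac_rfl

theorem mk6_xor (a b c d e f a' b' c' d' e' f' : ℕ) :
    mk6 a b c d e f ^^^ mk6 a' b' c' d' e' f' =
      mk6 (a ^^^ a') (b ^^^ b') (c ^^^ c') (d ^^^ d') (e ^^^ e') (f ^^^ f') := by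
  rw [mk6_def, mk6_def, mk6_def, Nat.shiftLeft_xor_distrib (a := b), Nat.shiftLeft_xor_distrib (a := c),
    Nat.shiftLeft_xor_distrib (a := d), Nat.shiftLeft_xor_distrib (a := e),
    Nat.shiftLeft_xor_distrib (a := f), xor_six]

/-- Place three chosen digits and the remaining three. -/
def place (k a b c d e f : ℕ) : ℕ :=
  bif Nat.beq k 0 then mk6 a b c d e f else bif Nat.beq k 1 then mk6 a d b c e f else mk6 a b d c e f

/-- The unions of two standard tetrads. -/
def pairs : List ℕ :=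
  [255, 3855, 4080, 61455, 61680, 65280, 983055, 983280, 986880, 1044480, 15728655, 15728880,
    15732480, 15790080, 16711680]

/-- A total weight is zero, or at least eight and divisible by four. -/
def c0 (w : ℕ) : Bool := Nat.beq w 0 || (Nat.ble 8 w && Nat.beq (w % 4) 0)

/-- A necessary condition on the six weights. -/
def condW (u0 u1 u2 u3 u4 u5 : ℕ) : Bool :=
  c0 (u0 + u1 + u2 + u3 + u4 + u5) &&
    [u0 + u1, u0 + u2, u1 + u2, u0 + u3, u1 + u3, u2 + u3, u0 + u4, u1 + u4, u2 + u4, u3 + u4,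
      u0 + u5, u1 + u5, u2 + u5, u3 + u5, u4 + u5].all fun v =>
        Nat.beq (v % 2) 0 && c0 (u0 + u1 + u2 + u3 + u4 + u5 + 8 - 2 * v)

/-- The hypotheses. -/
structure Gol (S : ℕ → Prop) : Prop where
  lt : ∀ m, S m → m < 2 ^ 24
  xor : ∀ a b, S a → S b → S (a ^^^ b)
  wt : ∀ m, S m → m = 0 ∨ 8 ≤ popc m
  dvd : ∀ m, S m → popc m % 4 = 0
  orth : ∀ a b, S a → S b → popc (a &&& b) % 2 = 0
  card : {m | S m}.ncard = 4096
  tt : ∀ t ∈ pairs, S t

variable {S : ℕ → Prop}

theorem Gol.finite (h : Gol S) : {m | S m}.Finite :=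
  (Set.finite_Iio (2 ^ 24)).subset fun m hm => h.lt m hm

theorem Gol.c0_ok (h : Gol S) {m : ℕ} (hm : S m) : c0 (popc m) = true := by
  simp only [c0, Bool.or_eq_true, Bool.and_eq_true, Nat.beq_eq, Nat.ble_eq]
  rcases h.wt m hm with e | e
  · left; subst e; rfl
  · exact Or.inr ⟨e, h.dvd m hm⟩

theorem and_fifteen : ∀ d < 16, d &&& 15 = d := by decide

theorem Gol.cond_ok (h : Gol S) {m : ℕ} (hm : S m) : condW (pd (dig m 0)) (pd (dig m 1)) (pd (dig m 2))
    (pd (dig m 3)) (pd (dig m 4)) (pd (dig m 5)) = true := by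
  have key : ∀ t ∈ pairs, ∀ v, popc (m &&& t) = v →
      (Nat.beq (v % 2) 0 && c0 (popc m + 8 - 2 * v)) = true := by
    intro t ht v hv
    have h2 := h.orth _ _ hm (h.tt t ht)
    have h3 := h.c0_ok (h.xor _ _ hm (h.tt t ht))
    have h4 := popc_xor (h.lt m hm) (h.lt t (h.tt t ht))
    rw [(by decide +kernel : ∀ t ∈ pairs, popc t = 8) t ht, hv] at h4
    rw [hv] at h2
    rw [show popc m + 8 - 2 * v = popc (m ^^^ t) by omega, h3, h2]
    rfl
  have ev : ∀ t, popc (m &&& t) = pd (dig m 0 &&& dig t 0) + pd (dig m 1 &&& dig t 1) +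
      pd (dig m 2 &&& dig t 2) + pd (dig m 3 &&& dig t 3) + pd (dig m 4 &&& dig t 4) +
      pd (dig m 5 &&& dig t 5) := fun t => by simp only [popc_eq (m &&& t), dig_and]
  have h0 := h.c0_ok hm
  rw [popc_eq] at h0
  simp only [pairs, List.forall_mem_cons, List.not_mem_nil, IsEmpty.forall_iff, implies_true, and_true,
    ev, popc_eq m, dig, Nat.reduceMul, Nat.reduceShiftRight, Nat.reduceMod, Nat.and_zero,
    and_fifteen _ (Nat.mod_lt _ (by norm_num : 16 > 0)), show pd 0 = 0 from rfl, add_zero, zero_add,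
    forall_eq'] at key
  simp only [dig, Nat.reduceMul] at h0 ⊢
  simp only [condW, List.all_cons, List.all_nil, Bool.and_true, Bool.and_eq_true] at key ⊢
  exact ⟨h0, key⟩

/-- Patterns of equal parity on three tetrads. -/
def pat (k : ℕ) : List ℕ :=
  (List.range 16).flatMap fun a => (List.range 16).flatMap fun b => ((List.range 16).filter fun c =>
    Nat.beq (pd a % 2) (pd b % 2) && Nat.beq (pd a % 2) (pd c % 2)).map
      fun c => place k a b c 0 0 0

/-- The code words vanishing on three tetrads. -/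
def ker (k : ℕ) : List ℕ :=
  [0, place k 0 0 0 15 15 0, place k 0 0 0 15 0 15, place k 0 0 0 0 15 15]

theorem pat_length : (List.range 3).all (fun k => Nat.beq (pat k).length 1024) = true := by decide +kernel

theorem pd_le (d : ℕ) : pd d ≤ 4 := by
  rw [pd, popAux_eq]; exact (Finset.card_le_univ _).trans (by simp)

theorem pd_facts : ∀ d < 16, (pd d = 0 → d = 0) ∧ (pd d = 4 → d = 15) ∧
    (pd d = 2 → d ∈ [3, 5, 9, 6, 10, 12]) ∧ (pd d = 1 → d ∈ [1, 2, 4, 8] ∧ d ^^^ 15 ∈ [14, 13, 11, 7]) ∧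
    (pd d = 3 → d ∈ [14, 13, 11, 7] ∧ d ^^^ 15 ∈ [1, 2, 4, 8]) := by decide

theorem ker_w : ∀ d < 5, ∀ e < 5, ∀ f < 5,
    (condW 0 0 0 d e f = true ∨ condW 0 d 0 0 e f = true ∨ condW 0 0 d 0 e f = true) →
      (d = 0 ∧ e = 0 ∧ f = 0) ∨ (d = 4 ∧ e = 4 ∧ f = 0) ∨ (d = 4 ∧ e = 0 ∧ f = 4) ∨
        (d = 0 ∧ e = 4 ∧ f = 4) := by decide +kernel

theorem place_digits (k : ℕ) (hk : k < 3) : ∃ i j l i' j' l' : ℕ, i < 6 ∧ j < 6 ∧ l < 6 ∧ i' < 6 ∧
    j' < 6 ∧ l' < 6 ∧ (∀ m, m < 2 ^ 24 →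
      m = place k (dig m i) (dig m j) (dig m l) (dig m i') (dig m j') (dig m l')) ∧
    dig (place k 15 15 15 0 0 0) i = 15 ∧ dig (place k 15 15 15 0 0 0) j = 15 ∧
    dig (place k 15 15 15 0 0 0) l = 15 ∧ dig (place k 15 15 15 0 0 0) i' = 0 ∧
    dig (place k 15 15 15 0 0 0) j' = 0 ∧ dig (place k 15 15 15 0 0 0) l' = 0 ∧
    (∀ S : ℕ → Prop, Gol S → ∀ m, S m → pd (dig m i) % 2 = pd (dig m j) % 2 ∧
      pd (dig m i) % 2 = pd (dig m l) % 2) ∧
    (∀ S : ℕ → Prop, Gol S → ∀ m, S m → dig m i = 0 → dig m j = 0 → dig m l = 0 →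
      condW 0 0 0 (pd (dig m i')) (pd (dig m j')) (pd (dig m l')) = true ∨
      condW 0 (pd (dig m i')) 0 0 (pd (dig m j')) (pd (dig m l')) = true ∨
      condW 0 0 (pd (dig m i')) 0 (pd (dig m j')) (pd (dig m l')) = true) := by
  have par : ∀ S : ℕ → Prop, Gol S → ∀ m, S m → pd (dig m 0) % 2 = pd (dig m 1) % 2 ∧
      pd (dig m 0) % 2 = pd (dig m 2) % 2 ∧ pd (dig m 0) % 2 = pd (dig m 3) % 2 := by
    intro S h m hm
    have hc := h.cond_ok hm
    simp only [condW, Bool.and_eq_true, List.all_eq_true, List.mem_cons, forall_eq_or_imp, Nat.beq_eq]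
      at hc
    omega
  obtain rfl | rfl | rfl : k = 0 ∨ k = 1 ∨ k = 2 := by omega
  · refine ⟨0, 1, 2, 3, 4, 5, by omega, by omega, by omega, by omega, by omega, by omega,
      fun m hm => eq_mk6 hm, rfl, rfl, rfl, rfl, rfl, rfl,
      fun S h m hm => ⟨(par S h m hm).1, (par S h m hm).2.1⟩, fun S h m hm a b c => Or.inl ?_⟩
    have := h.cond_ok hm
    rwa [a, b, c] at this
  · refine ⟨0, 2, 3, 1, 4, 5, by omega, by omega, by omega, by omega, by omega, by omega,
      fun m hm => eq_mk6 hm, rfl, rfl, rfl, rfl, rfl, rfl,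
      fun S h m hm => ⟨(par S h m hm).2.1, (par S h m hm).2.2⟩, fun S h m hm a b c => Or.inr (Or.inl ?_)⟩
    have := h.cond_ok hm
    rwa [a, b, c] at this
  · refine ⟨0, 1, 3, 2, 4, 5, by omega, by omega, by omega, by omega, by omega, by omega,
      fun m hm => eq_mk6 hm, rfl, rfl, rfl, rfl, rfl, rfl,
      fun S h m hm => ⟨(par S h m hm).1, (par S h m hm).2.2⟩, fun S h m hm a b c => Or.inr (Or.inr ?_)⟩
    have := h.cond_ok hm
    rwa [a, b, c] at this

theorem exists_pattern (h : Gol S) {k : ℕ} (hk : k < 3) {r : ℕ} (hr : r ∈ pat k) :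
    ∃ m, S m ∧ m &&& place k 15 15 15 0 0 0 = r := by
  classical
  obtain ⟨i, j, l, i', j', l', -, -, -, -, -, -, hpl, ui, uj, ul, ui', uj', ul', hpar, hker⟩ :=
    place_digits k hk
  set U := place k 15 15 15 0 0 0 with hU
  set W := h.finite.toFinset with hW
  have hWc : W.card = 4096 := by rw [← h.card, Set.ncard_eq_toFinset_card _ h.finite]
  have hmem : ∀ m, m ∈ W ↔ S m := fun m => by rw [hW, Set.Finite.mem_toFinset]; rfl
  have hres : ∀ m, m < 2 ^ 24 → m &&& U = place k (dig m i) (dig m j) (dig m l) 0 0 0 := by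
    intro m hm
    have e := hpl _ (lt_of_le_of_lt Nat.and_le_left hm : m &&& U < 2 ^ 24)
    simpa only [dig_and, ui, uj, ul, ui', uj', ul', and_fifteen _ (dig_lt m _), Nat.and_zero] using e
  have hmaps : ∀ m ∈ W, m &&& U ∈ (pat k).toFinset := by
    intro m hm
    rw [hmem] at hm
    rw [hres m (h.lt m hm), List.mem_toFinset]
    simp only [pat, List.mem_flatMap, List.mem_map, List.mem_filter, List.mem_range, Bool.and_eq_true,
      Nat.beq_eq]
    exact ⟨_, dig_lt m i, _, dig_lt m j, _, ⟨dig_lt m l, hpar S h m hm⟩, rfl⟩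
  have hfib : ∀ y ∈ (pat k).toFinset, (W.filter fun m => m &&& U = y).card ≤ 4 := by
    intro y _
    by_cases he : (W.filter fun m => m &&& U = y) = ∅
    · simp [he]
    obtain ⟨m0, hm0⟩ := Finset.nonempty_iff_ne_empty.2 he
    rw [Finset.mem_filter, hmem] at hm0
    refine (Finset.card_le_card (t := (ker k).toFinset.image (m0 ^^^ ·)) ?_).trans
      (Finset.card_image_le.trans ((List.toFinset_card_le _).trans le_rfl))
    intro m hm
    rw [Finset.mem_filter, hmem] at hm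
    have hx := h.xor _ _ hm0.1 hm.1
    have hz : (m0 ^^^ m) &&& U = 0 := by
      rw [Nat.and_xor_distrib_right, hm0.2, hm.2, Nat.xor_self]
    refine Finset.mem_image.2 ⟨m0 ^^^ m, ?_, by simp⟩
    rw [List.mem_toFinset]
    have hd : ∀ q, dig U q = 15 → dig (m0 ^^^ m) q = 0 := fun q hq => by
      have := dig_and (m0 ^^^ m) U q
      rw [hz, hq, and_fifteen _ (dig_lt _ _)] at this
      rw [← this]; simp [dig]
    have e := hpl _ (h.lt _ hx)
    rw [hd i ui, hd j uj, hd l ul] at e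
    rw [e]
    have hw := ker_w _ (Nat.lt_succ_of_le (pd_le _)) _ (Nat.lt_succ_of_le (pd_le _)) _
      (Nat.lt_succ_of_le (pd_le _)) (hker S h _ hx (hd i ui) (hd j uj) (hd l ul))
    have z := fun q => (pd_facts _ (dig_lt (m0 ^^^ m) q))
    rcases hw with ⟨a, b, c⟩ | ⟨a, b, c⟩ | ⟨a, b, c⟩ | ⟨a, b, c⟩
    · rw [(z i').1 a, (z j').1 b, (z l').1 c]
      simp [ker, place, mk6]
    · rw [(z i').2.1 a, (z j').2.1 b, (z l').1 c]; simp [ker]
    · rw [(z i').2.1 a, (z j').1 b, (z l').2.1 c]; simp [ker]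
    · rw [(z i').1 a, (z j').2.1 b, (z l').2.1 c]; simp [ker]
  have hsum := Finset.card_eq_sum_card_image (fun m => m &&& U) W
  have hsub : W.image (fun m => m &&& U) ⊆ (pat k).toFinset := fun y hy => by
    obtain ⟨m, hm, rfl⟩ := Finset.mem_image.1 hy
    exact hmaps m hm
  have hlen : (pat k).length = 1024 := by
    have := pat_length
    simp only [List.all_eq_true, List.mem_range, Nat.beq_eq] at this
    exact this k hk
  have hle : 4096 ≤ 4 * (W.image fun m => m &&& U).card := by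
    rw [← hWc, hsum]
    refine (Finset.sum_le_sum fun y hy => hfib y (hsub hy)).trans ?_
    rw [Finset.sum_const, smul_eq_mul, Nat.mul_comm]
  have heq : W.image (fun m => m &&& U) = (pat k).toFinset :=
    Finset.eq_of_subset_of_card_le hsub ((List.toFinset_card_le _).trans (by omega))
  obtain ⟨m, hm, e⟩ := Finset.mem_image.1 (heq.symm ▸ List.mem_toFinset.2 hr :
    r ∈ W.image fun m => m &&& U)
  exact ⟨m, (hmem m).1 hm, e⟩

/-- The six two-element digits. -/
def six : List ℕ := [3, 5, 9, 6, 10, 12]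

/-- The digits of two elements containing the first point. -/
def three : List ℕ := [3, 5, 9]

/-- Which of the three chosen places carries the pattern. -/
def ptn (k x : ℕ) : ℕ :=
  bif Nat.beq k 0 then place k x 0 0 0 0 0 else place k 0 0 x 0 0 0

theorem pair_w : ∀ d < 5, ∀ e < 5, ∀ f < 5,
    (condW 2 0 0 d e f = true ∨ condW 0 d 0 2 e f = true ∨ condW 0 0 d 2 e f = true) →
      d = 2 ∧ e = 2 ∧ f = 2 := by decide +kernel

theorem odd_w : ∀ d < 5, ∀ e < 5, ∀ f < 5, condW 1 1 1 d e f = true →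
    (d = 1 ∨ d = 3) ∧ (e = 1 ∨ e = 3) ∧ (f = 1 ∨ f = 3) := by decide +kernel

theorem split_word (h : Gol S) {k : ℕ} (hk : k < 3) {a b c : ℕ} (ha : a < 16) (hb : b < 16)
    (hc : c < 16) (hp : pd a % 2 = pd b % 2 ∧ pd a % 2 = pd c % 2) :
    ∃ d e f, d < 16 ∧ e < 16 ∧ f < 16 ∧ S (place k a b c d e f) ∧
      ((k = 0 ∧ condW (pd a) (pd b) (pd c) (pd d) (pd e) (pd f) = true) ∨
       (k = 1 ∧ condW (pd a) (pd d) (pd b) (pd c) (pd e) (pd f) = true) ∨
       (k = 2 ∧ condW (pd a) (pd b) (pd d) (pd c) (pd e) (pd f) = true)) := by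
  obtain ⟨m, hm, e⟩ := exists_pattern h hk (r := place k a b c 0 0 0) (by
    simp only [pat, List.mem_flatMap, List.mem_map, List.mem_filter, List.mem_range, Bool.and_eq_true,
      Nat.beq_eq]
    exact ⟨a, ha, b, hb, c, ⟨hc, hp⟩, rfl⟩)
  have e1 := eq_mk6 (h.lt m hm)
  have e2 : ∀ q, dig (m &&& place k 15 15 15 0 0 0) q = dig m q &&& dig (place k 15 15 15 0 0 0) q :=
    fun q => dig_and _ _ _
  rw [e] at e2
  have hcond := h.cond_ok hm
  have dg : ∀ a b c d e f : ℕ, _ := fun a b c d e f => @dig_mk6 a b c d e f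
  obtain rfl | rfl | rfl : k = 0 ∨ k = 1 ∨ k = 2 := by omega
  all_goals simp only [place, Nat.beq, cond_true, cond_false] at e2 ⊢
  · obtain ⟨p0, p1, p2, -, -, -⟩ := dg a b c 0 0 0 ha hb hc (by omega) (by omega) (by omega)
    have q0 := e2 0; have q1 := e2 1; have q2 := e2 2
    rw [p0] at q0; rw [p1] at q1; rw [p2] at q2
    rw [show dig (mk6 15 15 15 0 0 0) 0 = 15 from rfl, and_fifteen _ (dig_lt _ _)] at q0
    rw [show dig (mk6 15 15 15 0 0 0) 1 = 15 from rfl, and_fifteen _ (dig_lt _ _)] at q1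
    rw [show dig (mk6 15 15 15 0 0 0) 2 = 15 from rfl, and_fifteen _ (dig_lt _ _)] at q2
    rw [← q0, ← q1, ← q2] at e1 hcond
    exact ⟨_, _, _, dig_lt m 3, dig_lt m 4, dig_lt m 5, e1 ▸ hm, Or.inl ⟨by trivial, hcond⟩⟩
  · obtain ⟨p0, -, p2, p3, -, -⟩ := dg a 0 b c 0 0 ha (by omega) hb hc (by omega) (by omega)
    have q0 := e2 0; have q2 := e2 2; have q3 := e2 3
    rw [p0] at q0; rw [p2] at q2; rw [p3] at q3
    rw [show dig (mk6 15 0 15 15 0 0) 0 = 15 from rfl, and_fifteen _ (dig_lt _ _)] at q0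
    rw [show dig (mk6 15 0 15 15 0 0) 2 = 15 from rfl, and_fifteen _ (dig_lt _ _)] at q2
    rw [show dig (mk6 15 0 15 15 0 0) 3 = 15 from rfl, and_fifteen _ (dig_lt _ _)] at q3
    rw [← q0, ← q2, ← q3] at e1 hcond
    exact ⟨_, _, _, dig_lt m 1, dig_lt m 4, dig_lt m 5, e1 ▸ hm, Or.inr (Or.inl ⟨by trivial, hcond⟩)⟩
  · obtain ⟨p0, p1, -, p3, -, -⟩ := dg a b 0 c 0 0 ha hb (by omega) hc (by omega) (by omega)
    have q0 := e2 0; have q1 := e2 1; have q3 := e2 3
    rw [p0] at q0; rw [p1] at q1; rw [p3] at q3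
    rw [show dig (mk6 15 15 0 15 0 0) 0 = 15 from rfl, and_fifteen _ (dig_lt _ _)] at q0
    rw [show dig (mk6 15 15 0 15 0 0) 1 = 15 from rfl, and_fifteen _ (dig_lt _ _)] at q1
    rw [show dig (mk6 15 15 0 15 0 0) 3 = 15 from rfl, and_fifteen _ (dig_lt _ _)] at q3
    rw [← q0, ← q1, ← q3] at e1 hcond
    exact ⟨_, _, _, dig_lt m 2, dig_lt m 4, dig_lt m 5, e1 ▸ hm, Or.inr (Or.inr ⟨by trivial, hcond⟩)⟩

theorem word_x (h : Gol S) {k x : ℕ} (hk : k < 3) (hx : x ∈ [3, 5, 6]) :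
    ∃ d e f, d ∈ six ∧ e ∈ six ∧ f ∈ six ∧ S (ptn k x ^^^ place k 0 0 0 d e f) := by
  have x16 : x < 16 ∧ pd x = 2 := (by decide : ∀ x ∈ [3, 5, 6], x < 16 ∧ pd x = 2) x hx
  obtain ⟨d, e, f, hd, he, hf, hS, hc⟩ := split_word h hk (a := bif Nat.beq k 0 then x else 0)
    (b := 0) (c := bif Nat.beq k 0 then 0 else x)
    (by cases Nat.beq k 0 <;> simp [x16.1]) (by omega) (by cases Nat.beq k 0 <;> simp [x16.1])
    (by cases Nat.beq k 0 <;> simp [x16.2, show pd 0 = 0 from rfl])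
  refine ⟨d, e, f, ?_, ?_, ?_, ?_⟩
  rotate_left 3
  · obtain rfl | rfl | rfl : k = 0 ∨ k = 1 ∨ k = 2 := by omega
    all_goals simpa [ptn, place, mk6_xor, Nat.beq] using hS
  all_goals
    obtain ⟨a, b, c⟩ := pair_w _ (Nat.lt_succ_of_le (pd_le d)) _ (Nat.lt_succ_of_le (pd_le e)) _
      (Nat.lt_succ_of_le (pd_le f)) (by
        rcases hc with ⟨rfl, hc⟩ | ⟨rfl, hc⟩ | ⟨rfl, hc⟩ <;>
          simp only [Nat.beq, cond_true, cond_false, x16.2, show pd 0 = 0 from rfl] at hc
        · exact Or.inl hc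
        · exact Or.inr (Or.inl hc)
        · exact Or.inr (Or.inr hc))
    first
      | exact (pd_facts d hd).2.2.1 a
      | exact (pd_facts e he).2.2.1 b
      | exact (pd_facts f hf).2.2.1 c

theorem six_xor (h : Gol S) {k d e f d' e' f' : ℕ} (hk : k < 3) (hd : d ∈ six) (he : e ∈ six)
    (hf : f ∈ six) (hd' : d' ∈ six) (he' : e' ∈ six) (hf' : f' ∈ six)
    (h1 : S (ptn k 3 ^^^ place k 0 0 0 d e f)) (h2 : S (ptn k 5 ^^^ place k 0 0 0 d' e' f')) :
    d ^^^ d' ∈ six ∧ e ^^^ e' ∈ six ∧ f ^^^ f' ∈ six := by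
  have hs : ∀ a ∈ six, ∀ b ∈ six, a ^^^ b < 16 := by decide
  have hx : ptn k 3 ^^^ place k 0 0 0 d e f ^^^ (ptn k 5 ^^^ place k 0 0 0 d' e' f') =
      ptn k 6 ^^^ place k 0 0 0 (d ^^^ d') (e ^^^ e') (f ^^^ f') := by
    obtain rfl | rfl | rfl : k = 0 ∨ k = 1 ∨ k = 2 := by omega
    all_goals simp only [ptn, place, Nat.beq, cond_true, cond_false, mk6_xor, Nat.zero_xor,
      Nat.xor_zero, show (3 : ℕ) ^^^ 5 = 6 from rfl]
  have hS := hx ▸ h.xor _ _ h1 h2
  have hc := h.cond_ok hS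
  have l1 := hs d hd d' hd'
  have l2 := hs e he e' he'
  have l3 := hs f hf f' hf'
  have key : pd (d ^^^ d') = 2 ∧ pd (e ^^^ e') = 2 ∧ pd (f ^^^ f') = 2 := by
    refine pair_w _ (Nat.lt_succ_of_le (pd_le _)) _ (Nat.lt_succ_of_le (pd_le _)) _
      (Nat.lt_succ_of_le (pd_le _)) ?_
    obtain rfl | rfl | rfl : k = 0 ∨ k = 1 ∨ k = 2 := by omega
    · obtain ⟨p0, p1, p2, p3, p4, p5⟩ :=
        dig_mk6 (show 6 < 16 by omega) (show 0 < 16 by omega) (show 0 < 16 by omega) l1 l2 l3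
      simp only [ptn, place, Nat.beq, cond_true, cond_false, mk6_xor, Nat.zero_xor, Nat.xor_zero,
        p0, p1, p2, p3, p4, p5, show pd 6 = 2 from rfl, show pd 0 = 0 from rfl] at hc
      exact Or.inl hc
    · obtain ⟨p0, p1, p2, p3, p4, p5⟩ :=
        dig_mk6 (show 0 < 16 by omega) l1 (show 0 < 16 by omega) (show 6 < 16 by omega) l2 l3
      simp only [ptn, place, Nat.beq, cond_true, cond_false, mk6_xor, Nat.zero_xor, Nat.xor_zero,
        p0, p1, p2, p3, p4, p5, show pd 6 = 2 from rfl, show pd 0 = 0 from rfl] at hc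
      exact Or.inr (Or.inl hc)
    · obtain ⟨p0, p1, p2, p3, p4, p5⟩ :=
        dig_mk6 (show 0 < 16 by omega) (show 0 < 16 by omega) l1 (show 6 < 16 by omega) l2 l3
      simp only [ptn, place, Nat.beq, cond_true, cond_false, mk6_xor, Nat.zero_xor, Nat.xor_zero,
        p0, p1, p2, p3, p4, p5, show pd 6 = 2 from rfl, show pd 0 = 0 from rfl] at hc
      exact Or.inr (Or.inr hc)
  exact ⟨(pd_facts _ l1).2.2.1 key.1, (pd_facts _ l2).2.2.1 key.2.1, (pd_facts _ l3).2.2.1 key.2.2⟩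

/-! ### Relabelling -/

/-- The image of `S` under a table. -/
def relab (S : ℕ → Prop) (g : List ℕ) : ℕ → Prop := fun m => ∃ m0, S m0 ∧ actTab g m0 = m

theorem act_eq {g : List ℕ} (hv : validTab g = true) {a : ℕ} (ha : a < 2 ^ 24) :
    actTab g a = mask (permOf g • toSet a) := by
  rw [mask_smul hv, mask_toSet ha]

theorem act_xor {g : List ℕ} (hv : validTab g = true) {a b : ℕ} (ha : a < 2 ^ 24) (hb : b < 2 ^ 24) :
    actTab g (a ^^^ b) = actTab g a ^^^ actTab g b := by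
  rw [act_eq hv ha, act_eq hv hb, ← mask_symmDiff, ← Finset.smul_finset_symmDiff, mask_smul hv,
    mask_symmDiff, mask_toSet ha, mask_toSet hb]

theorem act_and {g : List ℕ} (hv : validTab g = true) {a b : ℕ} (ha : a < 2 ^ 24) (hb : b < 2 ^ 24) :
    actTab g (a &&& b) = actTab g a &&& actTab g b := by
  rw [act_eq hv ha, act_eq hv hb, ← mask_inter, ← Finset.smul_finset_inter, mask_smul hv,
    mask_inter, mask_toSet ha, mask_toSet hb]

theorem act_popc {g : List ℕ} (hv : validTab g = true) {a : ℕ} (ha : a < 2 ^ 24) :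
    popc (actTab g a) = popc a := by
  rw [act_eq hv ha, popc_mask, Finset.card_smul_finset, card_toSet ha]

theorem act_lt {g : List ℕ} (hv : validTab g = true) {a : ℕ} (ha : a < 2 ^ 24) :
    actTab g a < 2 ^ 24 := by rw [act_eq hv ha]; exact mask_lt _

theorem act_inj {g : List ℕ} (hv : validTab g = true) {a b : ℕ} (ha : a < 2 ^ 24) (hb : b < 2 ^ 24)
    (e : actTab g a = actTab g b) : a = b := by
  rw [act_eq hv ha, act_eq hv hb, mask_injective.eq_iff, smul_left_cancel_iff] at e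
  rw [← mask_toSet ha, ← mask_toSet hb, e]

theorem Gol.relab (h : Gol S) {g : List ℕ} (hv : validTab g = true)
    (hfix : ∀ t ∈ pairs, actTab g t = t) : Gol (relab S g) where
  lt := by rintro _ ⟨m, hm, rfl⟩; exact act_lt hv (h.lt m hm)
  xor := by
    rintro _ _ ⟨a, ha, rfl⟩ ⟨b, hb, rfl⟩
    exact ⟨a ^^^ b, h.xor a b ha hb, act_xor hv (h.lt a ha) (h.lt b hb)⟩
  wt := by
    rintro _ ⟨m, hm, rfl⟩
    rcases h.wt m hm with rfl | e
    · left
      rw [act_eq hv (by omega), show toSet 0 = ∅ by simp [toSet], Finset.smul_finset_empty, mask_empty]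
    · right; rwa [act_popc hv (h.lt m hm)]
  dvd := by rintro _ ⟨m, hm, rfl⟩; rw [act_popc hv (h.lt m hm)]; exact h.dvd m hm
  orth := by
    rintro _ _ ⟨a, ha, rfl⟩ ⟨b, hb, rfl⟩
    rw [← act_and hv (h.lt a ha) (h.lt b hb),
      act_popc hv (lt_of_le_of_lt Nat.and_le_left (h.lt a ha))]
    exact h.orth a b ha hb
  card := by
    rw [← h.card, show {m | Hex.relab S g m} = (actTab g ·) '' {m | S m} from rfl]
    exact Set.InjOn.ncard_image fun a ha b hb e => act_inj hv (h.lt a ha) (h.lt b hb) e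
  tt := fun t ht => ⟨t, h.tt t ht, hfix t ht⟩

/-- The conclusion: some permutation carries the code onto `S`. -/
def Good (S : ℕ → Prop) : Prop :=
  ∃ π : Equiv.Perm GolayPt, ∀ s : Finset GolayPt, inCode (mask s) = true ↔ S (mask (π • s))

theorem good_of_relab (h : Gol S) {g : List ℕ} (hv : validTab g = true) (hg : Good (relab S g)) :
    Good S := by
  obtain ⟨π, hπ⟩ := hg
  refine ⟨(permOf g)⁻¹ * π, fun s => ?_⟩
  rw [hπ s]
  constructor
  · rintro ⟨m, hm, e⟩
    rw [mul_smul]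
    rw [act_eq hv (h.lt m hm), mask_injective.eq_iff] at e
    rwa [← e, inv_smul_smul, mask_toSet (h.lt m hm)]
  · intro hm
    refine ⟨_, hm, ?_⟩
    rw [← mask_smul hv, mul_smul, smul_inv_smul]

/-- The table permuting the four points of one tetrad. -/
def tetTab (j : ℕ) (σ : List ℕ) : List ℕ :=
  (List.range 24).map fun x => bif Nat.beq (x / 4) j then 4 * j + σ.getD (x % 4) 0 else x

/-- The image of a digit. -/
def img (σ : List ℕ) (d : ℕ) : ℕ :=
  (List.range 4).foldl (fun acc l => bif d.testBit l then acc ^^^ 2 ^ σ.getD l 0 else acc) 0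

/-- Permutations of four symbols. -/
def perms4 : List (List ℕ) :=
  ((List.range 4).flatMap fun a => (List.range 4).flatMap fun b => (List.range 4).flatMap fun c =>
    (List.range 4).map fun d => [a, b, c, d]).filter fun l =>
      (List.range 4).all fun j => l.contains j

theorem tet_ok : (List.range 6).all (fun j => perms4.all fun σ =>
    validTab (tetTab j σ) &&
    ((List.range 6).all fun i => [1, 2, 4, 8].all fun d =>
      Nat.beq (actTab (tetTab j σ) (d <<< (4 * i))) ((bif Nat.beq i j then img σ d else d) <<< (4 * i))))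
    = true := by decide +kernel

theorem img_ok : perms4.all (fun σ => (List.range 16).all fun d =>
    Nat.beq (img σ d) (((bif d.testBit 0 then img σ 1 else 0) ^^^ (bif d.testBit 1 then img σ 2 else 0)) ^^^
      (bif d.testBit 2 then img σ 4 else 0) ^^^ (bif d.testBit 3 then img σ 8 else 0)) &&
    Nat.beq (img σ 15) 15 && Nat.beq (img σ 0) 0) = true := by decide +kernel

theorem act_zero {g : List ℕ} (hv : validTab g = true) : actTab g 0 = 0 := by
  rw [act_eq hv (by omega), show toSet 0 = ∅ by simp [toSet], Finset.smul_finset_empty, mask_empty]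

/-- The action of a tetrad table on a digit. -/
theorem act_digit {j : ℕ} {σ : List ℕ} (hj : j < 6) (hσ : σ ∈ perms4) {i d : ℕ} (hi : i < 6)
    (hd : d < 16) : actTab (tetTab j σ) (d <<< (4 * i)) =
      (bif Nat.beq i j then img σ d else d) <<< (4 * i) := by
  have ht := tet_ok
  simp only [List.all_eq_true, List.mem_range, Bool.and_eq_true, Nat.beq_eq] at ht
  obtain ⟨hv, hbit⟩ := ht j hj σ hσ
  have him := img_ok
  simp only [List.all_eq_true, List.mem_range, Bool.and_eq_true, Nat.beq_eq] at him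
  have e : ∀ d < 16, d = (bif d.testBit 0 then 1 else 0) ^^^ (bif d.testBit 1 then 2 else 0) ^^^
      (bif d.testBit 2 then 4 else 0) ^^^ (bif d.testBit 3 then 8 else 0) := by decide
  have one : ∀ (b : Bool) (v : ℕ), v ∈ [1, 2, 4, 8] →
      actTab (tetTab j σ) ((bif b then v else 0) <<< (4 * i)) =
        (bif Nat.beq i j then (bif b then img σ v else 0) else (bif b then v else 0)) <<< (4 * i) := by
    intro b v hv'
    cases b
    · simp [act_zero hv]
    · simpa using hbit i hi v hv'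
  have lt : ∀ x < 16, x <<< (4 * i) < 2 ^ 24 := fun x hx =>
    (by decide : ∀ x < 16, ∀ i < 6, x <<< (4 * i) < 2 ^ 24) x hx i hi
  have lb : ∀ (b : Bool) (v : ℕ), v < 16 → (bif b then v else 0) < 16 := fun b v h => by cases b <;> simp [h]
  conv_lhs => rw [e d hd, Nat.shiftLeft_xor_distrib, Nat.shiftLeft_xor_distrib, Nat.shiftLeft_xor_distrib]
  rw [act_xor hv (Nat.xor_lt_two_pow (Nat.xor_lt_two_pow (lt _ (lb _ 1 (by omega))) (lt _ (lb _ 2 (by omega))))
      (lt _ (lb _ 4 (by omega)))) (lt _ (lb _ 8 (by omega))),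
    act_xor hv (Nat.xor_lt_two_pow (lt _ (lb _ 1 (by omega))) (lt _ (lb _ 2 (by omega))))
      (lt _ (lb _ 4 (by omega))),
    act_xor hv (lt _ (lb _ 1 (by omega))) (lt _ (lb _ 2 (by omega))),
    one _ 1 (by simp), one _ 2 (by simp), one _ 4 (by simp), one _ 8 (by simp),
    ← Nat.shiftLeft_xor_distrib, ← Nat.shiftLeft_xor_distrib, ← Nat.shiftLeft_xor_distrib]
  cases Nat.beq i j
  · simp only [cond_false, ← e d hd]
  · simp only [cond_true, ((him σ hσ) d hd).1.1]

theorem exists_perm : six.all (fun p => six.all fun q => !(six.contains (p ^^^ q)) ||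
    perms4.any fun σ => Nat.beq (img σ p) 3 && Nat.beq (img σ q) 5) = true := by decide +kernel

theorem relabel_tet (h : Gol S) {j p q : ℕ} (hj : j < 6) (hp : p ∈ six) (hq : q ∈ six)
    (hpq : p ^^^ q ∈ six) : ∃ σ : ℕ → ℕ, σ p = 3 ∧ σ q = 5 ∧ σ 0 = 0 ∧ ∃ S' : ℕ → Prop, Gol S' ∧
      (Good S' → Good S) ∧ ∀ a b c d e f, a < 16 → b < 16 → c < 16 → d < 16 → e < 16 → f < 16 →
        S (mk6 a b c d e f) → S' (mk6 (bif Nat.beq 0 j then σ a else a) (bif Nat.beq 1 j then σ b else b)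
          (bif Nat.beq 2 j then σ c else c) (bif Nat.beq 3 j then σ d else d)
          (bif Nat.beq 4 j then σ e else e) (bif Nat.beq 5 j then σ f else f)) := by
  have he := exists_perm
  simp only [List.all_eq_true, Bool.or_eq_true, Bool.and_eq_true, Bool.not_eq_true', ← Bool.not_eq_true,
    List.contains_iff_mem, List.any_eq_true, Nat.beq_eq] at he
  obtain ⟨σ, hσ, h3, h5⟩ := (he p hp q hq).resolve_left (not_not.2 hpq)
  have ht := tet_ok
  simp only [List.all_eq_true, List.mem_range, Bool.and_eq_true, Nat.beq_eq] at ht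
  obtain ⟨hv, -⟩ := ht j hj σ hσ
  have hdig : ∀ i < 6, ∀ d < 16, actTab (tetTab j σ) (d <<< (4 * i)) =
      (bif Nat.beq i j then img σ d else d) <<< (4 * i) := fun i hi d hd => act_digit hj hσ hi hd
  have hfix : ∀ t ∈ pairs, actTab (tetTab j σ) t = t := by
    intro t ht'
    obtain ⟨a, ha, b, hb, rfl⟩ := (by decide : ∀ t ∈ pairs, ∃ a < 6, ∃ b < 6,
      t = (15 <<< (4 * a)) ^^^ (15 <<< (4 * b))) t ht'
    have l : ∀ i < 6, 15 <<< (4 * i) < 2 ^ 24 := by decide
    have him := img_ok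
    simp only [List.all_eq_true, List.mem_range, Bool.and_eq_true, Nat.beq_eq] at him
    rw [act_xor hv (l a ha) (l b hb), hdig a ha 15 (by omega), hdig b hb 15 (by omega),
      ((him σ hσ) 0 (by omega)).1.2]
    simp
  refine ⟨img σ, h3, h5, (by decide : ∀ σ ∈ perms4, img σ 0 = 0) σ hσ, relab S (tetTab j σ),
    h.relab hv hfix, good_of_relab h hv, fun a b c d e f ha hb hc hd he hf hS => ⟨_, hS, ?_⟩⟩
  have lt : ∀ x < 16, ∀ i < 6, x <<< (4 * i) < 2 ^ 24 := by decide
  have la := lt a ha 0 (by omega)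
  have lb := lt b hb 1 (by omega)
  have lc := lt c hc 2 (by omega)
  have ld := lt d hd 3 (by omega)
  have le' := lt e he 4 (by omega)
  have lf := lt f hf 5 (by omega)
  have da := hdig 0 (by omega) a ha
  have db := hdig 1 (by omega) b hb
  have dc := hdig 2 (by omega) c hc
  have dd := hdig 3 (by omega) d hd
  have de := hdig 4 (by omega) e he
  have df := hdig 5 (by omega) f hf
  simp only [Nat.reduceMul, Nat.shiftLeft_zero] at la lb lc ld le' lf da db dc dd de df
  have x1 := Nat.xor_lt_two_pow la lb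
  have x2 := Nat.xor_lt_two_pow x1 lc
  have x3 := Nat.xor_lt_two_pow x2 ld
  have x4 := Nat.xor_lt_two_pow x3 le'
  simp only [mk6, act_xor hv x4 lf, act_xor hv x3 le', act_xor hv x2 ld, act_xor hv x1 lc,
    act_xor hv la lb, da, db, dc, dd, de, df]

/-! ### The finite check -/

/-- The common start of a normal form. -/
def baseWords : List ℕ :=
  [mk6 15 15 0 0 0 0, mk6 0 15 15 0 0 0, mk6 0 0 15 15 0 0, mk6 0 0 0 15 15 0, mk6 0 0 0 0 15 15,
    mk6 3 0 0 3 3 3, mk6 5 0 0 5 5 5]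

/-- Orthogonality to a list. -/
def orthTo (m : ℕ) (l : List ℕ) : Bool := l.all fun b => Nat.beq (popc (m &&& b) % 2) 0

/-- Normal-form candidates for the second or third tetrad. -/
def rCands (i : ℕ) : List (List ℕ) :=
  (three.flatMap fun a => six.flatMap fun c => three.flatMap fun a' => six.map fun c' =>
    [bif Nat.beq i 1 then mk6 0 3 0 3 a c else mk6 0 0 3 3 a c,
     bif Nat.beq i 1 then mk6 0 5 0 5 a' c' else mk6 0 0 5 5 a' c']).filter fun l =>
    l.all (fun m => orthTo m baseWords) && orthTo (l.getD 0 0) [l.getD 1 0]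

/-- Normal-form candidates for the odd word. -/
def oddCands : List ℕ :=
  [1, 2, 4, 8].flatMap fun a => [1, 2, 4, 8].flatMap fun b => [1, 2, 4, 8, 14, 13, 11, 7].map fun c =>
    mk6 1 1 1 a b c

/-- A combination. -/
def comb : List ℕ → ℕ → ℕ
  | [], _ => 0
  | b :: r, k => (bif k % 2 == 1 then b else 0) ^^^ comb r (k / 2)

/-- Some listed table sends every basis word into the span. -/
def certOk (l : List ℕ) : Bool :=
  cert.any fun x => validTab x.1 && Nat.beq x.2.length basis.length &&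
    (List.range basis.length).all fun i =>
      Nat.beq (actTab x.1 (basis.getD i (0, 0)).2) (comb l (x.2.getD i 0))

theorem final_ok : (rCands 1).all (fun u => (rCands 2).all fun v =>
    !(v.all fun m => orthTo m u) || oddCands.all fun o =>
      !(Nat.beq (popc o % 4) 0 && orthTo o (baseWords ++ u ++ v)) ||
        certOk (baseWords ++ u ++ v ++ [o])) = true := by decide +kernel

theorem odd_norm : ∀ d ∈ [1, 2, 4, 8, 14, 13, 11, 7], ∀ e ∈ [1, 2, 4, 8, 14, 13, 11, 7],
    ∃ z ∈ [(0, 0, 0), (15, 15, 0), (15, 0, 15), (0, 15, 15)],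
      (d ^^^ z.1 ∈ [1, 2, 4, 8] ∧ e ^^^ z.2.1 ∈ [1, 2, 4, 8] ∧
        ∀ f ∈ [1, 2, 4, 8, 14, 13, 11, 7], f ^^^ z.2.2 ∈ [1, 2, 4, 8, 14, 13, 11, 7]) := by decide +kernel

theorem good_of_cert (h : Gol S) {l : List ℕ} (hl : ∀ m ∈ l, S m) (hc : certOk l = true) : Good S := by
  have h0 : S 0 := by
    obtain ⟨t, ht⟩ : ∃ t, t ∈ pairs := ⟨_, List.head_mem (l := pairs) (by decide)⟩
    simpa using h.xor _ _ (h.tt t ht) (h.tt t ht)
  have hcomb : ∀ (l : List ℕ), (∀ m ∈ l, S m) → ∀ k, S (comb l k) := by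
    intro l
    induction l with
    | nil => exact fun _ _ => h0
    | cons b r ih =>
      intro hl k
      simp only [comb]
      cases k % 2 == 1
      · simpa using ih (fun m hm => hl m (List.mem_cons_of_mem _ hm)) (k / 2)
      · exact h.xor _ _ (hl b List.mem_cons_self) (ih (fun m hm => hl m (List.mem_cons_of_mem _ hm)) _)
  simp only [certOk, List.any_eq_true, Bool.and_eq_true, List.all_eq_true, List.mem_range,
    Nat.beq_eq] at hc
  obtain ⟨⟨g, cb⟩, -, ⟨hv, -⟩, hg⟩ := hc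
  simp only at hv hg
  have hbase : ∀ a ∈ basis, S (actTab g a.2) := by
    intro a ha
    obtain ⟨i, hi, rfl⟩ := List.getElem_of_mem ha
    rw [← List.getD_eq_getElem basis (0, 0) hi, hg i hi]
    exact hcomb l hl _
  have hall : ∀ (r : List (ℕ × ℕ)), (∀ a ∈ r, a.2 < 2 ^ 24 ∧ S (actTab g a.2)) →
      ∀ m ∈ allSums r, m < 2 ^ 24 ∧ S (actTab g m) := by
    intro r
    induction r with
    | nil =>
      intro _ m hm
      simp only [allSums, List.mem_singleton] at hm
      subst hm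
      refine ⟨by norm_num, ?_⟩
      rw [act_eq hv (by omega), show toSet 0 = ∅ by simp [toSet], Finset.smul_finset_empty, mask_empty]
      exact h0
    | cons a r ih =>
      intro hr m hm
      obtain ⟨p, b⟩ := a
      have ih' := ih fun a ha => hr a (List.mem_cons_of_mem _ ha)
      simp only [allSums, List.mem_append, List.mem_map] at hm
      rcases hm with hm | ⟨x, hx, rfl⟩
      · exact ih' m hm
      · obtain ⟨hb, hb'⟩ := hr (p, b) List.mem_cons_self
        obtain ⟨hx1, hx2⟩ := ih' x hx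
        refine ⟨Nat.xor_lt_two_pow hb hx1, ?_⟩
        rw [act_xor hv hb hx1]
        exact h.xor _ _ hb' hx2
  have hblt : basis.all (fun a => Nat.blt a.2 16777216) = true := by decide +kernel
  simp only [List.all_eq_true, Nat.blt_eq] at hblt
  have hcode := hall basis fun a ha => ⟨hblt a ha, hbase a ha⟩
  have himg : (actTab g ·) '' {m | m ∈ codeList} = {m | S m} := by
    refine Set.eq_of_subset_of_ncard_le ?_ ?_ h.finite
    · rintro _ ⟨m, hm, rfl⟩; exact (hcode m hm).2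
    · rw [h.card, Set.InjOn.ncard_image (s := {m | m ∈ codeList})
          (fun a ha b hb e => act_inj hv (hcode a ha).1 (hcode b hb).1 e),
        ← List.coe_toFinset, Set.ncard_coe_finset, List.toFinset_card_of_nodup codeList_nodup]
      exact le_of_eq (by decide +kernel)
  refine ⟨permOf g, fun s => ?_⟩
  rw [mask_smul hv]
  constructor
  · intro hs
    exact (hcode _ (mem_codeList.2 ⟨hs, mask_lt _⟩)).2
  · intro hs
    obtain ⟨m, hm, e⟩ := (himg.symm ▸ hs : actTab g (mask s) ∈ (actTab g ·) '' {m | m ∈ codeList})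
    rw [← act_inj hv (hcode m hm).1 (mask_lt s) e]
    exact (mem_codeList.1 hm).1

theorem normal_form (h : Gol S) : Good S := by
  have six16 : ∀ a ∈ six, a < 16 := by decide
  obtain ⟨d, e, f, hd, he, hf, w⟩ := word_x h (k := 0) (x := 3) (by omega) (by simp)
  obtain ⟨d', e', f', hd', he', hf', w'⟩ := word_x h (k := 0) (x := 5) (by omega) (by simp)
  obtain ⟨xd, xe, xf⟩ := six_xor h (by omega) hd he hf hd' he' hf' w w'
  simp only [ptn, place, Nat.beq, cond_true, mk6_xor, Nat.xor_zero, Nat.zero_xor] at w w'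
  obtain ⟨σ3, s3, t3, -, S3, h3, g3, m3⟩ := relabel_tet h (j := 3) (by omega) hd hd' xd
  refine g3 ?_
  have a := m3 3 0 0 d e f (by omega) (by omega) (by omega) (six16 d hd) (six16 e he) (six16 f hf) w
  have a' := m3 5 0 0 d' e' f' (by omega) (by omega) (by omega) (six16 d' hd') (six16 e' he')
    (six16 f' hf') w'
  simp only [Nat.beq, cond_true, cond_false, s3, t3] at a a'
  obtain ⟨σ4, s4, t4, -, S4, h4, g4, m4⟩ := relabel_tet h3 (j := 4) (by omega) he he' xe
  refine g4 ?_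
  have b := m4 3 0 0 3 e f (by omega) (by omega) (by omega) (by omega) (six16 e he) (six16 f hf) a
  have b' := m4 5 0 0 5 e' f' (by omega) (by omega) (by omega) (by omega) (six16 e' he')
    (six16 f' hf') a'
  simp only [Nat.beq, cond_true, cond_false, s4, t4] at b b'
  obtain ⟨σ5, s5, t5, -, S5, h5, g5, m5⟩ := relabel_tet h4 (j := 5) (by omega) hf hf' xf
  refine g5 ?_
  have u := m5 3 0 0 3 3 f (by omega) (by omega) (by omega) (by omega) (by omega) (six16 f hf) b
  have u' := m5 5 0 0 5 5 f' (by omega) (by omega) (by omega) (by omega) (by omega) (six16 f' hf') b'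
  simp only [Nat.beq, cond_true, cond_false, s5, t5] at u u'
  clear m3 m4 m5 g3 g4 g5 a a' b b' w w' h h3 h4
  obtain ⟨p, q, r, hp, hq, hr, v⟩ := word_x h5 (k := 1) (x := 3) (by omega) (by simp)
  obtain ⟨p', q', r', hp', hq', hr', v'⟩ := word_x h5 (k := 1) (x := 5) (by omega) (by simp)
  obtain ⟨xp, -, -⟩ := six_xor h5 (by omega) hp hq hr hp' hq' hr' v v'
  simp only [ptn, place, Nat.beq, cond_true, cond_false, mk6_xor, Nat.xor_zero, Nat.zero_xor] at v v'
  obtain ⟨σ1, s1, t1, z1, S1, h1, g1, m1⟩ := relabel_tet h5 (j := 1) (by omega) hp hp' xp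
  refine g1 ?_
  have a := m1 0 p 0 3 q r (by omega) (six16 p hp) (by omega) (by omega) (six16 q hq) (six16 r hr) v
  have a' := m1 0 p' 0 5 q' r' (by omega) (six16 p' hp') (by omega) (by omega) (six16 q' hq')
    (six16 r' hr') v'
  have U := m1 3 0 0 3 3 3 (by omega) (by omega) (by omega) (by omega) (by omega) (by omega) u
  have U' := m1 5 0 0 5 5 5 (by omega) (by omega) (by omega) (by omega) (by omega) (by omega) u'
  simp only [Nat.beq, cond_true, cond_false, s1, t1, z1] at a a' U U'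
  clear m1 g1 u u' v v' h5
  obtain ⟨p2, q2, r2, hp2, hq2, hr2, v⟩ := word_x h1 (k := 2) (x := 3) (by omega) (by simp)
  obtain ⟨p2', q2', r2', hp2', hq2', hr2', v'⟩ := word_x h1 (k := 2) (x := 5) (by omega) (by simp)
  obtain ⟨xp2, -, -⟩ := six_xor h1 (by omega) hp2 hq2 hr2 hp2' hq2' hr2' v v'
  simp only [ptn, place, Nat.beq, cond_true, cond_false, mk6_xor, Nat.xor_zero, Nat.zero_xor] at v v'
  obtain ⟨σ2, s2, t2, z2, S2, h2, g2, m2⟩ := relabel_tet h1 (j := 2) (by omega) hp2 hp2' xp2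
  refine g2 ?_
  have b := m2 0 0 p2 3 q2 r2 (by omega) (by omega) (six16 p2 hp2) (by omega) (six16 q2 hq2)
    (six16 r2 hr2) v
  have b' := m2 0 0 p2' 5 q2' r2' (by omega) (by omega) (six16 p2' hp2') (by omega) (six16 q2' hq2')
    (six16 r2' hr2') v'
  have A := m2 0 3 0 3 q r (by omega) (by omega) (by omega) (by omega) (six16 q hq) (six16 r hr) a
  have A' := m2 0 5 0 5 q' r' (by omega) (by omega) (by omega) (by omega) (six16 q' hq')
    (six16 r' hr') a'
  have W := m2 3 0 0 3 3 3 (by omega) (by omega) (by omega) (by omega) (by omega) (by omega) U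
  have W' := m2 5 0 0 5 5 5 (by omega) (by omega) (by omega) (by omega) (by omega) (by omega) U'
  simp only [Nat.beq, cond_true, cond_false, s2, t2, z2] at b b' A A' W W'
  clear m2 g2 a a' U U' v v' h1
  have hbase : ∀ m ∈ baseWords, S2 m := by
    have htt : ∀ t ∈ baseWords.take 5, t ∈ pairs := by decide
    intro m hm
    simp only [baseWords, List.mem_cons, List.not_mem_nil, or_false] at hm
    rcases hm with rfl | rfl | rfl | rfl | rfl | rfl | rfl
    all_goals first
      | exact W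
      | exact W'
      | exact h2.tt _ (htt _ (by simp [baseWords]))
  have norm : ∀ (a b c d e f : ℕ), e ∈ six → f ∈ six → S2 (mk6 a b c d e f) →
      ∃ e' ∈ three, ∃ f' ∈ six, S2 (mk6 a b c d e' f') := by
    intro a b c d e f he hf hS
    by_cases h3 : e ∈ three
    · exact ⟨e, h3, f, hf, hS⟩
    · have hx := h2.xor _ _ hS (h2.tt (mk6 0 0 0 0 15 15) (by decide))
      rw [mk6_xor, Nat.xor_zero, Nat.xor_zero, Nat.xor_zero, Nat.xor_zero] at hx
      exact ⟨_, (by decide : ∀ e ∈ six, e ∉ three → e ^^^ 15 ∈ three) e he h3, _,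
        (by decide : ∀ e ∈ six, e ^^^ 15 ∈ six) f hf, hx⟩
  obtain ⟨e1, he1, f1, hf1, w1⟩ := norm _ _ _ _ _ _ hq hr A
  obtain ⟨e1', he1', f1', hf1', w1'⟩ := norm _ _ _ _ _ _ hq' hr' A'
  obtain ⟨e2, he2, f2, hf2, w2⟩ := norm _ _ _ _ _ _ hq2 hr2 b
  obtain ⟨e2', he2', f2', hf2', w2'⟩ := norm _ _ _ _ _ _ hq2' hr2' b'
  have horth : ∀ m, S2 m → ∀ l : List ℕ, (∀ x ∈ l, S2 x) → orthTo m l = true := fun m hm l hl => by
    simp only [orthTo, List.all_eq_true, Nat.beq_eq]
    exact fun x hx => h2.orth _ _ hm (hl x hx)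
  have hu : [mk6 0 3 0 3 e1 f1, mk6 0 5 0 5 e1' f1'] ∈ rCands 1 := by
    simp only [rCands, List.mem_filter, List.mem_flatMap, List.mem_map, Bool.and_eq_true,
      List.all_eq_true, Nat.beq, cond_true]
    refine ⟨⟨e1, he1, f1, hf1, e1', he1', f1', hf1', rfl⟩, ?_, ?_⟩
    · intro m hm
      simp only [List.mem_cons, List.not_mem_nil, or_false] at hm
      rcases hm with rfl | rfl
      · exact horth _ w1 _ hbase
      · exact horth _ w1' _ hbase
    · exact horth _ w1 _ (by simpa using w1')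
  have hv : [mk6 0 0 3 3 e2 f2, mk6 0 0 5 5 e2' f2'] ∈ rCands 2 := by
    simp only [rCands, List.mem_filter, List.mem_flatMap, List.mem_map, Bool.and_eq_true,
      List.all_eq_true, Nat.beq, cond_false]
    refine ⟨⟨e2, he2, f2, hf2, e2', he2', f2', hf2', rfl⟩, ?_, ?_⟩
    · intro m hm
      simp only [List.mem_cons, List.not_mem_nil, or_false] at hm
      rcases hm with rfl | rfl
      · exact horth _ w2 _ hbase
      · exact horth _ w2' _ hbase
    · exact horth _ w2 _ (by simpa using w2')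
  obtain ⟨d, e, f, hd, he, hf, hw, hcw⟩ := split_word h2 (k := 0) (a := 1) (b := 1) (c := 1) (by omega)
    (by omega) (by omega) (by omega) ⟨rfl, rfl⟩
  simp only [place, Nat.beq, cond_true] at hw
  obtain ⟨wd, we, wf⟩ : (pd d = 1 ∨ pd d = 3) ∧ (pd e = 1 ∨ pd e = 3) ∧ (pd f = 1 ∨ pd f = 3) := by
    rcases hcw with ⟨-, hc⟩ | ⟨h0, -⟩ | ⟨h0, -⟩
    · exact odd_w _ (Nat.lt_succ_of_le (pd_le _)) _ (Nat.lt_succ_of_le (pd_le _)) _
        (Nat.lt_succ_of_le (pd_le _)) hc
    all_goals omega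
  have odd : ∀ x < 16, (pd x = 1 ∨ pd x = 3) → x ∈ [1, 2, 4, 8, 14, 13, 11, 7] := by decide
  obtain ⟨z, hz, z1, z2, z3⟩ := odd_norm d (odd d hd wd) e (odd e he we)
  have hoz : mk6 1 1 1 d e f ^^^ mk6 0 0 0 z.1 z.2.1 z.2.2 ∈ oddCands := by
    simp only [mk6_xor, Nat.xor_zero, oddCands, List.mem_flatMap, List.mem_map]
    exact ⟨_, z1, _, z2, _, z3 f (odd f hf wf), rfl⟩
  have hzS : S2 (mk6 0 0 0 z.1 z.2.1 z.2.2) := by
    simp only [List.mem_cons, List.not_mem_nil, or_false] at hz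
    rcases hz with rfl | rfl | rfl | rfl
    · simpa [mk6] using h2.xor _ _ hw hw
    all_goals exact h2.tt _ (by decide)
  have hoS := h2.xor _ _ hw hzS
  have huS : ∀ m ∈ [mk6 0 3 0 3 e1 f1, mk6 0 5 0 5 e1' f1'], S2 m := by simp [w1, w1']
  have hvS : ∀ m ∈ [mk6 0 0 3 3 e2 f2, mk6 0 0 5 5 e2' f2'], S2 m := by simp [w2, w2']
  have hS3 : ∀ m ∈ baseWords ++ [mk6 0 3 0 3 e1 f1, mk6 0 5 0 5 e1' f1'] ++
      [mk6 0 0 3 3 e2 f2, mk6 0 0 5 5 e2' f2'], S2 m := fun m hm => by
    simp only [List.mem_append] at hm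
    rcases hm with (hm | hm) | hm
    exacts [hbase m hm, huS m hm, hvS m hm]
  have hfin := final_ok
  simp only [List.all_eq_true, Bool.or_eq_true, Bool.and_eq_true, Bool.not_eq_true',
    ← Bool.not_eq_true, Nat.beq_eq] at hfin
  refine good_of_cert h2 ?_ (((hfin _ hu _ hv).resolve_left (not_not.2 fun m hm =>
    horth m (hvS m hm) _ huS) _ hoz).resolve_left (not_not.2 ⟨h2.dvd _ hoS, horth _ hoS _ hS3⟩))
  intro m hm
  rcases List.mem_append.1 hm with hm | hm
  · exact hS3 m hm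
  · rw [List.mem_singleton.1 hm]; exact hoS

end CfsgLib.Golay.Hex
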