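/-
The two classes of involutions of the group of the code.
-/
import Cfsg.Agent.Golay.InvolData
import Cfsg.Agent.Golay.OctStab

set_option autoImplicit false

namespace CfsgLib.Golay.Invol

open Cfsg
open scoped Pointwise

theorem permOf_idTab : permOf idTab = 1 := by
  refine Equiv.ext fun p => idx_injective (Fin.ext ?_)
  rw [idx_permOf validTab_idTab, idTab, List.getD_eq_getElem _ _ (by simp), List.getElem_range]
  rfl

/-- One step down the chain with an explicit table. -/
theorem step {L : List (List ℕ)} {k : ℕ} (hk : k < 7)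
    (h : ((target k).all fun j => L.any fun g => validTab g && presTab g &&
      ((baseIdx.take k).all fun b => Nat.beq (g.getD b 0) b) &&
      Nat.beq (g.getD (baseIdx.getD k 0) 0) j) = true) {g : Equiv.Perm GolayPt} (hg : g ∈ chain k) :
    ∃ t ∈ L, validTab t = true ∧ (permOf t)⁻¹ * g ∈ chain (k + 1) := by
  obtain ⟨t, ht, e⟩ := List.any_eq_true.1 (List.all_eq_true.1 h _ (image_mem_target hk hg))
  simp only [Bool.and_eq_true, List.all_eq_true, Nat.beq_eq] at e
  obtain ⟨⟨⟨hv, hp⟩, hfix⟩, him⟩ := e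
  refine ⟨t, ht, hv, mem_chain.2 ⟨mul_mem (inv_mem (permOf_mem_M24 hv hp)) (mem_chain.1 hg).1,
    fun p hp' => ?_⟩⟩
  rw [Equiv.Perm.mul_apply, Equiv.Perm.inv_eq_iff_eq]
  have hlen : k < baseIdx.length := by simp [baseIdx]; omega
  rw [List.take_succ_eq_append_getElem (by simpa [basePts] using hlen), List.mem_append,
    List.mem_singleton] at hp'
  refine idx_injective (Fin.ext ?_)
  rw [idx_permOf hv]
  rcases hp' with hp' | hp'
  · rw [(mem_chain.1 hg).2 p hp']
    rw [basePts, ← List.map_take, List.mem_map] at hp'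
    obtain ⟨b, hb, rfl⟩ := hp'
    rw [idx_ptN (of_blt (List.all_eq_true.1 baseIdx_lt b (List.mem_of_mem_take hb))), hfix b hb]
  · have hp2 : p = ptN (baseIdx.getD k 0) := by
      rw [hp', List.getD_eq_getElem _ _ hlen]; simp [basePts]
    rw [hp2, idx_ptN baseIdx_getD_lt, him]

theorem exists_word {g : Equiv.Perm GolayPt} (hg : g ∈ chain 4) :
    ∃ w ∈ words, validTab w = true ∧ permOf w = g := by
  have h := lvl_ok
  simp only [List.zipIdx_cons, List.zipIdx_nil, List.all_cons, List.all_nil, Bool.and_true,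
    Bool.and_eq_true] at h
  obtain ⟨h4, h5, h6⟩ := h
  obtain ⟨a, ha, hva, g5⟩ := step (by omega) h4 hg
  obtain ⟨b, hb, hvb, g6⟩ := step (by omega) h5 g5
  obtain ⟨c, hc, hvc, g7⟩ := step (by omega) h6 g6
  rw [chain_seven, Subgroup.mem_bot] at g7
  obtain ⟨hbc, ebc⟩ := mulTab_spec hvb hvc
  obtain ⟨habc, eabc⟩ := mulTab_spec hva hbc
  refine ⟨mulTab a (mulTab b c), List.mem_flatMap.2 ⟨a, ha, List.mem_flatMap.2 ⟨b, hb,
    List.mem_map.2 ⟨c, hc, rfl⟩⟩⟩, habc, ?_⟩
  have e1 := inv_mul_eq_one.1 g7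
  rw [eabc, ebc, e1, mul_inv_cancel_left, mul_inv_cancel_left]

theorem swap_not_mem {a b : GolayPt} (hab : a ≠ b) : Equiv.swap a b ∉ M24 := by
  intro h
  have hp : Function.Injective (![a, b] : Fin 2 → GolayPt) := by
    intro i j e; fin_cases i <;> fin_cases j <;> simp_all
  obtain ⟨g, hg, hgi⟩ := exists_map_tuple (n := 2) (by omega) ![a, b] ![ptN 1, ptN 23] hp
    (by decide +kernel)
  have hmem : g * Equiv.swap a b * g⁻¹ ∈ M24 := mul_mem (mul_mem hg h) (inv_mem hg)
  have h0 : g a = ptN 1 := hgi 0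
  have h1 : g b = ptN 23 := hgi 1
  have e : g * Equiv.swap a b * g⁻¹ = Equiv.swap (ptN 1) (ptN 23) := by
    rw [← h0, ← h1, Equiv.swap_apply_apply]
  rw [e] at hmem
  have := (mem_octads_iff.1 (smul_mem_octads hmem OctStab.O_mem))
  revert this
  decide +kernel

theorem permOf_rep (b : Bool) :
    validTab (repOf b) = true ∧ permOf (repOf b) ∈ M24 ∧ permOf (repOf b) * permOf (repOf b) = 1 ∧
      permOf (repOf b) ≠ 1 := by
  have h := rep_ok
  simp only [Bool.and_eq_true, beq_iff_eq, Bool.not_eq_true', beq_eq_false_iff_ne] at h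
  obtain ⟨⟨⟨⟨⟨⟨⟨a, b'⟩, c⟩, d⟩, e⟩, f⟩, g⟩, i⟩ := h
  have key : ∀ t : List ℕ, validTab t = true → presTab t = true → t ≠ idTab → mulTab t t = idTab →
      validTab t = true ∧ permOf t ∈ M24 ∧ permOf t * permOf t = 1 ∧ permOf t ≠ 1 := by
    intro t hv hp hne hsq
    refine ⟨hv, permOf_mem_M24 hv hp, ?_, fun h1 => hne ?_⟩
    · rw [← (mulTab_spec hv hv).2, hsq, permOf_idTab]
    · obtain ⟨hl, -, -⟩ := validTab_bound hv
      refine List.ext_getElem (by simp [idTab, hl]) fun j h2 h3 => ?_
      have := idx_permOf hv (pt ⟨j, hl ▸ h2⟩)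
      rw [h1, Equiv.Perm.one_apply, idx_pt, List.getD_eq_getElem _ _ h2] at this
      simpa [idTab] using this.symm
  cases b
  · exact key _ c d f i
  · exact key _ a b' e g

/-- Every involution is conjugate to one of the two representatives. -/
theorem invol_conj {g : Equiv.Perm GolayPt} (hg : g ∈ M24) (h2 : g * g = 1) (h1 : g ≠ 1) :
    ∃ k ∈ M24, ∃ b : Bool, g = k * permOf (repOf b) * k⁻¹ := by
  have hgg : ∀ x, g (g x) = x := fun x => by
    rw [← Equiv.Perm.mul_apply, h2, Equiv.Perm.one_apply]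
  obtain ⟨a, ha⟩ : ∃ a, g a ≠ a := by
    by_contra h
    push Not at h
    exact h1 (Equiv.ext h)
  obtain ⟨c, hc⟩ : ∃ c, c ≠ a ∧ c ≠ g a ∧ g c ≠ c := by
    by_contra h
    push Not at h
    refine swap_not_mem ha.symm ?_
    have e : g = Equiv.swap a (g a) := by
      refine Equiv.ext fun x => ?_
      by_cases hxa : x = a
      · rw [hxa, Equiv.swap_apply_left]
      · by_cases hxb : x = g a
        · rw [hxb, Equiv.swap_apply_right, hgg]
        · rw [Equiv.swap_apply_of_ne_of_ne hxa hxb, h x hxa hxb]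
    rwa [← e]
  obtain ⟨hca, hcb, hcc⟩ := hc
  have inj : Function.Injective (![a, g a, c, g c] : Fin 4 → GolayPt) := by
    have e1 : a ≠ g c := fun h => hcb (by rw [h, hgg])
    have e2 : g a ≠ g c := fun h => hca (g.injective h).symm
    have e3 : a ≠ c := hca.symm
    have e4 : g a ≠ c := hcb.symm
    have e5 : c ≠ g c := hcc.symm
    intro i j h
    fin_cases i <;> fin_cases j <;>
      first
        | rfl
        | exact absurd h ha.symm | exact absurd h ha
        | exact absurd h e1 | exact absurd h e1.symm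
        | exact absurd h e2 | exact absurd h e2.symm
        | exact absurd h e3 | exact absurd h e3.symm
        | exact absurd h e4 | exact absurd h e4.symm
        | exact absurd h e5 | exact absurd h e5.symm
  obtain ⟨m, hm, hmi⟩ := exists_map_tuple (n := 4) (by omega) ![a, g a, c, g c]
    ![ptN 23, ptN 0, ptN 2, ptN 4] inj (by decide +kernel)
  have m0 : m a = ptN 23 := hmi 0
  have m1 : m (g a) = ptN 0 := hmi 1
  have m2 : m c = ptN 2 := hmi 2
  have m3 : m (g c) = ptN 4 := hmi 3
  have ht := t0_ok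
  simp only [Bool.and_eq_true, List.all_eq_true, Nat.beq_eq, List.mem_range] at ht
  obtain ⟨⟨tv, tp⟩, tb⟩ := ht
  have tM := permOf_mem_M24 tv tp
  set g' := m * g * m⁻¹ with hg'
  have hg'M : g' ∈ M24 := mul_mem (mul_mem hm hg) (inv_mem hm)
  have g'0 : g' (ptN 23) = ptN 0 := by rw [← m0, ← m1]; simp [hg']
  have g'1 : g' (ptN 0) = ptN 23 := by rw [← m1, ← m0]; simp [hg', hgg]
  have g'2 : g' (ptN 2) = ptN 4 := by rw [← m2, ← m3]; simp [hg']
  have g'3 : g' (ptN 4) = ptN 2 := by rw [← m3, ← m2]; simp [hg', hgg]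
  have tap : ∀ i, i < 4 → permOf t0 (ptN (baseIdx.getD i 0)) = ptN (baseIdx.getD (i ^^^ 1) 0) := by
    intro i hi
    refine idx_injective (Fin.ext ?_)
    rw [idx_permOf tv, idx_ptN baseIdx_getD_lt, idx_ptN baseIdx_getD_lt, tb i hi]
  have hch : (permOf t0)⁻¹ * g' ∈ chain 4 := by
    refine mem_chain.2 ⟨mul_mem (inv_mem tM) hg'M, fun p hp => ?_⟩
    rw [Equiv.Perm.mul_apply, Equiv.Perm.inv_eq_iff_eq]
    simp only [basePts, baseIdx, List.map_cons, List.map_nil, List.take_succ_cons, List.take_zero,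
      List.mem_cons, List.not_mem_nil, or_false] at hp
    rcases hp with rfl | rfl | rfl | rfl
    · rw [g'0]; exact (tap 0 (by omega)).symm
    · rw [g'1]; exact (tap 1 (by omega)).symm
    · rw [g'2]; exact (tap 2 (by omega)).symm
    · rw [g'3]; exact (tap 3 (by omega)).symm
  obtain ⟨w, hw, hwv, hwe⟩ := exists_word hch
  obtain ⟨hcv, hce⟩ := mulTab_spec tv hwv
  have e' : permOf (mulTab t0 w) = g' := by rw [hce, hwe, mul_inv_cancel_left]
  have hsq : g' * g' = 1 := by
    rw [hg', show m * g * m⁻¹ * (m * g * m⁻¹) = m * (g * g) * m⁻¹ by group, h2]; group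
  have hidem : mulTab (mulTab t0 w) (mulTab t0 w) = idTab := by
    obtain ⟨hv2, he2⟩ := mulTab_spec hcv hcv
    have hp1 : permOf (mulTab (mulTab t0 w) (mulTab t0 w)) = 1 := by rw [he2, e', hsq]
    obtain ⟨hl, -, -⟩ := validTab_bound hv2
    refine List.ext_getElem (by simp [idTab, hl]) fun j h3 h4 => ?_
    have := idx_permOf hv2 (pt ⟨j, hl ▸ h3⟩)
    rw [hp1, Equiv.Perm.one_apply, idx_pt, List.getD_eq_getElem _ _ h3] at this
    simpa [idTab] using this.symm
  have hd := List.all_eq_true.1 cand_ok w hw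
  rw [Bool.or_eq_true, Bool.not_eq_true', hidem, List.contains_iff_mem] at hd
  rcases hd with h | h
  · simp at h
  obtain ⟨⟨cd, k, b⟩, he, hce'⟩ := List.mem_map.1 h
  have hok := List.all_eq_true.1 data_ok _ he
  simp only [Bool.and_eq_true, beq_iff_eq] at hok
  obtain ⟨⟨⟨kv, kp⟩, -⟩, keq⟩ := hok
  simp only at hce'
  subst hce'
  have eq1 : g' * permOf k = permOf k * permOf (repOf b) := by
    rw [← e', ← (mulTab_spec hcv kv).2, keq, (mulTab_spec kv (permOf_rep b).1).2]
  refine ⟨m⁻¹ * permOf k, mul_mem (inv_mem hm) (permOf_mem_M24 kv kp), b, ?_⟩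
  calc g = m⁻¹ * (g' * permOf k) * (permOf k)⁻¹ * m := by rw [hg']; group
    _ = m⁻¹ * (permOf k * permOf (repOf b)) * (permOf k)⁻¹ * m := by rw [eq1]
    _ = _ := by group

theorem fixed_conj (k g : Equiv.Perm GolayPt) :
    (Finset.univ.filter fun p => (k * g * k⁻¹) p = p) = k • Finset.univ.filter fun p => g p = p := by
  ext p
  rw [← Finset.inv_smul_mem_iff, Finset.mem_filter, Finset.mem_filter, Equiv.Perm.smul_def,
    Equiv.Perm.mul_apply, Equiv.Perm.mul_apply]
  simp only [Finset.mem_univ, true_and]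
  constructor
  · intro h; rw [Equiv.Perm.eq_inv_iff_eq, h]
  · intro h; rw [h]; simp

theorem rep8_fixed : mask (Finset.univ.filter fun p => permOf (repOf true) p = p) ∈ octList := by
  rw [show (Finset.univ.filter fun p => permOf (repOf true) p = p) =
    toSet (Nat.ofBits fun i : Fin 24 => Nat.beq (rep8.getD i.val 0) i.val) from ?_]
  · decide +kernel
  · ext p
    rw [mem_toSet, Finset.mem_filter, Nat.testBit_ofBits]
    simp only [Finset.mem_univ, true_and, (idx p).isLt, dite_true, Nat.beq_eq]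
    constructor
    · intro h
      have := idx_permOf (permOf_rep true).1 p
      rw [h] at this
      exact this.symm
    · intro h
      exact idx_injective (Fin.ext ((idx_permOf (permOf_rep true).1 p).trans h))

theorem rep0_fixed (p : GolayPt) : permOf (repOf false) p ≠ p := by
  intro h
  have e := idx_permOf (permOf_rep false).1 p
  rw [h] at e
  have hall : ((List.range 24).all fun i => !Nat.beq (rep0.getD i 0) i) = true := by decide +kernel
  have := List.all_eq_true.1 hall _ (List.mem_range.2 (idx p).isLt)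
  rw [Bool.not_eq_true', ← Bool.not_eq_true, Nat.beq_eq] at this
  exact this e.symm

theorem fixed_cases {g : Equiv.Perm GolayPt} (hg : g ∈ M24) (ho : orderOf g = 2) :
    ∃ k ∈ M24, ∃ b : Bool, g = k * permOf (repOf b) * k⁻¹ ∧
      (b = true → (Finset.univ.filter fun p => g p = p) ∈ octads) ∧
      (b = false → ∀ p, g p ≠ p) := by
  have h2 : g * g = 1 := by rw [← pow_two, ← ho, pow_orderOf_eq_one]
  have h1 : g ≠ 1 := fun h => by rw [h, orderOf_one] at ho; omega
  obtain ⟨k, hk, b, rfl⟩ := invol_conj hg h2 h1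
  refine ⟨k, hk, b, rfl, ?_, ?_⟩
  · rintro rfl
    rw [fixed_conj]
    exact smul_mem_octads hk (mem_octads_iff.2 rep8_fixed)
  · rintro rfl p h
    simp only [Equiv.Perm.mul_apply] at h
    exact rep0_fixed (k⁻¹ p) (by rw [Equiv.Perm.eq_inv_iff_eq, h])

end CfsgLib.Golay.Invol
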