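/-
Elements of order three with a prescribed cycle and image, their conjugators to two representatives,
and the absence of a mixed commuting pair of orders three and two.
-/
import Cfsg.Agent.Golay.InvolData

set_option autoImplicit false
set_option maxRecDepth 20000

namespace CfsgLib.Golay.Ord3

open Invol

/-- An element with the three-cycle on the first three base points, fourth to fifth. -/
def t3 : List ℕ := [2, 19, 23, 11, 5, 17, 14, 15, 10, 6, 1, 3, 22, 13, 9, 7, 20, 16, 18, 12, 21, 4, 8, 0]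

/-- An element swapping the first two base points, third to fourth to fifth. -/
def t6 : List ℕ := [23, 19, 4, 7, 5, 9, 20, 3, 15, 8, 16, 14, 2, 22, 10, 6, 17, 13, 12, 11, 18, 1, 21, 0]

/-- Order three, six fixed points. -/
def rep6 : List ℕ := [2, 1, 23, 7, 5, 6, 4, 13, 12, 9, 10, 11, 18, 3, 21, 15, 17, 19, 8, 16, 20, 22, 14, 0]

/-- Order three, no fixed points. -/
def rep0 : List ℕ := [2, 3, 23, 13, 5, 15, 18, 22, 20, 8, 21, 16, 6, 1, 11, 4, 14, 7, 12, 10, 9, 19, 17, 0]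

/-- Candidate, conjugator, class. -/
def conjData : List (List ℕ × List ℕ × Bool) :=
  [([2, 1, 23, 7, 5, 6, 4, 13, 12, 9, 10, 11, 18, 3, 21, 15, 17, 19, 8, 16, 20, 22, 14, 0], [5, 20, 6, 17, 13, 3, 7, 19, 21, 11, 15, 10, 22, 16, 8, 9, 2, 23, 14, 0, 1, 12, 18, 4], true), ([2, 1, 23, 18, 5, 11, 6, 7, 16, 15, 10, 4, 13, 17, 8, 20, 14, 12, 22, 19, 9, 21, 3, 0], [3, 21, 18, 20, 8, 16, 14, 9, 13, 10, 7, 19, 17, 15, 4, 1, 2, 23, 12, 0, 6, 5, 11, 22], true), ([2, 1, 23, 20, 5, 10, 6, 21, 8, 13, 4, 11, 12, 14, 9, 22, 3, 15, 18, 7, 16, 19, 17, 0], [3, 11, 20, 22, 21, 19, 7, 17, 4, 18, 1, 12, 5, 15, 2, 8, 9, 13, 10, 14, 6, 23, 0, 16], true), ([2, 3, 23, 13, 5, 15, 18, 22, 20, 8, 21, 16, 6, 1, 11, 4, 14, 7, 12, 10, 9, 19, 17, 0], [6, 21, 18, 19, 9, 8, 23, 16, 4, 15, 3, 22, 2, 10, 7, 20, 17, 11, 0,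 1, 5, 13, 14, 12], false), ([2, 3, 23, 16, 5, 12, 22, 19, 21, 15, 7, 9, 4, 17, 6, 11, 1, 20, 8, 10, 13, 18, 14, 0], [19, 20, 10, 13, 3, 16, 11, 12, 21, 8, 0, 6, 15, 17, 14, 1, 22, 5, 9, 23, 18, 2, 4, 7], false), ([2, 3, 23, 22, 5, 19, 8, 21, 12, 7, 13, 20, 6, 14, 10, 11, 17, 18, 16, 4, 15, 9, 1, 0], [16, 2, 17, 23, 1, 3, 21, 12, 5, 4, 15, 14, 7, 0, 13, 22, 10, 8, 9, 20, 19, 11, 6, 18], false), ([2, 4, 23, 13, 5, 1, 3, 9, 19, 20, 17, 14, 15, 6, 16, 18, 11, 22, 12, 21, 7, 8, 10, 0], [0, 11, 2, 14, 9, 20, 1, 8, 6, 13, 15, 10, 5, 16, 22, 7, 17, 21, 4, 12, 3, 18, 19, 23], false), ([2, 4, 23, 16, 5, 1, 14, 19, 18, 21, 3, 17, 7, 11, 22, 9, 10, 13, 20, 12, 8, 15, 6, 0], [19, 6, 12, 14, 3, 16, 20, 0, 11, 13, 1, 21, 18, 22, 9, 10, 15, 23, 8, 5, 17, 4, 2, 7], false), ([2, 4, 23, 22, 5, 1, 17, 18, 9,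 12, 14, 3, 8, 10, 13, 19, 6, 16, 21, 20, 15, 7, 11, 0], [2, 10, 23, 14, 21, 7, 1, 9, 11, 22, 19, 6, 5, 13, 16, 18, 17, 8, 4, 15, 3, 20, 12, 0], false), ([2, 6, 23, 8, 5, 22, 12, 16, 19, 13, 9, 7, 1, 10, 17, 14, 11, 15, 21, 3, 18, 20, 4, 0], [21, 3, 20, 8, 14, 17, 23, 16, 1, 12, 5, 13, 2, 19, 9, 15, 10, 7, 0, 4, 6, 22, 11, 18], false), ([2, 6, 23, 14, 5, 13, 8, 15, 1, 3, 20, 19, 7, 4, 9, 12, 10, 18, 21, 22, 16, 17, 11, 0], [16, 11, 10, 19, 21, 17, 3, 12, 2, 0, 13, 6, 9, 22, 1, 18, 8, 15, 14, 5, 23, 4, 7, 20], false), ([2, 6, 23, 20, 5, 16, 18, 14, 19, 8, 15, 21, 7, 11, 12, 22, 4, 3, 1, 9, 17, 13, 10, 0], [22, 16, 10, 4, 19, 9, 12, 11, 6, 1, 23, 17, 14, 5, 20, 8, 3, 13, 7, 2, 18, 0, 21, 15], false), ([2, 7, 23, 16, 5, 10, 6, 19, 15, 18, 4, 11, 3, 9, 14, 17, 12, 8, 13, 1, 20, 21, 22, 0], [19,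 20, 1, 0, 17, 8, 15, 2, 16, 14, 22, 21, 12, 23, 10, 6, 9, 18, 3, 13, 11, 4, 5, 7], true), ([2, 7, 23, 18, 5, 17, 14, 10, 15, 21, 1, 3, 13, 22, 20, 19, 9, 4, 11, 8, 6, 16, 12, 0], [4, 7, 5, 10, 22, 12, 9, 0, 15, 8, 18, 20, 16, 1, 14, 13, 6, 23, 21, 3, 19, 11, 2, 17], false), ([2, 7, 23, 21, 5, 19, 20, 17, 15, 16, 8, 13, 11, 12, 6, 10, 22, 1, 3, 4, 14, 18, 9, 0], [16, 19, 22, 4, 13, 12, 17, 21, 10, 15, 6, 2, 7, 5, 0, 11, 23, 3, 1, 14, 8, 20, 18, 9], false), ([2, 8, 23, 1, 5, 18, 15, 6, 3, 14, 16, 21, 9, 19, 12, 7, 20, 11, 4, 22, 10, 17, 13, 0], [23, 22, 0, 13, 10, 16, 7, 5, 17, 21, 14, 8, 15, 19, 1, 20, 3, 4, 6, 9, 11, 12, 18, 2], false), ([2, 8, 23, 4, 5, 3, 1, 18, 6, 10, 14, 17, 22, 20, 9, 7, 13, 21, 15, 12, 16, 11, 19, 0], [15, 16, 7, 13, 10, 14, 8, 0, 19, 22, 21, 5, 1, 20, 4, 9, 3, 23,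 6, 17, 12, 11, 2, 18], false), ([2, 8, 23, 15, 5, 6, 4, 3, 18, 16, 10, 11, 12, 13, 22, 7, 19, 17, 1, 9, 14, 21, 20, 0], [20, 11, 14, 15, 4, 5, 6, 7, 23, 17, 10, 21, 0, 3, 18, 13, 9, 16, 2, 19, 12, 1, 8, 22], true), ([2, 9, 23, 1, 5, 20, 13, 6, 17, 3, 8, 19, 16, 7, 15, 21, 22, 10, 11, 18, 4, 14, 12, 0], [20, 0, 4, 2, 16, 22, 8, 21, 13, 6, 19, 1, 10, 23, 3, 12, 9, 15, 17, 11, 7, 18, 14, 5], false), ([2, 9, 23, 4, 5, 3, 14, 13, 10, 11, 17, 1, 15, 22, 21, 16, 12, 8, 20, 18, 19, 6, 7, 0], [7, 5, 13, 3, 20, 19, 8, 2, 21, 14, 12, 9, 17, 4, 1, 18, 11, 0, 10, 16, 6, 15, 23, 22], false), ([2, 9, 23, 19, 5, 11, 6, 14, 8, 20, 10, 4, 21, 12, 16, 15, 7, 17, 3, 18, 1, 13, 22, 0], [13, 22, 12, 23, 11, 4, 5, 0, 3, 8, 6, 17, 19, 2, 9, 10, 7, 14, 18, 16, 15, 20, 1, 21], true), ([2, 10, 23, 14, 5, 16, 15, 9,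 3, 17, 21, 18, 19, 6, 8, 13, 4, 7, 22, 20, 12, 1, 11, 0], [23, 6, 0, 15, 14, 8, 10, 11, 19, 12, 16, 7, 1, 13, 17, 3, 9, 22, 21, 5, 20, 4, 18, 2], false), ([2, 10, 23, 18, 5, 22, 9, 1, 21, 16, 7, 12, 13, 11, 19, 8, 6, 3, 17, 20, 14, 15, 4, 0], [10, 20, 7, 14, 0, 2, 12, 15, 9, 6, 4, 3, 11, 19, 17, 23, 18, 21, 13, 22, 16, 5, 8, 1], false), ([2, 10, 23, 21, 5, 13, 20, 9, 16, 18, 19, 8, 14, 4, 17, 3, 11, 12, 7, 1, 22, 15, 6, 0], [12, 13, 14, 4, 0, 2, 11, 10, 21, 3, 6, 7, 16, 5, 18, 23, 9, 1, 8, 22, 15, 20, 19, 17], false), ([2, 11, 23, 7, 5, 13, 19, 17, 22, 12, 8, 20, 21, 4, 15, 18, 6, 3, 14, 16, 1, 9, 10, 0], [3, 1, 7, 11, 15, 18, 5, 16, 21, 12, 22, 23, 4, 20, 2, 14, 0, 19, 13, 8, 9, 10, 6, 17], false), ([2, 11, 23, 9, 5, 16, 21, 20, 7, 12, 18, 15, 3, 10, 17, 1, 4, 19, 13, 14, 8, 22, 6, 0], [3,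 16, 9, 4, 23, 0, 10, 6, 20, 7, 11, 14, 13, 5, 19, 2, 17, 22, 18, 1, 8, 15, 21, 12], false), ([2, 11, 23, 14, 5, 22, 7, 13, 17, 1, 12, 9, 16, 6, 21, 18, 10, 20, 19, 15, 8, 3, 4, 0], [7, 19, 13, 15, 23, 0, 16, 21, 1, 9, 5, 17, 12, 18, 8, 2, 20, 14, 10, 4, 11, 22, 3, 6], false), ([2, 12, 23, 3, 5, 6, 4, 15, 1, 17, 10, 11, 8, 7, 20, 13, 9, 16, 18, 19, 21, 14, 22, 0], [14, 11, 20, 9, 1, 12, 8, 17, 23, 3, 18, 22, 0, 16, 5, 19, 13, 7, 2, 15, 10, 6, 4, 21], true), ([2, 12, 23, 11, 5, 8, 20, 16, 4, 10, 13, 19, 14, 9, 1, 17, 22, 18, 15, 3, 21, 6, 7, 0], [9, 6, 10, 20, 1, 12, 18, 8, 11, 3, 22, 0, 17, 21, 23, 14, 2, 5, 15, 16, 19, 7, 4, 13], false), ([2, 12, 23, 19, 5, 14, 1, 18, 20, 13, 17, 3, 6, 22, 4, 10, 7, 15, 16, 11, 21, 8, 9, 0], [2, 15, 23, 10, 22, 9, 5, 21, 19, 3, 7, 12, 4, 17, 1, 13, 6, 20,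 14, 16, 11, 18, 8, 0], false), ([2, 13, 23, 6, 5, 9, 7, 3, 10, 4, 22, 12, 21, 20, 18, 16, 19, 14, 17, 15, 1, 11, 8, 0], [16, 18, 19, 17, 0, 2, 1, 5, 21, 12, 3, 8, 20, 14, 22, 23, 10, 4, 13, 7, 11, 6, 9, 15], false), ([2, 13, 23, 15, 5, 7, 22, 4, 21, 18, 9, 12, 17, 19, 3, 14, 8, 11, 10, 1, 6, 16, 20, 0], [6, 16, 22, 8, 15, 14, 12, 19, 4, 7, 9, 0, 11, 21, 23, 3, 2, 13, 17, 10, 5, 18, 1, 20], false), ([2, 13, 23, 17, 5, 12, 7, 15, 1, 14, 9, 22, 4, 8, 10, 6, 20, 21, 16, 11, 18, 3, 19, 0], [3, 7, 17, 15, 14, 10, 23, 4, 16, 18, 8, 22, 2, 6, 11, 9, 19, 12, 0, 13, 20, 1, 5, 21], false), ([2, 14, 23, 8, 5, 7, 12, 4, 13, 20, 22, 9, 18, 3, 16, 21, 1, 10, 6, 15, 11, 19, 17, 0], [13, 5, 3, 7, 11, 9, 19, 16, 17, 22, 18, 0, 21, 4, 23, 20, 2, 14, 15, 12, 10, 6, 1, 8], false), ([2, 14, 23, 9, 5, 18, 16, 10,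 12, 22, 21, 15, 19, 1, 13, 20, 17, 6, 4, 8, 11, 7, 3, 0], [13, 23, 1, 0, 21, 7, 18, 11, 6, 17, 9, 19, 5, 2, 12, 10, 8, 20, 4, 3, 16, 22, 15, 14], false), ([2, 14, 23, 21, 5, 20, 8, 10, 18, 15, 19, 13, 9, 17, 22, 12, 3, 11, 6, 7, 4, 16, 1, 0], [3, 1, 21, 14, 9, 15, 0, 6, 10, 7, 20, 11, 23, 22, 17, 12, 13, 18, 2, 5, 19, 4, 8, 16], false), ([2, 15, 23, 3, 5, 11, 6, 8, 14, 1, 10, 4, 12, 21, 7, 9, 16, 13, 19, 22, 20, 17, 18, 0], [19, 12, 22, 9, 5, 11, 4, 1, 13, 16, 6, 3, 21, 15, 2, 20, 8, 14, 17, 7, 10, 23, 0, 18], true), ([2, 15, 23, 10, 5, 9, 22, 8, 11, 4, 12, 7, 3, 16, 1, 14, 18, 20, 13, 17, 19, 6, 21, 0], [21, 2, 6, 23, 18, 13, 11, 10, 14, 15, 20, 9, 8, 0, 5, 16, 4, 3, 7, 17, 1, 19, 12, 22], false), ([2, 15, 23, 12, 5, 14, 17, 8, 9, 7, 3, 1, 10, 18, 4, 11, 21, 19, 20, 6, 13, 22, 16, 0], [16,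 7, 21, 8, 12, 10, 4, 13, 23, 2, 17, 1, 14, 9, 11, 3, 15, 20, 5, 6, 0, 19, 18, 22], false), ([2, 16, 23, 10, 5, 8, 19, 17, 4, 6, 20, 13, 22, 21, 7, 12, 18, 14, 1, 9, 3, 11, 15, 0], [13, 15, 21, 12, 16, 18, 5, 2, 9, 19, 3, 7, 4, 22, 14, 1, 17, 0, 8, 20, 6, 10, 23, 11], false), ([2, 16, 23, 12, 5, 20, 19, 11, 7, 22, 13, 8, 14, 18, 3, 1, 15, 6, 10, 17, 4, 9, 21, 0], [20, 19, 4, 17, 7, 11, 13, 3, 15, 16, 22, 23, 10, 6, 2, 8, 0, 14, 18, 9, 1, 21, 12, 5], false), ([2, 16, 23, 17, 5, 19, 13, 22, 14, 3, 20, 8, 10, 15, 11, 6, 21, 9, 7, 4, 12, 1, 18, 0], [13, 5, 15, 19, 10, 20, 14, 9, 23, 2, 1, 18, 8, 4, 22, 12, 7, 17, 11, 21, 0, 16, 3, 6], false), ([2, 17, 23, 6, 5, 8, 13, 12, 4, 11, 19, 20, 18, 3, 15, 16, 14, 22, 7, 21, 9, 10, 1, 0], [1, 20, 17, 9, 5, 8, 12, 19, 16, 15, 23, 13, 7, 11, 6, 4, 3, 10,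 18, 2, 14, 0, 21, 22], false), ([2, 17, 23, 10, 5, 21, 18, 20, 6, 11, 16, 15, 22, 1, 12, 9, 3, 13, 8, 7, 19, 4, 14, 0], [14, 10, 12, 16, 15, 9, 0, 21, 1, 13, 20, 6, 23, 3, 8, 11, 18, 5, 2, 7, 17, 19, 4, 22], false), ([2, 17, 23, 11, 5, 9, 12, 21, 6, 4, 7, 22, 8, 14, 19, 20, 1, 16, 15, 13, 18, 10, 3, 0], [4, 8, 5, 6, 23, 0, 16, 3, 21, 7, 20, 14, 17, 12, 13, 2, 19, 22, 1, 15, 10, 18, 11, 9], false), ([2, 18, 23, 8, 5, 12, 9, 14, 20, 19, 22, 7, 4, 16, 11, 10, 21, 1, 17, 6, 3, 13, 15, 0], [6, 22, 9, 15, 13, 16, 0, 7, 4, 12, 1, 20, 23, 10, 8, 21, 3, 11, 2, 17, 5, 18, 14, 19], false), ([2, 18, 23, 13, 5, 6, 4, 7, 8, 19, 10, 11, 1, 15, 14, 3, 16, 9, 12, 17, 22, 20, 21, 0], [13, 10, 15, 17, 0, 2, 23, 9, 5, 8, 11, 7, 6, 19, 22, 16, 12, 1, 4, 18, 14, 21, 20, 3], true), ([2, 18, 23, 20, 5, 17, 1, 11,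 13, 19, 3, 14, 9, 21, 7, 22, 15, 4, 6, 12, 10, 8, 16, 0], [18, 12, 6, 9, 14, 7, 8, 10, 16, 22, 17, 23, 21, 19, 2, 11, 0, 20, 13, 5, 15, 4, 3, 1], false), ([2, 19, 23, 3, 5, 10, 6, 7, 17, 14, 4, 11, 16, 13, 18, 15, 20, 22, 9, 21, 12, 1, 8, 0], [8, 13, 17, 0, 1, 19, 21, 2, 18, 3, 7, 15, 9, 23, 10, 6, 12, 16, 14, 20, 11, 4, 5, 22], true), ([2, 19, 23, 6, 5, 21, 15, 12, 11, 10, 18, 16, 17, 20, 1, 3, 8, 7, 9, 14, 22, 4, 13, 0], [22, 7, 13, 12, 1, 19, 23, 11, 6, 3, 21, 10, 2, 17, 9, 14, 18, 8, 0, 5, 15, 4, 16, 20], false), ([2, 19, 23, 15, 5, 14, 3, 22, 16, 21, 1, 17, 11, 8, 4, 6, 13, 12, 9, 10, 7, 18, 20, 0], [4, 16, 5, 13, 6, 3, 9, 20, 19, 1, 2, 12, 18, 8, 17, 15, 11, 22, 21, 0, 10, 23, 7, 14], false), ([2, 20, 23, 7, 5, 17, 3, 6, 9, 22, 14, 1, 15, 19, 18, 21, 13, 4, 10, 16, 11, 12, 8, 0], [10,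 3, 14, 7, 5, 17, 1, 2, 21, 15, 22, 19, 11, 6, 13, 4, 16, 0, 20, 9, 12, 8, 23, 18], false), ([2, 20, 23, 9, 5, 15, 16, 3, 22, 7, 18, 21, 11, 8, 10, 4, 19, 1, 14, 6, 17, 12, 13, 0], [22, 9, 13, 7, 16, 19, 10, 11, 15, 5, 0, 17, 14, 3, 20, 6, 1, 12, 18, 23, 4, 2, 21, 8], false), ([2, 20, 23, 22, 5, 11, 6, 16, 7, 9, 10, 4, 17, 13, 14, 1, 8, 21, 18, 3, 15, 12, 19, 0], [12, 14, 17, 5, 3, 22, 19, 11, 16, 9, 18, 13, 8, 4, 2, 6, 20, 15, 7, 1, 10, 23, 0, 21], true), ([2, 21, 23, 1, 5, 7, 9, 4, 14, 17, 12, 22, 20, 16, 19, 13, 15, 6, 11, 8, 10, 3, 18, 0], [22, 23, 18, 0, 7, 4, 14, 13, 20, 12, 21, 17, 8, 2, 9, 5, 6, 15, 19, 1, 10, 3, 16, 11], false), ([2, 21, 23, 4, 5, 3, 17, 12, 11, 6, 1, 14, 20, 15, 8, 19, 18, 9, 22, 13, 7, 10, 16, 0], [14, 21, 8, 10, 0, 2, 15, 20, 22, 18, 9, 5, 13, 1, 4, 23, 3, 12,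 19, 17, 16, 6, 7, 11], false), ([2, 21, 23, 12, 5, 10, 6, 1, 22, 9, 4, 11, 20, 18, 13, 8, 16, 17, 14, 19, 3, 7, 15, 0], [0, 16, 2, 13, 7, 1, 21, 18, 3, 11, 19, 6, 12, 14, 22, 9, 10, 4, 20, 5, 17, 15, 8, 23], true), ([2, 22, 23, 11, 5, 21, 16, 1, 10, 6, 15, 18, 19, 12, 20, 8, 9, 14, 3, 13, 17, 4, 7, 0], [6, 13, 16, 12, 0, 2, 15, 14, 18, 11, 4, 7, 10, 19, 22, 23, 1, 17, 8, 21, 3, 5, 20, 9], false), ([2, 22, 23, 17, 5, 15, 21, 20, 3, 1, 16, 18, 10, 7, 6, 4, 12, 8, 19, 11, 13, 14, 9, 0], [11, 16, 18, 12, 2, 23, 13, 17, 9, 22, 21, 4, 20, 10, 15, 0, 5, 3, 7, 6, 1, 14, 8, 19], false), ([2, 22, 23, 19, 5, 18, 21, 11, 13, 8, 15, 16, 1, 9, 3, 17, 7, 10, 4, 14, 6, 20, 12, 0], [21, 7, 20, 11, 14, 3, 1, 5, 17, 15, 9, 23, 12, 16, 2, 19, 0, 4, 22, 13, 10, 8, 18, 6], false)]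

/-- The representative of a class. -/
def repOf (b : Bool) : List ℕ := bif b then rep6 else rep0

/-- Number of fixed positions of a table. -/
def fixNum (g : List ℕ) : ℕ := ((List.range 24).filter fun i => Nat.beq (g.getD i 0) i).length

theorem data_ok : (conjData.all fun e => validTab e.2.1 && presTab e.2.1 && validTab e.1 &&
    mulTab e.1 e.2.1 == mulTab e.2.1 (repOf e.2.2)) = true := by decide +kernel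

theorem cand_ok : (words.all fun h =>
    !(mulTab (mulTab t3 h) (mulTab (mulTab t3 h) (mulTab t3 h)) == idTab) ||
    (conjData.map Prod.fst).contains (mulTab t3 h)) = true := by decide +kernel

theorem six_ok : (words.all fun h =>
    (let g := mulTab t6 h
     let g2 := mulTab g g
     let g3 := mulTab g g2
     !(mulTab g3 g3 == idTab && Nat.beq (fixNum g3) 0 && Nat.beq (fixNum g2) 6))) = true := by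
  decide +kernel

theorem t_ok : (validTab t3 && presTab t3 && validTab t6 && presTab t6 &&
    ((List.range 4).all fun i =>
      Nat.beq (t3.getD (baseIdx.getD i 0) 0) (baseIdx.getD ([1, 2, 0, 4].getD i 0) 0) &&
      Nat.beq (t6.getD (baseIdx.getD i 0) 0) (baseIdx.getD ([1, 0, 3, 4].getD i 0) 0))) = true := by
  decide +kernel

theorem rep_ok : ([rep6, rep0].all fun r => validTab r && presTab r && !(r == idTab) &&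
    mulTab r (mulTab r r) == idTab) = true := by decide +kernel

theorem fixNum_rep : (Nat.beq (fixNum rep6) 6 && Nat.beq (fixNum rep0) 0) = true := by decide +kernel

end CfsgLib.Golay.Ord3
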