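/-
The two classes of elements of order three, and commuting pairs of orders three and two.
-/
import Cfsg.Agent.Golay.Ord3Data
import Cfsg.Agent.Golay.Invol

set_option autoImplicit false

namespace CfsgLib.Golay.Ord3

open Cfsg Invol
open scoped Pointwise

/-- The fixed points of a permutation. -/
def fixSet (g : Equiv.Perm GolayPt) : Finset GolayPt := Finset.univ.filter fun p => g p = p

theorem fixSet_conj (k g : Equiv.Perm GolayPt) : fixSet (k * g * k⁻¹) = k • fixSet g := fixed_conj k g

theorem card_fixSet_conj (k g : Equiv.Perm GolayPt) :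
    (fixSet (k * g * k⁻¹)).card = (fixSet g).card := by rw [fixSet_conj, Finset.card_smul_finset]

theorem card_fixSet_permOf {t : List ℕ} (hv : validTab t = true) :
    (fixSet (permOf t)).card = fixNum t := by
  rw [fixNum, ← List.toFinset_card_of_nodup (List.nodup_range.filter _)]
  refine Finset.card_bij (fun p _ => (idx p).val) ?_ ?_ ?_
  · intro p hp
    rw [fixSet, Finset.mem_filter] at hp
    have := idx_permOf hv p
    rw [hp.2] at this
    rw [List.mem_toFinset, List.mem_filter, List.mem_range, Nat.beq_eq]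
    exact ⟨(idx p).isLt, this.symm⟩
  · exact fun p _ q _ h => idx_injective (Fin.ext h)
  · intro i hi
    rw [List.mem_toFinset, List.mem_filter, List.mem_range, Nat.beq_eq] at hi
    refine ⟨ptN i, ?_, idx_ptN hi.1⟩
    rw [fixSet, Finset.mem_filter]
    refine ⟨Finset.mem_univ _, idx_injective (Fin.ext ?_)⟩
    rw [idx_permOf hv, idx_ptN hi.1, hi.2]

theorem eq_idTab {t : List ℕ} (hv : validTab t = true) (h1 : permOf t = 1) : t = idTab := by
  obtain ⟨hl, -, -⟩ := validTab_bound hv
  refine List.ext_getElem (by simp [idTab, hl]) fun j h2 h3 => ?_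
  have := idx_permOf hv (pt ⟨j, hl ▸ h2⟩)
  rw [h1, Equiv.Perm.one_apply, idx_pt, List.getD_eq_getElem _ _ h2] at this
  simpa [idTab] using this.symm

/-- Some octad contains the first of three points and none of the other two. -/
theorem octad_one_of_three {a b c : GolayPt} (hab : a ≠ b) (hac : a ≠ c) (hbc : b ≠ c) :
    ∃ o ∈ octads, a ∈ o ∧ b ∉ o ∧ c ∉ o := by
  obtain ⟨m, hm, hmi⟩ := exists_map_tuple (n := 3) (by omega) ![ptN 23, ptN 1, ptN 3] ![a, b, c]
    (by decide +kernel) (by intro i j h; fin_cases i <;> fin_cases j <;> simp_all [eq_comm])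
  have h0 : m (ptN 23) = a := hmi 0
  have h1 : m (ptN 1) = b := hmi 1
  have h2 : m (ptN 3) = c := hmi 2
  refine ⟨m • OctStab.O, smul_mem_octads hm OctStab.O_mem, ?_, ?_, ?_⟩
  · rw [← h0]; exact Finset.smul_mem_smul_finset (a := m) (by decide +kernel)
  · rw [← h1]
    exact fun h => absurd ((Finset.smul_mem_smul_finset_iff m).1 h) (by decide +kernel)
  · rw [← h2]
    exact fun h => absurd ((Finset.smul_mem_smul_finset_iff m).1 h) (by decide +kernel)

/-- The group contains no three-cycle. -/
theorem exists_fourth {g : Equiv.Perm GolayPt} (hg : g ∈ M24) {a : GolayPt} (ha : g a ≠ a)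
    (h3 : g (g (g a)) = a) : ∃ d, d ≠ a ∧ d ≠ g a ∧ d ≠ g (g a) ∧ g d ≠ d := by
  by_contra h
  push Not at h
  have e1 : g (g a) ≠ g a := fun e => ha (g.injective e)
  have e2 : g (g a) ≠ a := fun e => by
    have : g a = a := by conv_rhs => rw [← h3, e]
    exact ha this
  obtain ⟨o, ho, hao, hbo, hco⟩ := octad_one_of_three ha.symm e2.symm e1.symm
  have hsub : o.erase a ⊆ g • o := fun p hp => by
    obtain ⟨hpa, hpo⟩ := Finset.mem_erase.1 hp
    have := h p hpa (fun e => hbo (e ▸ hpo)) (fun e => hco (e ▸ hpo))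
    rw [← this]
    exact Finset.smul_mem_smul_finset (a := g) hpo
  have heq : g • o = o := octad_unique (s := o.erase a) (smul_mem_octads hg ho) ho
    (by rw [Finset.card_erase_of_mem hao, card_of_mem_octads ho]; omega) hsub (Finset.erase_subset _ _)
  exact hbo (heq ▸ Finset.smul_mem_smul_finset (a := g) hao)

theorem word_of {t : List ℕ} {img : List ℕ} (tv : validTab t = true) (tp : presTab t = true)
    (himg : ∀ i, i < 4 → Nat.beq (t.getD (baseIdx.getD i 0) 0) (baseIdx.getD (img.getD i 0) 0) = true)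
    {g : Equiv.Perm GolayPt} (hg : g ∈ M24)
    (hpt : ∀ i, i < 4 → g (ptN (baseIdx.getD i 0)) = ptN (baseIdx.getD (img.getD i 0) 0)) :
    ∃ w ∈ words, validTab (mulTab t w) = true ∧ permOf (mulTab t w) = g := by
  have tM := permOf_mem_M24 tv tp
  have tap : ∀ i, i < 4 → permOf t (ptN (baseIdx.getD i 0)) = ptN (baseIdx.getD (img.getD i 0) 0) := by
    intro i hi
    refine idx_injective (Fin.ext ?_)
    have := himg i hi
    rw [Nat.beq_eq] at this
    rw [idx_permOf tv, idx_ptN baseIdx_getD_lt, idx_ptN baseIdx_getD_lt, this]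
  have hch : (permOf t)⁻¹ * g ∈ chain 4 := by
    refine mem_chain.2 ⟨mul_mem (inv_mem tM) hg, fun p hp => ?_⟩
    rw [Equiv.Perm.mul_apply, Equiv.Perm.inv_eq_iff_eq]
    simp only [basePts, baseIdx, List.map_cons, List.map_nil, List.take_succ_cons, List.take_zero,
      List.mem_cons, List.not_mem_nil, or_false] at hp
    rcases hp with rfl | rfl | rfl | rfl
    · exact (hpt 0 (by omega)).trans (tap 0 (by omega)).symm
    · exact (hpt 1 (by omega)).trans (tap 1 (by omega)).symm
    · exact (hpt 2 (by omega)).trans (tap 2 (by omega)).symm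
    · exact (hpt 3 (by omega)).trans (tap 3 (by omega)).symm
  obtain ⟨w, hw, hwv, hwe⟩ := exists_word hch
  obtain ⟨hcv, hce⟩ := mulTab_spec tv hwv
  exact ⟨w, hw, hcv, by rw [hce, hwe, mul_inv_cancel_left]⟩

theorem permOf_rep (b : Bool) :
    validTab (repOf b) = true ∧ permOf (repOf b) ∈ M24 ∧
      permOf (repOf b) * (permOf (repOf b) * permOf (repOf b)) = 1 ∧ permOf (repOf b) ≠ 1 ∧
      (fixSet (permOf (repOf b))).card = bif b then 6 else 0 := by
  have h := List.all_eq_true.1 rep_ok (repOf b) (by cases b <;> simp [repOf])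
  simp only [Bool.and_eq_true, beq_iff_eq, Bool.not_eq_true', beq_eq_false_iff_ne] at h
  obtain ⟨⟨⟨hv, hp⟩, hne⟩, hcube⟩ := h
  refine ⟨hv, permOf_mem_M24 hv hp, ?_, fun h1 => hne (eq_idTab hv h1), ?_⟩
  · obtain ⟨h2v, h2⟩ := mulTab_spec hv hv
    rw [← h2, ← (mulTab_spec hv h2v).2, hcube, permOf_idTab]
  · have h := fixNum_rep
    rw [Bool.and_eq_true, Nat.beq_eq, Nat.beq_eq] at h
    rw [card_fixSet_permOf hv]
    cases b
    · exact h.2
    · exact h.1

/-- Every element of order three is conjugate to one of the representatives. -/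
theorem ord3_conj {g : Equiv.Perm GolayPt} (hg : g ∈ M24) (h : orderOf g = 3) :
    ∃ k ∈ M24, ∃ b : Bool, g = k * permOf (repOf b) * k⁻¹ := by
  have hcube : g * (g * g) = 1 := by
    rw [← pow_two, ← pow_succ', show 2 + 1 = orderOf g from h.symm]; exact pow_orderOf_eq_one g
  have h1 : g ≠ 1 := fun e => by rw [e, orderOf_one] at h; omega
  have g3 : ∀ x, g (g (g x)) = x := fun x => by
    have := DFunLike.congr_fun hcube x
    simpa [Equiv.Perm.mul_apply] using this
  obtain ⟨a, ha⟩ : ∃ a, g a ≠ a := by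
    by_contra hh
    push Not at hh
    exact h1 (Equiv.ext hh)
  obtain ⟨d, hd1, hd2, hd3, hdd⟩ := exists_fourth hg ha (g3 a)
  have e1 : g (g a) ≠ g a := fun e => ha (g.injective e)
  have e2 : g (g a) ≠ a := fun e => by
    have : g a = a := by conv_rhs => rw [← g3 a, e]
    exact ha this
  have inj : Function.Injective (![a, g a, g (g a), d, g d] : Fin 5 → GolayPt) := by
    have f1 : g d ≠ a := fun e => hd3 (g.injective (by rw [g3]; exact e))
    have f2 : g d ≠ g a := fun e => hd1 (g.injective e)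
    have f3 : g d ≠ g (g a) := fun e => hd2 (g.injective e)
    intro i j hij
    fin_cases i <;> fin_cases j <;>
      first
        | rfl
        | exact absurd hij ha | exact absurd hij ha.symm
        | exact absurd hij e1 | exact absurd hij e1.symm
        | exact absurd hij e2 | exact absurd hij e2.symm
        | exact absurd hij hd1 | exact absurd hij hd1.symm
        | exact absurd hij hd2 | exact absurd hij hd2.symm
        | exact absurd hij hd3 | exact absurd hij hd3.symm
        | exact absurd hij hdd | exact absurd hij hdd.symm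
        | exact absurd hij f1 | exact absurd hij f1.symm
        | exact absurd hij f2 | exact absurd hij f2.symm
        | exact absurd hij f3 | exact absurd hij f3.symm
  obtain ⟨m, hm, hmi⟩ := exists_map_tuple (n := 5) le_rfl ![a, g a, g (g a), d, g d]
    ![ptN 23, ptN 0, ptN 2, ptN 4, ptN 5] inj (by decide +kernel)
  have m0 : m a = ptN 23 := hmi 0
  have m1 : m (g a) = ptN 0 := hmi 1
  have m2 : m (g (g a)) = ptN 2 := hmi 2
  have m3 : m d = ptN 4 := hmi 3
  have m4 : m (g d) = ptN 5 := hmi 4
  have conjap : ∀ x y, g x = y → (m * g * m⁻¹) (m x) = m y := fun x y e => by simp [e]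
  have ht := t_ok
  simp only [Bool.and_eq_true, List.all_eq_true, List.mem_range] at ht
  obtain ⟨w, hw, hcv, e'⟩ := word_of (img := [1, 2, 0, 4]) ht.1.1.1.1 ht.1.1.1.2
    (fun i hi => (ht.2 i hi).1) (g := m * g * m⁻¹) (mul_mem (mul_mem hm hg) (inv_mem hm)) fun i hi => by
      match i, hi with
      | 0, _ => exact m0 ▸ m1 ▸ conjap a (g a) rfl
      | 1, _ => exact m1 ▸ m2 ▸ conjap (g a) (g (g a)) rfl
      | 2, _ => exact m2 ▸ m0 ▸ conjap (g (g a)) a (g3 a)
      | 3, _ => exact m3 ▸ m4 ▸ conjap d (g d) rfl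
  have hidem : mulTab (mulTab t3 w) (mulTab (mulTab t3 w) (mulTab t3 w)) = idTab := by
    obtain ⟨hv2, he2⟩ := mulTab_spec hcv hcv
    obtain ⟨hv3, he3⟩ := mulTab_spec hcv hv2
    refine eq_idTab hv3 ?_
    rw [he3, he2, e', show m * g * m⁻¹ * (m * g * m⁻¹ * (m * g * m⁻¹)) = m * (g * (g * g)) * m⁻¹ by
      group, hcube]
    group
  have hd' := List.all_eq_true.1 cand_ok w hw
  rw [Bool.or_eq_true, Bool.not_eq_true', hidem, List.contains_iff_mem] at hd'
  rcases hd' with h' | h'
  · simp at h'
  obtain ⟨⟨cd, k, b⟩, he, hce'⟩ := List.mem_map.1 h'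
  have hok := List.all_eq_true.1 data_ok _ he
  simp only [Bool.and_eq_true, beq_iff_eq] at hok
  obtain ⟨⟨⟨kv, kp⟩, -⟩, keq⟩ := hok
  simp only at hce'
  subst hce'
  have eq1 : m * g * m⁻¹ * permOf k = permOf k * permOf (repOf b) := by
    rw [← e', ← (mulTab_spec hcv kv).2, keq, (mulTab_spec kv (permOf_rep b).1).2]
  refine ⟨m⁻¹ * permOf k, mul_mem (inv_mem hm) (permOf_mem_M24 kv kp), b, ?_⟩
  calc g = m⁻¹ * (m * g * m⁻¹ * permOf k) * (permOf k)⁻¹ * m := by group
    _ = m⁻¹ * (permOf k * permOf (repOf b)) * (permOf k)⁻¹ * m := by rw [eq1]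
    _ = _ := by group

theorem fix_card_cases {g : Equiv.Perm GolayPt} (hg : g ∈ M24) (h : orderOf g = 3) :
    (fixSet g).card = 6 ∨ (fixSet g).card = 0 := by
  obtain ⟨k, -, b, rfl⟩ := ord3_conj hg h
  rw [card_fixSet_conj, (permOf_rep b).2.2.2.2]
  cases b <;> simp

theorem ord3_class {g : Equiv.Perm GolayPt} (hg : g ∈ M24) (h : orderOf g = 3) {b : Bool}
    (hb : (fixSet g).card = bif b then 6 else 0) :
    ∃ k ∈ M24, g = k * permOf (repOf b) * k⁻¹ := by
  obtain ⟨k, hk, c, rfl⟩ := ord3_conj hg h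
  rw [card_fixSet_conj, (permOf_rep c).2.2.2.2] at hb
  have : c = b := by cases b <;> cases c <;> simp at hb ⊢
  exact ⟨k, hk, by rw [this]⟩

/-- An element with six fixed points and order three does not commute with a fixed-point-free
involution. -/
theorem no_six_fpf {x s : Equiv.Perm GolayPt} (hx : x ∈ M24) (hs : s ∈ M24) (h3 : orderOf x = 3)
    (h2 : orderOf s = 2) (hc : Commute x s) (hsf : ∀ p, s p ≠ p) : (fixSet x).card ≠ 6 := by
  intro h6
  have hxxx : x * (x * x) = 1 := by
    rw [← pow_two, ← pow_succ', show 2 + 1 = orderOf x from h3.symm]; exact pow_orderOf_eq_one x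
  have hss : s * s = 1 := by rw [← pow_two, ← h2, pow_orderOf_eq_one]
  -- a fixed point and a moved point of `x`
  obtain ⟨a, ha⟩ := Finset.card_pos.1 (by omega : 0 < (fixSet x).card)
  have hax : x a = a := (Finset.mem_filter.1 ha).2
  obtain ⟨c, hc0⟩ : ∃ c, x c ≠ c := by
    by_contra hh
    push Not at hh
    rw [show x = 1 from Equiv.ext hh, orderOf_one] at h3
    omega
  set y := x * s with hy
  have hxc : ∀ p, x (s p) = s (x p) := fun p => by
    rw [← Equiv.Perm.mul_apply, hc.eq, Equiv.Perm.mul_apply]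
  have hss' : ∀ p, s (s p) = p := fun p => by rw [← Equiv.Perm.mul_apply, hss, Equiv.Perm.one_apply]
  have hx3 : ∀ p, x (x (x p)) = p := fun p => by
    rw [← Equiv.Perm.mul_apply, ← Equiv.Perm.mul_apply, mul_assoc, hxxx, Equiv.Perm.one_apply]
  have y1 : ∀ p, y p = x (s p) := fun p => rfl
  have yy : ∀ p, y (y p) = x (x p) := fun p => by rw [y1, y1, ← hxc, hss']
  have xsa : x (s a) = s a := by rw [hxc, hax]
  have nfix : ∀ p, x p ≠ p → x (s p) ≠ s p := fun p hp e => hp (s.injective (by rw [← hxc]; exact e))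
  have fix_ne : ∀ p q, x p = p → x q ≠ q → p ≠ q := fun p q hp hq e => hq (e ▸ hp)
  have cz : x (x c) ≠ x c := fun e => hc0 (x.injective e)
  have cw : x (x c) ≠ c := fun e => by
    have : x c = c := by conv_rhs => rw [← hx3 c, e]
    exact hc0 this
  have mys : x (y c) ≠ y c := fun e => nfix c hc0 (x.injective e)
  have q1 : y c ≠ c := by
    rw [y1]; intro e
    have e' := congrArg s e
    rw [← hxc, hss'] at e'
    exact cw (by rw [e', e])
  have q2 : y (y c) ≠ y c := by
    rw [yy, y1]; intro e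
    have e' : x c = s c := x.injective e
    have h'' := congrArg s e'
    rw [← hxc, hss', ← e'] at h''
    exact cw h''
  have inj : Function.Injective (![a, s a, c, y c, y (y c)] : Fin 5 → GolayPt) := by
    have f0 : a ≠ s a := (hsf a).symm
    have f1 := fix_ne a c hax hc0
    have f2 := fix_ne (s a) c xsa hc0
    have f3 := fix_ne a (y c) hax mys
    have f4 := fix_ne (s a) (y c) xsa mys
    have mzz : x (y (y c)) ≠ y (y c) := by rw [yy, hx3]; exact cw.symm
    have f5 := fix_ne a (y (y c)) hax mzz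
    have f6 := fix_ne (s a) (y (y c)) xsa mzz
    have f7 : y (y c) ≠ c := by rw [yy]; exact cw
    intro i j hij
    fin_cases i <;> fin_cases j <;>
      first
        | rfl
        | exact absurd hij f0 | exact absurd hij f0.symm
        | exact absurd hij f1 | exact absurd hij f1.symm
        | exact absurd hij f2 | exact absurd hij f2.symm
        | exact absurd hij f3 | exact absurd hij f3.symm
        | exact absurd hij f4 | exact absurd hij f4.symm
        | exact absurd hij f5 | exact absurd hij f5.symm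
        | exact absurd hij f6 | exact absurd hij f6.symm
        | exact absurd hij f7 | exact absurd hij f7.symm
        | exact absurd hij q1 | exact absurd hij q1.symm
        | exact absurd hij q2 | exact absurd hij q2.symm
  obtain ⟨m, hm, hmi⟩ := exists_map_tuple (n := 5) le_rfl ![a, s a, c, y c, y (y c)]
    ![ptN 23, ptN 0, ptN 2, ptN 4, ptN 5] inj (by decide +kernel)
  have m0 : m a = ptN 23 := hmi 0
  have m1 : m (s a) = ptN 0 := hmi 1
  have m2 : m c = ptN 2 := hmi 2
  have m3 : m (y c) = ptN 4 := hmi 3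
  have m4 : m (y (y c)) = ptN 5 := hmi 4
  have conjap : ∀ u v, y u = v → (m * y * m⁻¹) (m u) = m v := fun u v e => by simp [e]
  have ht := t_ok
  simp only [Bool.and_eq_true, List.all_eq_true, List.mem_range] at ht
  have hya : y a = s a := by rw [y1, xsa]
  have hysa : y (s a) = a := by rw [y1, hss', hax]
  obtain ⟨w, hw, hcv, e'⟩ := word_of (img := [1, 0, 3, 4]) ht.1.1.2 ht.1.2
    (fun i hi => (ht.2 i hi).2) (g := m * y * m⁻¹)
    (mul_mem (mul_mem hm (mul_mem hx hs)) (inv_mem hm)) fun i hi => by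
      match i, hi with
      | 0, _ => exact m0 ▸ m1 ▸ conjap a (s a) hya
      | 1, _ => exact m1 ▸ m0 ▸ conjap (s a) a hysa
      | 2, _ => exact m2 ▸ m3 ▸ conjap c (y c) rfl
      | 3, _ => exact m3 ▸ m4 ▸ conjap (y c) (y (y c)) rfl
  obtain ⟨hv2, he2⟩ := mulTab_spec hcv hcv
  obtain ⟨hv3, he3⟩ := mulTab_spec hcv hv2
  obtain ⟨hv6, he6⟩ := mulTab_spec hv3 hv3
  have sx : s * x = x * s := hc.eq.symm
  have hyy : y * y = x * x := by
    rw [hy]; calc x * s * (x * s) = x * (s * x) * s := by group
      _ = x * x * (s * s) := by rw [sx]; group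
      _ = x * x := by rw [hss, mul_one]
  have hyyy : y * (y * y) = s := by
    rw [hyy, hy]; calc x * s * (x * x) = s * x * (x * x) := by rw [sx]
      _ = s * (x * (x * x)) := by group
      _ = s := by rw [hxxx, mul_one]
  have e2 : permOf (mulTab (mulTab t6 w) (mulTab t6 w)) = m * (x * x) * m⁻¹ := by
    rw [he2, e', ← hyy]; group
  have e3 : permOf (mulTab (mulTab t6 w) (mulTab (mulTab t6 w) (mulTab t6 w))) = m * s * m⁻¹ := by
    rw [he3, e2, e', ← hyy]
    calc m * y * m⁻¹ * (m * (y * y) * m⁻¹) = m * (y * (y * y)) * m⁻¹ := by group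
      _ = _ := by rw [hyyy]
  have k1 : mulTab (mulTab (mulTab t6 w) (mulTab (mulTab t6 w) (mulTab t6 w)))
      (mulTab (mulTab t6 w) (mulTab (mulTab t6 w) (mulTab t6 w))) = idTab := by
    refine eq_idTab hv6 ?_
    rw [he6, e3]
    calc m * s * m⁻¹ * (m * s * m⁻¹) = m * (s * s) * m⁻¹ := by group
      _ = 1 := by rw [hss]; group
  have k2 : fixNum (mulTab (mulTab t6 w) (mulTab (mulTab t6 w) (mulTab t6 w))) = 0 := by
    rw [← card_fixSet_permOf hv3, e3, card_fixSet_conj, Finset.card_eq_zero, fixSet,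
      Finset.filter_eq_empty_iff]
    exact fun p _ => hsf p
  have k3 : fixNum (mulTab (mulTab t6 w) (mulTab t6 w)) = 6 := by
    rw [← card_fixSet_permOf hv2, e2, card_fixSet_conj, ← h6]
    refine congrArg Finset.card (Finset.filter_congr fun p _ => ?_)
    rw [Equiv.Perm.mul_apply]
    exact ⟨fun e => ((congrArg x e).symm.trans (hx3 p)), fun e => by rw [e, e]⟩
  have := List.all_eq_true.1 six_ok w hw
  simp only [k1, k2, k3, beq_self_eq_true, Bool.not_eq_true', Bool.and_eq_false_iff] at this
  simp at this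

end CfsgLib.Golay.Ord3
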