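/-
The structure of the stabiliser of an octad: kernel of order sixteen, alternating image, complement.
-/
import Cfsg.Agent.Golay.OctKernel
import Cfsg.Agent.Golay.M24
import Mathlib

set_option autoImplicit false

namespace CfsgLib.Golay.OctStruct

open Cfsg CfsgLib.Golay MulAction
open scoped Pointwise

theorem transl_data : OctStab.transl.length = 16 ∧ (OctStab.transl.map fun t => t.getD 1 0).Nodup ∧
    (OctStab.transl.all fun t => mulTab t t == List.range 24) = true := by decide +kernel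

/-- The elements fixing the reference octad pointwise. -/
noncomputable def transSet : Finset (Equiv.Perm GolayPt) := (OctStab.transl.map permOf).toFinset

theorem mem_transSet {g : Equiv.Perm GolayPt} : g ∈ transSet ↔ g ∈ M24 ∧ ∀ p ∈ OctStab.O, g p = p := by
  rw [transSet, List.mem_toFinset, List.mem_map]
  constructor
  · rintro ⟨t, ht, rfl⟩; exact ⟨(OctStab.transl_mem ht).2.1, (OctStab.transl_mem ht).2.2⟩
  · rintro ⟨hg, hf⟩
    obtain ⟨t, ht, e⟩ := OctStab.eq_transl hg hf
    exact ⟨t, ht, e.symm⟩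

theorem card_transSet : transSet.card = 16 := by
  obtain ⟨hl, hnd, -⟩ := transl_data
  rw [transSet, List.toFinset_card_of_nodup, List.length_map, hl]
  refine List.Nodup.map_on (fun t ht t' ht' e => ?_) hnd.of_map
  refine List.inj_on_of_nodup_map hnd ht ht' ?_
  have h1 := congrArg (fun σ : Equiv.Perm GolayPt => (idx (σ (ptN 1))).val) e
  simp only [idx_permOf (OctStab.transl_mem ht).1, idx_permOf (OctStab.transl_mem ht').1, idx_ptN (show 1 < 24 by omega)] at h1
  exact h1

theorem transSet_sq {g : Equiv.Perm GolayPt} (hg : g ∈ transSet) : g * g = 1 := by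
  rw [transSet, List.mem_toFinset, List.mem_map] at hg
  obtain ⟨t, ht, rfl⟩ := hg
  have hv := (OctStab.transl_mem ht).1
  have h := List.all_eq_true.1 transl_data.2.2 t ht
  rw [beq_iff_eq] at h
  rw [← (mulTab_spec hv hv).2, h]
  have hr : validTab (List.range 24) = true := by decide +kernel
  refine Equiv.ext fun p => idx_injective (Fin.ext ?_)
  rw [idx_permOf hr, List.getD_eq_getElem _ _ (by simp), List.getElem_range]
  rfl

variable {o : Finset GolayPt}

/-- Conjugation to the reference octad. -/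
theorem exists_frame (ho : o ∈ octads) :
    ∃ g, g ∈ M24 ∧ g • OctStab.O = o ∧ ∀ h : Equiv.Perm GolayPt,
      (h ∈ M24 ∧ ∀ p ∈ o, h p = p) ↔ g⁻¹ * h * g ∈ transSet := by
  obtain ⟨g, hg, eg⟩ := exists_map_octad OctStab.O_mem ho
  refine ⟨g, hg, eg, fun h => ?_⟩
  have hmem : ∀ q, q ∈ OctStab.O ↔ g q ∈ o := fun q => by
    rw [← eg]; exact (Finset.smul_mem_smul_finset_iff g).symm
  rw [mem_transSet]
  constructor
  · rintro ⟨hh, hf⟩
    refine ⟨mul_mem (mul_mem (inv_mem hg) hh) hg, fun q hq => ?_⟩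
    rw [Equiv.Perm.mul_apply, Equiv.Perm.mul_apply, hf _ ((hmem q).1 hq)]
    exact g.symm_apply_apply q
  · rintro ⟨hh, hf⟩
    refine ⟨by simpa [mul_assoc] using mul_mem (mul_mem hg hh) (inv_mem hg), fun p hp => ?_⟩
    have := hf (g⁻¹ p) ((hmem _).2 (by rwa [Equiv.Perm.coe_inv, Equiv.apply_symm_apply]))
    simpa [Equiv.Perm.mul_apply] using congrArg g this

/-- The pointwise stabiliser. -/
def kernel (o : Finset GolayPt) : Subgroup (Equiv.Perm GolayPt) :=
  M24 ⊓ fixingSubgroup (Equiv.Perm GolayPt) (o : Set GolayPt)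

theorem mem_kernel {h : Equiv.Perm GolayPt} : h ∈ kernel o ↔ h ∈ M24 ∧ ∀ p ∈ o, h p = p := by
  rw [kernel, Subgroup.mem_inf, mem_fixingSubgroup_iff]
  exact Iff.rfl

theorem card_kernel (ho : o ∈ octads) : Nat.card (kernel o) = 16 := by
  obtain ⟨g, -, -, hg⟩ := exists_frame ho
  rw [← card_transSet, ← Nat.card_eq_finsetCard]
  exact Nat.card_congr
    { toFun := fun h => ⟨g⁻¹ * h.1 * g, (hg _).1 (mem_kernel.1 h.2)⟩
      invFun := fun t => ⟨g * t.1 * g⁻¹, mem_kernel.2 ((hg _).2 (by simp only [mul_assoc, inv_mul_cancel_left, inv_mul_cancel, mul_one]; exact t.2))⟩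
      left_inv := fun h => Subtype.ext (by simp [mul_assoc])
      right_inv := fun t => Subtype.ext (by simp [mul_assoc]) }

theorem kernel_sq (ho : o ∈ octads) {h : Equiv.Perm GolayPt} (hh : h ∈ kernel o) : h * h = 1 := by
  obtain ⟨g, -, -, hg⟩ := exists_frame ho
  have := transSet_sq ((hg _).1 (mem_kernel.1 hh))
  calc h * h = g * ((g⁻¹ * h * g) * (g⁻¹ * h * g)) * g⁻¹ := by group
    _ = 1 := by rw [this]; group

theorem exists_kernel_map (ho : o ∈ octads) {p q : GolayPt} (hp : p ∉ o) (hq : q ∉ o) :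
    ∃ t ∈ kernel o, t p = q := by
  obtain ⟨g, -, eg, hg⟩ := exists_frame ho
  have hout : ∀ {r}, r ∉ o → g⁻¹ r ∉ OctStab.O := fun {r} hr h => hr (by
    rw [← eg, ← Finset.inv_smul_mem_iff]; exact h)
  obtain ⟨a, ha, ea⟩ := OctStab.exists_transl (hout hp)
  obtain ⟨b, hb, eb⟩ := OctStab.exists_transl (hout hq)
  have ht : permOf b * (permOf a)⁻¹ ∈ transSet := by
    rw [mem_transSet]
    obtain ⟨-, a1, a2⟩ := OctStab.transl_mem ha
    obtain ⟨-, b1, b2⟩ := OctStab.transl_mem hb
    refine ⟨mul_mem b1 (inv_mem a1), fun r hr => ?_⟩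
    rw [Equiv.Perm.mul_apply, Equiv.Perm.inv_eq_iff_eq.2 (a2 r hr).symm, b2 r hr]
  refine ⟨g * (permOf b * (permOf a)⁻¹) * g⁻¹, mem_kernel.2 ((hg _).2 (by
    simp only [mul_assoc, inv_mul_cancel_left, inv_mul_cancel, mul_one]; exact ht)), ?_⟩
  rw [Equiv.Perm.mul_apply, Equiv.Perm.mul_apply, Equiv.Perm.mul_apply, ← ea]
  simp [eb]

theorem eq_one_of_fix (ho : o ∈ octads) {h : Equiv.Perm GolayPt} (hh : h ∈ kernel o) {p : GolayPt}
    (hp : p ∉ o) (e : h p = p) : h = 1 := by
  obtain ⟨g, -, eg, hg⟩ := exists_frame ho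
  have hq : g⁻¹ p ∉ OctStab.O := fun h => hp (by rw [← eg, ← Finset.inv_smul_mem_iff]; exact h)
  obtain ⟨a, ha, ea⟩ := OctStab.exists_transl hq
  have hk := (hg _).1 (mem_kernel.1 hh)
  obtain ⟨-, a1, a2⟩ := OctStab.transl_mem ha
  rw [mem_transSet] at hk
  -- moved back to the special point
  have h2 : (permOf a)⁻¹ * (g⁻¹ * h * g) * permOf a ∈ transSet := by
    rw [mem_transSet]
    refine ⟨mul_mem (mul_mem (inv_mem a1) hk.1) a1, fun r hr => ?_⟩
    rw [Equiv.Perm.mul_apply, Equiv.Perm.mul_apply, a2 r hr, hk.2 r hr, Equiv.Perm.inv_eq_iff_eq]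
    exact (a2 r hr).symm
  have hfix : ((permOf a)⁻¹ * (g⁻¹ * h * g) * permOf a) (ptN 1) = ptN 1 := by
    simp only [Equiv.Perm.mul_apply, ea]
    rw [Equiv.Perm.inv_eq_iff_eq, ea]
    simp [e]
  rw [transSet, List.mem_toFinset, List.mem_map] at h2
  obtain ⟨t, ht, et⟩ := h2
  rw [← et] at hfix
  have hone : permOf t = 1 := OctStab.eq_one_of_sep (OctStab.transl_mem ht).2.1 (fx := 1 :: OctStab.inPts)
    (by decide) (by decide) OctStab.sep_inPts fun b hb => by
      rcases List.mem_cons.1 hb with rfl | hb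
      · exact hfix
      · exact (OctStab.transl_mem ht).2.2 _ (OctStab.mem_inPts.2 (by rwa [idx_ptN ((by decide : ∀ i ∈ OctStab.inPts, i < 24) b hb)]))
  rw [hone] at et
  calc h = g * (permOf a * ((permOf a)⁻¹ * (g⁻¹ * h * g) * permOf a) * (permOf a)⁻¹) * g⁻¹ := by group
    _ = 1 := by rw [← et]; group

/-- The setwise stabiliser. -/
def octGroup (o : Finset GolayPt) : Subgroup (Equiv.Perm GolayPt) :=
  M24 ⊓ stabilizer (Equiv.Perm GolayPt) o

theorem mem_iff_of_fix {g : Equiv.Perm GolayPt} (hg : g • o = o) (x : GolayPt) : g x ∈ o ↔ x ∈ o := by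
  conv_lhs => rw [← hg]
  exact Finset.smul_mem_smul_finset_iff g

theorem card_octGroup (ho : o ∈ octads) : Nat.card (octGroup o) = 322560 := by
  have horb : orbit M24 o = octads := Set.ext fun u => ⟨fun ⟨g, e⟩ => e ▸ smul_mem_octads g.2 ho, fun hu => by
    obtain ⟨g, hg, e⟩ := exists_map_octad ho hu
    exact ⟨⟨g, hg⟩, e⟩⟩
  have h := card_eq_mul_of_orbit M24 o octads horb
  rw [card_M24, ncard_octads] at h
  show Nat.card ↥(M24 ⊓ stabilizer (Equiv.Perm GolayPt) o) = _
  omega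

/-- Restriction to the octad. -/
def restrict (o : Finset GolayPt) : octGroup o →* Equiv.Perm o where
  toFun g := (g : Equiv.Perm GolayPt).subtypePerm fun x => mem_iff_of_fix g.2.2 x
  map_one' := by ext x; rfl
  map_mul' g h := by ext x; rfl

theorem range_restrict (ho : o ∈ octads) : (restrict o).range = alternatingGroup o := by
  have hk : (restrict o).ker = (kernel o).subgroupOf (octGroup o) := by
    ext g
    rw [MonoidHom.mem_ker, Subgroup.mem_subgroupOf, mem_kernel]
    refine ⟨fun h => ⟨g.2.1, fun p hp => ?_⟩, fun h => ?_⟩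
    · exact congrArg (fun e : Equiv.Perm o => (e ⟨p, hp⟩ : GolayPt)) h
    · exact Equiv.ext fun x => Subtype.ext (h.2 x.1 x.2)
  have hle : kernel o ≤ octGroup o := fun g hg => ⟨(mem_kernel.1 hg).1, by
    show g • o = o
    refine Finset.eq_of_subset_of_card_le (fun x hx => ?_) (Finset.card_smul_finset g o).ge
    obtain ⟨y, hy, rfl⟩ := Finset.mem_smul_finset.1 hx
    rw [Equiv.Perm.smul_def, (mem_kernel.1 hg).2 y hy]; exact hy⟩
  have h1 := Subgroup.card_mul_index (restrict o).ker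
  rw [Subgroup.index_ker, hk, Nat.card_congr (Subgroup.subgroupOfEquivOfLe hle).toEquiv, card_kernel ho, card_octGroup ho] at h1
  have h2 := (restrict o).range.card_mul_index
  rw [Nat.card_perm (α := o), Nat.card_eq_finsetCard, card_of_mem_octads ho] at h2
  refine Equiv.Perm.eq_alternatingGroup_of_index_eq_two ?_
  have h8 : Nat.factorial 8 = 40320 := by decide +kernel
  rw [h8, show Nat.card (restrict o).range = 20160 by omega] at h2
  omega

theorem induced_alternating (ho : o ∈ octads) :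
    {e : Equiv.Perm o | ∃ g : Equiv.Perm GolayPt, g ∈ M24 ∧ ∃ h : (∀ x, g x ∈ o ↔ x ∈ o), g.subtypePerm h = e} =
      (alternatingGroup o : Set (Equiv.Perm o)) := by
  rw [← range_restrict ho]
  ext e
  constructor
  · rintro ⟨g, hg, h, rfl⟩
    refine ⟨⟨g, hg, ?_⟩, rfl⟩
    show g • o = o
    refine Finset.eq_of_subset_of_card_le (fun x hx => ?_) (Finset.card_smul_finset g o).ge
    obtain ⟨y, hy, rfl⟩ := Finset.mem_smul_finset.1 hx
    exact (h y).2 hy
  · rintro ⟨g, rfl⟩
    exact ⟨g.1, g.2.1, fun x => mem_iff_of_fix g.2.2 x, rfl⟩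

theorem complement (ho : o ∈ octads) {p : GolayPt} (hp : p ∉ o) :
    kernel o ⊓ (octGroup o ⊓ stabilizer (Equiv.Perm GolayPt) p) = ⊥ ∧
    kernel o ⊔ (octGroup o ⊓ stabilizer (Equiv.Perm GolayPt) p) = octGroup o ∧
    Nonempty (↥(octGroup o ⊓ stabilizer (Equiv.Perm GolayPt) p) ≃* alternatingGroup (Fin 8)) := by
  have hle : kernel o ≤ octGroup o := fun g hg => ⟨(mem_kernel.1 hg).1, by
    show g • o = o
    refine Finset.eq_of_subset_of_card_le (fun x hx => ?_) (Finset.card_smul_finset g o).ge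
    obtain ⟨y, hy, rfl⟩ := Finset.mem_smul_finset.1 hx
    rw [Equiv.Perm.smul_def, (mem_kernel.1 hg).2 y hy]; exact hy⟩
  have hfactor : ∀ g ∈ octGroup o, ∃ t ∈ kernel o, t⁻¹ * g ∈ octGroup o ⊓ stabilizer (Equiv.Perm GolayPt) p := by
    intro g hg
    have hgp : g p ∉ o := fun h => hp ((mem_iff_of_fix hg.2 p).1 h)
    obtain ⟨t, ht, e⟩ := exists_kernel_map ho hp hgp
    refine ⟨t, ht, (octGroup o).mul_mem ((octGroup o).inv_mem (hle ht)) hg, ?_⟩
    show (t⁻¹ * g) p = p
    rw [Equiv.Perm.mul_apply, Equiv.Perm.inv_eq_iff_eq, e]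
  refine ⟨(Subgroup.eq_bot_iff_forall _).2 fun g hg => eq_one_of_fix ho hg.1 hp hg.2.2, ?_, ?_⟩
  · refine le_antisymm (sup_le hle inf_le_left) fun g hg => ?_
    obtain ⟨t, ht, hj⟩ := hfactor g hg
    rw [show g = t * (t⁻¹ * g) by group]
    exact Subgroup.mul_mem_sup ht hj
  · let ψ : ↥(octGroup o ⊓ stabilizer (Equiv.Perm GolayPt) p) →* alternatingGroup o :=
      ((restrict o).comp (Subgroup.inclusion inf_le_left)).codRestrict (alternatingGroup o) fun g =>
        range_restrict ho ▸ ⟨_, rfl⟩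
    have hψ : Function.Bijective ψ := by
      constructor
      · rw [← MonoidHom.ker_eq_bot_iff, Subgroup.eq_bot_iff_forall]
        intro g hg
        refine Subtype.ext (eq_one_of_fix ho (mem_kernel.2 ⟨g.2.1.1, fun x hx => ?_⟩) hp g.2.2)
        exact congrArg (fun e : alternatingGroup o => ((e : Equiv.Perm o) ⟨x, hx⟩ : GolayPt)) hg
      · rintro ⟨e, he⟩
        rw [← range_restrict ho] at he
        obtain ⟨g, rfl⟩ := he
        obtain ⟨t, ht, hj⟩ := hfactor g g.2
        refine ⟨⟨_, hj⟩, Subtype.ext (Equiv.ext fun x => Subtype.ext ?_)⟩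
        show (t⁻¹ * g.1) x = g.1 x
        rw [Equiv.Perm.mul_apply, Equiv.Perm.inv_eq_iff_eq,
          (mem_kernel.1 ht).2 _ ((mem_iff_of_fix g.2.2 x).2 x.2)]
    exact ⟨(MulEquiv.ofBijective ψ hψ).trans
      (Equiv.altCongrHom (Fintype.equivFinOfCardEq (by rw [Fintype.card_coe]; exact card_of_mem_octads ho)))⟩

end CfsgLib.Golay.OctStruct
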