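/-
Sextets: every tetrad extends uniquely to a sextet, and there are 1771 of them.
-/
import Cfsg.Agent.Golay.M24
import Cfsg.Prelude.Def_SporadicCombinatorics

set_option autoImplicit false

namespace CfsgLib.Golay

open Cfsg
open scoped Pointwise

/-- The symmetric difference of two code supports is a code support. -/
theorem symmDiff_mem_supports {s t : Finset GolayPt}
    (hs : s ∈ supports (golayCode : Set (GolayPt → ZMod 2)))
    (ht : t ∈ supports (golayCode : Set (GolayPt → ZMod 2))) :
    symmDiff s t ∈ supports (golayCode : Set (GolayPt → ZMod 2)) := by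
  rw [mem_supports_iff] at hs ht ⊢
  rw [mask_symmDiff]
  exact inCode_xor hs ht

theorem octad_mem_supports {o : Finset GolayPt} (ho : o ∈ octads) :
    o ∈ supports (golayCode : Set (GolayPt → ZMod 2)) := ho.1

theorem card_symmDiff_le (s t : Finset GolayPt) :
    (symmDiff s t).card + 2 * (s ∩ t).card = s.card + t.card := by
  have hd : Disjoint (s \ t) (t \ s) := disjoint_sdiff_sdiff
  rw [symmDiff_def, Finset.sup_eq_union, Finset.card_union_of_disjoint hd]
  have h1 := Finset.card_sdiff_add_card_inter s t
  have h2 := Finset.card_sdiff_add_card_inter t s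
  rw [Finset.inter_comm t s] at h2
  omega

/-- Two small sets in the same coset are equal or are complementary tetrads of an octad. -/
theorem small_pair {s t : Finset GolayPt} (hs : s.card ≤ 4) (ht : t.card ≤ 4) (hne : s ≠ t)
    (h : symmDiff s t ∈ supports (golayCode : Set (GolayPt → ZMod 2))) :
    s.card = 4 ∧ t.card = 4 ∧ Disjoint s t ∧ s ∪ t ∈ octads := by
  have hc := card_symmDiff_le s t
  have hne0 : (symmDiff s t).card ≠ 0 := by
    rw [Ne, Finset.card_eq_zero]
    exact fun e => hne (symmDiff_eq_bot.1 e)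
  have h8 : (symmDiff s t).card = 8 := by
    rcases support_card_cases (mem_supports_iff.1 h) with e | e | e | e | e <;> omega
  have hd : Disjoint s t := by
    rw [Finset.disjoint_iff_inter_eq_empty, ← Finset.card_eq_zero]; omega
  refine ⟨by omega, by omega, hd, ?_⟩
  rw [hd.symmDiff_eq_sup] at h h8
  exact ⟨h, h8⟩

open scoped Classical in
/-- The octads containing a set, as a finset. -/
noncomputable def octsThrough (t : Finset GolayPt) : Finset (Finset GolayPt) :=
  Finset.univ.filter fun o => o ∈ octads ∧ t ⊆ o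

theorem mem_octsThrough {t o : Finset GolayPt} :
    o ∈ octsThrough t ↔ o ∈ octads ∧ t ⊆ o := by simp [octsThrough]

theorem tetrad_extend {t : Finset GolayPt} (ht : t.card = 4) {p : GolayPt} (hp : p ∉ t) :
    ∃ o ∈ octsThrough t, p ∈ o \ t := by
  obtain ⟨o, ho, hso⟩ := exists_octad (s := insert p t) (by rw [Finset.card_insert_of_notMem hp, ht])
  rw [Finset.insert_subset_iff] at hso
  exact ⟨o, mem_octsThrough.2 ⟨ho, hso.2⟩, Finset.mem_sdiff.2 ⟨hso.1, hp⟩⟩

theorem octs_disjoint {t : Finset GolayPt} (ht : t.card = 4) {o o' : Finset GolayPt}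
    (ho : o ∈ octsThrough t) (ho' : o' ∈ octsThrough t) (hne : o ≠ o') :
    Disjoint (o \ t) (o' \ t) := by
  rw [mem_octsThrough] at ho ho'
  refine Finset.disjoint_left.2 fun p hp hp' => hne ?_
  rw [Finset.mem_sdiff] at hp hp'
  exact octad_unique ho.1 ho'.1 (s := insert p t) (by rw [Finset.card_insert_of_notMem hp.2, ht])
    (Finset.insert_subset hp.1 ho.2) (Finset.insert_subset hp'.1 ho'.2)

theorem card_sdiff_oct {t o : Finset GolayPt} (ht : t.card = 4) (ho : o ∈ octsThrough t) :
    (o \ t).card = 4 := by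
  rw [mem_octsThrough] at ho
  rw [Finset.card_sdiff_of_subset ho.2, card_of_mem_octads ho.1, ht]

/-- A tetrad lies in exactly five octads. -/
theorem card_octsThrough {t : Finset GolayPt} (ht : t.card = 4) : (octsThrough t).card = 5 := by
  classical
  have h : (octsThrough t).biUnion (· \ t) = tᶜ := by
    ext p
    simp only [Finset.mem_biUnion, Finset.mem_compl]
    refine ⟨?_, fun hp => tetrad_extend ht hp⟩
    rintro ⟨o, -, hp⟩
    exact (Finset.mem_sdiff.1 hp).2
  have hc := congrArg Finset.card h
  rw [Finset.card_biUnion (fun o ho o' ho' hne => octs_disjoint ht ho ho' hne),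
    Finset.sum_congr rfl (fun o ho => card_sdiff_oct ht ho), Finset.sum_const, smul_eq_mul,
    Finset.card_compl, card_pt, ht] at hc
  omega

/-- The sextet of a tetrad. -/
noncomputable def sextetOf (t : Finset GolayPt) : Finset (Finset GolayPt) :=
  insert t ((octsThrough t).image (· \ t))

theorem self_mem_sextetOf (t : Finset GolayPt) : t ∈ sextetOf t := Finset.mem_insert_self _ _

theorem sdiff_injOn {t : Finset GolayPt} :
    Set.InjOn (fun o => o \ t) (octsThrough t : Set (Finset GolayPt)) := by
  intro o ho o' ho' h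
  rw [← Finset.sdiff_union_of_subset (mem_octsThrough.1 ho).2,
    ← Finset.sdiff_union_of_subset (mem_octsThrough.1 ho').2]
  exact congrArg (· ∪ t) h

/-- The members of the sextet are the tetrads in the coset of `t`. -/
theorem mem_sextetOf {t u : Finset GolayPt} (ht : t.card = 4) :
    u ∈ sextetOf t ↔ u.card ≤ 4 ∧ symmDiff t u ∈ supports (golayCode : Set (GolayPt → ZMod 2)) := by
  rw [sextetOf, Finset.mem_insert, Finset.mem_image]
  constructor
  · rintro (rfl | ⟨o, ho, rfl⟩)
    · refine ⟨ht.le, ?_⟩
      rw [symmDiff_self, mem_supports_iff, Finset.bot_eq_empty, mask_empty]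
      rfl
    · refine ⟨(card_sdiff_oct ht ho).le, ?_⟩
      rw [Finset.disjoint_sdiff.symmDiff_eq_sup, Finset.sup_eq_union,
        Finset.union_sdiff_of_subset (mem_octsThrough.1 ho).2]
      exact octad_mem_supports (mem_octsThrough.1 ho).1
  · rintro ⟨hu, h⟩
    by_cases e : u = t
    · exact Or.inl e
    · obtain ⟨-, -, hd, ho⟩ := small_pair ht.le hu (Ne.symm e) h
      refine Or.inr ⟨t ∪ u, mem_octsThrough.2 ⟨ho, Finset.subset_union_left⟩, ?_⟩
      exact Finset.union_sdiff_cancel_left hd

theorem card_of_mem_sextetOf {t u : Finset GolayPt} (ht : t.card = 4) (hu : u ∈ sextetOf t) :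
    u.card = 4 := by
  obtain ⟨hu4, h⟩ := (mem_sextetOf ht).1 hu
  by_cases e : t = u
  · exact e ▸ ht
  · exact (small_pair ht.le hu4 e h).2.1

theorem card_sextetOf {t : Finset GolayPt} (ht : t.card = 4) : (sextetOf t).card = 6 := by
  rw [sextetOf, Finset.card_insert_of_notMem, Finset.card_image_of_injOn sdiff_injOn,
    card_octsThrough ht]
  intro h
  obtain ⟨o, -, e⟩ := Finset.mem_image.1 h
  have := congrArg (fun x => (x ∩ t).card) e
  simp [ht, Finset.sdiff_inter_self] at this

theorem sextetOf_mem {t : Finset GolayPt} (ht : t.card = 4) : sextetOf t ∈ sextets := by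
  refine ⟨card_sextetOf ht, fun u hu => card_of_mem_sextetOf ht hu, fun u hu v hv hne => ?_⟩
  have h := symmDiff_mem_supports ((mem_sextetOf ht).1 hu).2 ((mem_sextetOf ht).1 hv).2
  rw [symmDiff_symmDiff_symmDiff_comm, symmDiff_self, bot_symmDiff] at h
  exact (small_pair (card_of_mem_sextetOf ht hu).le (card_of_mem_sextetOf ht hv).le hne h).2.2.2

theorem sextet_disjoint {S : Finset (Finset GolayPt)} (hS : S ∈ sextets) {t u : Finset GolayPt}
    (ht : t ∈ S) (hu : u ∈ S) (hne : t ≠ u) : Disjoint t u := by
  have := card_of_mem_octads (hS.2.2 t ht u hu hne)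
  rw [← Finset.card_union_eq_card_add_card, this, hS.2.1 t ht, hS.2.1 u hu]

/-- A sextet is determined by any of its tetrads. -/
theorem eq_sextetOf {S : Finset (Finset GolayPt)} (hS : S ∈ sextets) {t : Finset GolayPt}
    (ht : t ∈ S) : S = sextetOf t := by
  have ht4 := hS.2.1 t ht
  refine Finset.eq_of_subset_of_card_le (fun u hu => ?_) (by rw [card_sextetOf ht4, hS.1])
  by_cases e : u = t
  · exact e ▸ self_mem_sextetOf t
  · refine (mem_sextetOf ht4).2 ⟨(hS.2.1 u hu).le, ?_⟩
    rw [(sextet_disjoint hS ht hu (Ne.symm e)).symmDiff_eq_sup, Finset.sup_eq_union]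
    exact octad_mem_supports (hS.2.2 t ht u hu (Ne.symm e))

theorem existsUnique_sextet {t : Finset GolayPt} (ht : t.card = 4) :
    ∃! S : Finset (Finset GolayPt), S ∈ sextets ∧ t ∈ S :=
  ⟨sextetOf t, ⟨sextetOf_mem ht, self_mem_sextetOf t⟩, fun _ h => eq_sextetOf h.1 h.2⟩

theorem sextet_cover {S : Finset (Finset GolayPt)} (hS : S ∈ sextets) (p : GolayPt) :
    ∃ t ∈ S, p ∈ t := by
  have hc : (S.biUnion fun u => u).card = 24 := by
    rw [Finset.card_biUnion (fun t ht u hu hne => sextet_disjoint hS ht hu hne),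
      Finset.sum_congr rfl (fun t ht => hS.2.1 t ht), Finset.sum_const, smul_eq_mul, hS.1]
  have : p ∈ S.biUnion fun u => u := by
    rw [Finset.eq_univ_of_card _ (hc.trans card_pt.symm)]; exact Finset.mem_univ _
  simpa using this

theorem sextets_eq_image :
    sextets = sextetOf '' ↑((Finset.univ : Finset GolayPt).powersetCard 4) := by
  ext S
  constructor
  · intro hS
    obtain ⟨t, ht⟩ := Finset.card_pos.1 (by rw [hS.1]; omega : 0 < S.card)
    exact ⟨t, by simp [hS.2.1 t ht], (eq_sextetOf hS ht).symm⟩
  · rintro ⟨t, ht, rfl⟩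
    exact sextetOf_mem (by simpa using ht)

theorem ncard_sextets : sextets.ncard = 1771 := by
  classical
  rw [sextets_eq_image, ← Finset.coe_image, Set.ncard_coe_finset]
  set P := (Finset.univ : Finset GolayPt).powersetCard 4 with hP
  have hfib : ∀ S ∈ P.image sextetOf, (P.filter fun t => sextetOf t = S).card = 6 := by
    intro S hS
    obtain ⟨t, ht, rfl⟩ := Finset.mem_image.1 hS
    have ht4 : t.card = 4 := (Finset.mem_powersetCard.1 ht).2
    convert card_sextetOf ht4 using 2
    ext u
    simp only [Finset.mem_filter, hP, Finset.mem_powersetCard, Finset.subset_univ, true_and]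
    constructor
    · rintro ⟨-, e⟩; exact e ▸ self_mem_sextetOf u
    · exact fun hu => ⟨card_of_mem_sextetOf ht4 hu, (eq_sextetOf (sextetOf_mem ht4) hu).symm⟩
  have hPc : P.card = 10626 := by
    rw [hP, Finset.card_powersetCard, Finset.card_univ, card_pt]; decide +kernel
  have h := Finset.card_eq_sum_card_image sextetOf P
  rw [Finset.sum_congr rfl hfib, Finset.sum_const, smul_eq_mul, hPc] at h
  omega

end CfsgLib.Golay
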