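/-
An extended invariant counting the octads that contain two families.
-/
import Cfsg.Agent.Golay.Suborb

set_option autoImplicit false

namespace CfsgLib.Golay.Suborb

open Cfsg
open scoped Pointwise

/-- Number of octads containing all members of both families. -/
noncomputable def extCount (A B : Fam) : ℕ :=
  {o : Finset GolayPt | o ∈ octads ∧ ∀ a ∈ A ∪ B, a ⊆ o}.ncard

/-- The extended invariant. -/
noncomputable def inv2 (A B : Fam) : ℕ := crossInv A B + 1000 * extCount A B

/-- Evaluation of the extended invariant. -/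
def inv2L (a b : List ℕ) : ℕ :=
  crossL a b + 1000 * (octList.filter fun o => (a ++ b).all fun x => Nat.beq (x &&& o) x).length

theorem inv2_smul {σ : Equiv.Perm GolayPt} (hσ : σ ∈ M24) (A B : Fam) :
    inv2 (σ • A) (σ • B) = inv2 A B := by
  rw [inv2, inv2, crossInv_smul]
  congr 2
  rw [extCount, extCount, ← Set.ncard_image_of_injective
    {o : Finset GolayPt | o ∈ octads ∧ ∀ a ∈ A ∪ B, a ⊆ o} (MulAction.injective σ)]
  congr 1
  ext o
  simp only [Set.mem_ofPred_eq, Set.mem_image, ← Finset.smul_finset_union]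
  constructor
  · rintro ⟨ho, h⟩
    refine ⟨σ⁻¹ • o, ⟨smul_mem_octads (inv_mem hσ) ho, fun a ha => ?_⟩, smul_inv_smul σ o⟩
    rw [Finset.subset_smul_finset_iff, inv_inv]
    exact h _ (Finset.smul_mem_smul_finset ha)
  · rintro ⟨u, ⟨hu, h⟩, rfl⟩
    refine ⟨smul_mem_octads hσ hu, fun a ha => ?_⟩
    obtain ⟨a', ha', rfl⟩ := Finset.mem_smul_finset.1 ha
    exact Finset.smul_finset_subset_smul_finset_iff.2 (h a' ha')

theorem inv2_fam {a b : List ℕ} (ha : goodRep a = true) (hb : goodRep b = true) :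
    inv2 (fam a) (fam b) = inv2L a b := by
  rw [inv2, inv2L, crossInv_fam ha hb]
  congr 2
  refine ncard_eq_filter (k := 8) (P := fun o => ∀ x ∈ fam a ∪ fam b, x ⊆ o) _ fun o => ?_
  simp only [List.all_eq_true, Nat.beq_eq, List.mem_append, Finset.mem_union, fam, List.mem_toFinset,
    List.mem_map]
  constructor
  · intro h x hx
    have hlt : x < 2 ^ 24 := hx.elim ((goodRep_spec a ha).2 x) ((goodRep_spec b hb).2 x)
    have := h (toSet x) (hx.imp (fun h => ⟨x, h, rfl⟩) (fun h => ⟨x, h, rfl⟩))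
    rwa [subset_iff_mask, mask_toSet hlt] at this
  · rintro h _ (⟨x, hx, rfl⟩ | ⟨x, hx, rfl⟩)
    · rw [subset_iff_mask, mask_toSet ((goodRep_spec a ha).2 x hx)]; exact h x (Or.inl hx)
    · rw [subset_iff_mask, mask_toSet ((goodRep_spec b hb).2 x hx)]; exact h x (Or.inr hx)

end CfsgLib.Golay.Suborb
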