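/-
Trios: the third octad, the count, and the fifteen trios through an octad.
-/
import Cfsg.Agent.Golay.OctKernel
import Cfsg.Prelude.Def_SporadicCombinatorics

set_option autoImplicit false
set_option maxRecDepth 20000

namespace CfsgLib.Golay

open Cfsg
open scoped Pointwise

/-- Two disjoint octads leave an octad. -/
theorem trio_third {o o' : Finset GolayPt} (ho : o ∈ octads) (ho' : o' ∈ octads) (h : Disjoint o o') :
    (o ∪ o')ᶜ ∈ octads := by
  refine mem_wordsOfWeight_iff.2 ⟨?_, ?_⟩
  · rw [mask_compl, show o ∪ o' = symmDiff o o' from (h.symmDiff_eq_sup).symm, mask_symmDiff]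
    exact inCode_xor (inCode_xor (mem_wordsOfWeight_iff.1 ho).1 (mem_wordsOfWeight_iff.1 ho').1)
      (by decide +kernel)
  · rw [Finset.card_compl, card_pt, Finset.card_union_of_disjoint h, card_of_mem_octads ho,
      card_of_mem_octads ho']

/-- The trio of two disjoint octads. -/
def mkTrio (o o' : Finset GolayPt) : Finset (Finset GolayPt) := {o, o', (o ∪ o')ᶜ}

theorem trio_cards {o o' : Finset GolayPt} (ho : o ∈ octads) (ho' : o' ∈ octads) (h : Disjoint o o') :
    o ≠ o' ∧ o ≠ (o ∪ o')ᶜ ∧ o' ≠ (o ∪ o')ᶜ := by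
  have key : ∀ u : Finset GolayPt, u ∈ octads → ¬ Disjoint u u := by
    intro u hu hd
    rw [disjoint_self, Finset.bot_eq_empty] at hd
    have := card_of_mem_octads hu
    simp [hd] at this
  refine ⟨fun e => key o ho (e ▸ h), fun e => key o ho ?_, fun e => key o' ho' ?_⟩
  · exact Disjoint.mono_right Finset.subset_union_left (by rw [disjoint_comm]; conv_rhs => rw [e]
                                                           exact disjoint_compl_right)
  · exact Disjoint.mono_right Finset.subset_union_right (by rw [disjoint_comm]; conv_rhs => rw [e]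
                                                            exact disjoint_compl_right)

theorem mkTrio_mem {o o' : Finset GolayPt} (ho : o ∈ octads) (ho' : o' ∈ octads) (h : Disjoint o o') :
    mkTrio o o' ∈ trios := by
  obtain ⟨h1, h2, h3⟩ := trio_cards ho ho' h
  refine ⟨Finset.card_eq_three.2 ⟨_, _, _, h1, h2, h3, rfl⟩, fun u hu => ?_, fun u hu v hv hne => ?_⟩
  · simp only [mkTrio, Finset.mem_insert, Finset.mem_singleton] at hu
    rcases hu with rfl | rfl | rfl
    exacts [ho, ho', trio_third ho ho' h]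
  · have a : Disjoint o (o ∪ o')ᶜ := disjoint_compl_right.mono_left Finset.subset_union_left
    have b : Disjoint o' (o ∪ o')ᶜ := disjoint_compl_right.mono_left Finset.subset_union_right
    simp only [mkTrio, Finset.mem_insert, Finset.mem_singleton] at hu hv
    rcases hu with rfl | rfl | rfl <;> rcases hv with rfl | rfl | rfl <;>
      first | exact (hne rfl).elim | assumption | exact h.symm | exact a.symm | exact b.symm

/-- A trio is determined by two of its octads. -/
theorem eq_mkTrio {T : Finset (Finset GolayPt)} (hT : T ∈ trios) {o o' : Finset GolayPt}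
    (ho : o ∈ T) (ho' : o' ∈ T) (hne : o ≠ o') : T = mkTrio o o' := by
  obtain ⟨u, v, w, huv, huw, hvw, e⟩ := Finset.card_eq_three.1 hT.1
  obtain ⟨o'', ho'', h1, h2⟩ : ∃ o'' ∈ T, o'' ≠ o ∧ o'' ≠ o' := by
    have hc : ((T.erase o).erase o').card = 1 := by
      rw [Finset.card_erase_of_mem (Finset.mem_erase.2 ⟨hne.symm, ho'⟩), Finset.card_erase_of_mem ho, hT.1]
    obtain ⟨x, hx⟩ := Finset.card_eq_one.1 hc
    have hm : x ∈ (T.erase o).erase o' := by rw [hx]; exact Finset.mem_singleton_self x
    simp only [Finset.mem_erase] at hm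
    exact ⟨x, hm.2.2, hm.2.1, hm.1⟩
  have d := hT.2.2
  have hsub : o'' ⊆ (o ∪ o')ᶜ := fun p hp => by
    rw [Finset.mem_compl, Finset.mem_union, not_or]
    exact ⟨Finset.disjoint_left.1 (d o'' ho'' o ho h1) hp, Finset.disjoint_left.1 (d o'' ho'' o' ho' h2) hp⟩
  have e3 : o'' = (o ∪ o')ᶜ := Finset.eq_of_subset_of_card_le hsub (by
    rw [card_of_mem_octads (hT.2.1 _ ho''),
      card_of_mem_octads (trio_third (hT.2.1 o ho) (hT.2.1 o' ho') (d o ho o' ho' hne))])
  refine (Finset.eq_of_subset_of_card_le (fun u hu => ?_) ?_).symm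
  · simp only [mkTrio, Finset.mem_insert, Finset.mem_singleton] at hu
    rcases hu with rfl | rfl | rfl
    exacts [ho, ho', e3 ▸ ho'']
  · rw [hT.1, mkTrio, Finset.card_eq_three.2 ⟨_, _, _, hne, e3 ▸ h1.symm, e3 ▸ h2.symm, rfl⟩]

theorem exists_other {T : Finset (Finset GolayPt)} (hT : T ∈ trios) {o : Finset GolayPt}
    (ho : o ∈ T) : ∃ o' ∈ T, o' ≠ o :=
  Finset.exists_mem_ne (by rw [hT.1]; omega) o

theorem smul_mkTrio {g : Equiv.Perm GolayPt} (o o' : Finset GolayPt) :
    g • mkTrio o o' = mkTrio (g • o) (g • o') := by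
  have hc : g • (o ∪ o')ᶜ = (g • o ∪ g • o')ᶜ := by
    ext p
    rw [Finset.mem_compl, ← Finset.smul_finset_union, ← Finset.inv_smul_mem_iff,
      ← Finset.inv_smul_mem_iff, Finset.mem_compl]
  simp only [mkTrio, Finset.smul_finset_insert, Finset.smul_finset_singleton, hc]

theorem smul_mem_trios {g : Equiv.Perm GolayPt} (hg : g ∈ M24) {T : Finset (Finset GolayPt)}
    (hT : T ∈ trios) : g • T ∈ trios := by
  obtain ⟨o, ho⟩ := Finset.card_pos.1 (by rw [hT.1]; omega : 0 < T.card)
  obtain ⟨o', ho', hne⟩ := exists_other hT ho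
  rw [eq_mkTrio hT ho ho' hne.symm, smul_mkTrio]
  exact mkTrio_mem (smul_mem_octads hg (hT.2.1 o ho)) (smul_mem_octads hg (hT.2.1 o' ho'))
    (Finset.disjoint_iff_inter_eq_empty.2 (by
      rw [← Finset.smul_finset_inter, Finset.disjoint_iff_inter_eq_empty.1 (hT.2.2 o ho o' ho' hne.symm),
        Finset.smul_finset_empty]))

namespace OctStab

/-- Generators fixing the reference octad and a disjoint one. -/
def gensTrio : List (List ℕ) :=
  [[5, 19, 4, 3, 0, 6, 23, 8, 17, 7, 10, 2, 14, 13, 22, 1, 15, 18, 20, 12, 21, 9, 16, 11],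
   [2, 22, 10, 9, 11, 4, 5, 8, 7, 18, 23, 6, 13, 12, 14, 19, 16, 17, 20, 1, 3, 21, 15, 0],
   [2, 14, 10, 3, 4, 11, 0, 20, 17, 21, 23, 6, 13, 1, 22, 19, 16, 7, 8, 12, 9, 18, 15, 5],
   [0, 19, 23, 21, 4, 6, 11, 17, 3, 8, 5, 10, 22, 12, 1, 13, 14, 7, 18, 16, 20, 9, 15, 2],
   [4, 19, 11, 17, 0, 2, 6, 18, 9, 7, 10, 23, 12, 16, 14, 1, 13, 20, 8, 22, 21, 3, 15, 5]]

/-- Orbit tree of the other disjoint octads. -/
def treeTrio : OrbTree :=
  (.node 0 (.node 0 (.node 1 .nil (.node 2 .nil .nil)) (.node 2 .nil (.node 3 (.node 0 .nil .nil) (.node 4 (.node 2 .nil (.node 3 .nil .nil)) .nil)))) (.node 1 (.node 0 (.node 4 .nil .nil) (.node 3 .nil (.node 4 .nil .nil))) (.node 2 (.node 0 .nil (.node 4 (.node 0 .nil .nil) .nil)) (.node 3 (.node 0 (.node 0 .nil .nil) (.node 1 .nil (.node 3 .nil .nil))) (.node 4 (.node 0 .nil (.node 1 .nil .nil)) .nil)))))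

theorem gensTrio_ok : gensOk gensTrio [octO, 4845570] = true := by decide +kernel

theorem okTrio : orbitOk gensTrio treeTrio 7221256 (disjList.filter fun v =>
    !Nat.beq v 4845570 && !Nat.beq v (16777215 ^^^ (octO ||| 4845570))) = true := by decide +kernel

/-- Masks of the trios through the reference octad. -/
def trioKeys : Finset (Finset ℕ) :=
  (disjList.map fun v => ({octO, v, 16777215 ^^^ (octO ||| v)} : Finset ℕ)).toFinset

theorem card_trioKeys : trioKeys.card = 15 := by decide +kernel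

/-- The first disjoint octad. -/
abbrev A : Finset GolayPt := toSet 4845570

theorem A_mem : A ∈ octads := by
  rw [mem_octads_iff, mask_toSet (by omega), mem_wtList]
  exact ⟨by decide +kernel, by omega, by decide +kernel⟩

theorem mem_disjList {u : Finset GolayPt} (hu : u ∈ octads) (hd : Disjoint O u) : mask u ∈ disjList := by
  rw [disjList, List.mem_filter, Nat.beq_eq]
  refine ⟨mem_octads_iff.1 hu, ?_⟩
  rw [← mask_toSet octO_lt, ← mask_inter, popc_mask, Finset.card_eq_zero,
    ← Finset.disjoint_iff_inter_eq_empty]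
  exact hd.symm

theorem mask_third {u : Finset GolayPt} : mask (O ∪ u)ᶜ = 16777215 ^^^ (octO ||| mask u) := by
  rw [mask_compl, mask_union, mask_toSet octO_lt, Nat.xor_comm]

theorem trios_through_O :
    (fun T : Finset (Finset GolayPt) => T.image mask) '' {T | T ∈ trios ∧ O ∈ T} =
      (trioKeys : Set (Finset ℕ)) := by
  ext K
  simp only [trioKeys, List.coe_toFinset, Set.mem_image, Set.mem_ofPred_eq, List.mem_map]
  constructor
  · rintro ⟨T, ⟨hT, hO⟩, rfl⟩
    obtain ⟨u, hu, hne⟩ := exists_other hT hO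
    refine ⟨mask u, mem_disjList (hT.2.1 u hu) (hT.2.2 O hO u hu hne.symm), ?_⟩
    rw [eq_mkTrio hT hO hu hne.symm, mkTrio, Finset.image_insert, Finset.image_insert,
      Finset.image_singleton, mask_toSet octO_lt, mask_third]
  · rintro ⟨v, hv, rfl⟩
    obtain ⟨hv8, hv0⟩ := List.mem_filter.1 hv
    have hv24 := (mem_wtList.1 hv8).2.1
    rw [Nat.beq_eq] at hv0
    have hd : Disjoint O (toSet v) := by
      rw [Finset.disjoint_iff_inter_eq_empty, ← Finset.card_eq_zero, ← popc_mask, mask_inter,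
        mask_toSet octO_lt, mask_toSet hv24, Nat.and_comm, hv0]
    have hu : toSet v ∈ octads := by rwa [mem_octads_iff, mask_toSet hv24]
    refine ⟨mkTrio O (toSet v), ⟨mkTrio_mem O_mem hu hd, by simp [mkTrio]⟩, ?_⟩
    rw [mkTrio, Finset.image_insert, Finset.image_insert, Finset.image_singleton,
      mask_toSet octO_lt, mask_third, mask_toSet hv24]

/-- An octad lies in fifteen trios. -/
theorem ncard_trios_through {o : Finset GolayPt} (ho : o ∈ octads) :
    {T : Finset (Finset GolayPt) | T ∈ trios ∧ o ∈ T}.ncard = 15 := by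
  obtain ⟨g, hg, rfl⟩ := exists_map_octad O_mem ho
  have : {T : Finset (Finset GolayPt) | T ∈ trios ∧ g • O ∈ T} =
      (g • ·) '' {T : Finset (Finset GolayPt) | T ∈ trios ∧ O ∈ T} := by
    ext T
    constructor
    · rintro ⟨hT, hO⟩
      refine ⟨g⁻¹ • T, ⟨smul_mem_trios (inv_mem hg) hT, ?_⟩, smul_inv_smul g T⟩
      rwa [Finset.mem_inv_smul_finset_iff]
    · rintro ⟨U, ⟨hU, hO⟩, rfl⟩
      exact ⟨smul_mem_trios hg hU, Finset.smul_mem_smul_finset hO⟩
  rw [this, Set.ncard_image_of_injective _ (MulAction.injective g),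
    ← Set.ncard_image_of_injective _ (Finset.image_injective mask_injective), trios_through_O,
    Set.ncard_coe_finset, card_trioKeys]

/-- Any two trios through the octad can be moved to the reference pair. -/
theorem to_ref_pair {T₁ T₂ : Finset (Finset GolayPt)} (h₁ : T₁ ∈ trios) (h₂ : T₂ ∈ trios)
    (o₁ : O ∈ T₁) (o₂ : O ∈ T₂) (hne : T₁ ≠ T₂) :
    ∃ σ ∈ M24, σ • O = O ∧ σ • T₁ = mkTrio O A ∧ σ • T₂ = mkTrio O (toSet 7221256) := by
  obtain ⟨u, hu, hu'⟩ := exists_other h₁ o₁
  have hOA : (O ∩ A).card = 0 := by decide +kernel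
  obtain ⟨σ, hσ, hO, e⟩ := transOct (h₁.2.1 u hu) A_mem (by
    rw [hOA, Finset.card_eq_zero, ← Finset.disjoint_iff_inter_eq_empty]
    exact h₁.2.2 O o₁ u hu hu'.symm)
  have e₁ : σ • T₁ = mkTrio O A := by rw [eq_mkTrio h₁ o₁ hu hu'.symm, smul_mkTrio, hO, e]
  have h₂' := smul_mem_trios hσ h₂
  have o₂' : O ∈ σ • T₂ := hO ▸ Finset.smul_mem_smul_finset o₂
  obtain ⟨w, hw, hw'⟩ := exists_other h₂' o₂'
  have hd := h₂'.2.2 O o₂' w hw hw'.symm
  have hmem : mask w ∈ disjList.filter fun v =>
      !Nat.beq v 4845570 && !Nat.beq v (16777215 ^^^ (octO ||| 4845570)) := by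
    refine List.mem_filter.2 ⟨mem_disjList (h₂'.2.1 w hw) hd, ?_⟩
    have key : w ∉ mkTrio O A := by
      intro hin
      have := (eq_mkTrio (mkTrio_mem O_mem A_mem (Finset.disjoint_iff_inter_eq_empty.2
        (Finset.card_eq_zero.1 hOA))) (by simp [mkTrio]) hin hw'.symm).trans
        (eq_mkTrio h₂' o₂' hw hw'.symm).symm
      exact hne (MulAction.injective σ (e₁.trans this))
    simp only [mkTrio, Finset.mem_insert, Finset.mem_singleton, not_or] at key
    have f : ∀ v, v < 2 ^ 24 → w ≠ toSet v → Nat.beq (mask w) v = false := by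
      intro v hv hw
      rw [← Bool.not_eq_true, Nat.beq_eq]
      exact fun h => hw (by rw [← h, toSet_mask])
    rw [f 4845570 (by omega) key.2.1, f _ (by decide +kernel) fun h => key.2.2 ?_]
    · rfl
    · refine mask_injective ?_
      rw [h, mask_toSet (by decide +kernel), mask_third, mask_toSet (by omega)]
  obtain ⟨τ, hτ, e₂⟩ := exists_of_orbitOk (by decide) (by omega) gensTrio_ok okTrio hmem
  obtain ⟨hτM, hτf⟩ := mem_fixGroup.1 hτ
  have tO : τ⁻¹ • O = O := inv_smul_eq_iff.2 (hτf _ List.mem_cons_self).symm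
  have tA : τ⁻¹ • A = A := inv_smul_eq_iff.2 (hτf _ (List.mem_cons_of_mem _ List.mem_cons_self)).symm
  rw [toSet_mask] at e₂
  refine ⟨τ⁻¹ * σ, mul_mem (inv_mem hτM) hσ, by rw [mul_smul, hO, tO], ?_, ?_⟩
  · rw [mul_smul, e₁, smul_mkTrio, tO, tA]
  · rw [mul_smul, eq_mkTrio h₂' o₂' hw hw'.symm, smul_mkTrio, tO, ← e₂, inv_smul_smul]

/-- An element fixes all trios through the reference octad iff it fixes the octad pointwise. -/
theorem fix_trios_iff {g : Equiv.Perm GolayPt} (hg : g ∈ M24) (hgO : g • O = O) :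
    (∀ T ∈ trios, O ∈ T → g • T = T) ↔ ∀ p ∈ O, g p = p := by
  have tr : ∀ t ∈ transl, ∀ T ∈ trios, O ∈ T → permOf t • T = T := by
    intro t ht T hT hO
    obtain ⟨hv, htM, htf⟩ := transl_mem ht
    have tO : permOf t • O = O := by
      refine Finset.eq_of_subset_of_card_le (fun p hp => ?_) (by rw [Finset.card_smul_finset])
      obtain ⟨q, hq, rfl⟩ := Finset.mem_smul_finset.1 hp
      rw [Equiv.Perm.smul_def, htf q hq]; exact hq
    obtain ⟨u, hu, hne⟩ := exists_other hT hO
    have h := List.all_eq_true.1 (List.all_eq_true.1 transl_disj t ht) _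
      (mem_disjList (hT.2.1 u hu) (hT.2.2 O hO u hu hne.symm))
    rw [← mask_smul hv, ← mask_third, Bool.or_eq_true, Nat.beq_eq, Nat.beq_eq,
      mask_injective.eq_iff, mask_injective.eq_iff] at h
    rw [eq_mkTrio hT hO hu hne.symm, smul_mkTrio, tO]
    rcases h with h | h
    · rw [h]
    · have hT3 : (O ∪ u)ᶜ ∈ T := by rw [eq_mkTrio hT hO hu hne.symm]; simp [mkTrio]
      have hne3 := (trio_cards O_mem (hT.2.1 u hu) (hT.2.2 O hO u hu hne.symm)).2.1
      rw [h, ← eq_mkTrio hT hO hT3 hne3, eq_mkTrio hT hO hu hne.symm]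
  constructor
  · intro hall
    have hq : g (ptN 1) ∉ O := fun h => p0_not_mem (by
      rw [← hgO] at h
      exact (Finset.smul_mem_smul_finset_iff g).1 h)
    obtain ⟨t, ht, e⟩ := exists_transl hq
    obtain ⟨-, htM, htf⟩ := transl_mem ht
    have tO' : ∀ p ∈ O, (permOf t)⁻¹ p = p := fun p hp => by
      rw [Equiv.Perm.inv_eq_iff_eq, htf p hp]
    have hh : (permOf t)⁻¹ * g ∈ M24 := mul_mem (inv_mem htM) hg
    have h0 : ((permOf t)⁻¹ * g) (ptN 1) = ptN 1 := by
      rw [Equiv.Perm.mul_apply, Equiv.Perm.inv_eq_iff_eq, e]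
    have hO : ((permOf t)⁻¹ * g) • O = O := by
      rw [mul_smul, hgO]
      refine Finset.eq_of_subset_of_card_le (fun p hp => ?_) (by rw [Finset.card_smul_finset])
      obtain ⟨q, hq, rfl⟩ := Finset.mem_smul_finset.1 hp
      rw [Equiv.Perm.smul_def, tO' q hq]; exact hq
    have hT : ∀ T ∈ trios, O ∈ T → ((permOf t)⁻¹ * g) • T = T := fun T hT hO => by
      rw [mul_smul, hall T hT hO, inv_smul_eq_iff, tr t ht T hT hO]
    generalize hk : (permOf t)⁻¹ * g = k at hh h0 hO hT
    have key : ∀ m ∈ disjList, k • toSet m = toSet m := by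
      intro m hm
      obtain ⟨hm8, -⟩ := List.mem_filter.1 hm
      have hm24 := (mem_wtList.1 hm8).2.1
      have hu : toSet m ∈ octads := by rwa [mem_octads_iff, mask_toSet hm24]
      have hd : Disjoint O (toSet m) := by
        have := (List.mem_filter.1 hm).2
        rw [Nat.beq_eq, Nat.and_comm] at this
        rw [Finset.disjoint_iff_inter_eq_empty, ← Finset.card_eq_zero, ← popc_mask, mask_inter,
          mask_toSet octO_lt, mask_toSet hm24, this]
      have h3 := List.all_eq_true.1 disj_third m hm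
      rw [Bool.and_eq_true, bne_iff_ne] at h3
      have ep : (ptN 1 ∈ toSet m) ↔ ¬ (ptN 1 ∈ (O ∪ toSet m)ᶜ) := by
        rw [← toSet_mask (O ∪ toSet m)ᶜ, mask_third, mask_toSet hm24, mem_toSet, mem_toSet,
          idx_ptN (by omega)]
        have h32 := h3.2
        revert h32
        cases m.testBit 1 <;> cases (16777215 ^^^ (octO ||| m)).testBit 1 <;> simp
      have hin : k • toSet m ∈ mkTrio O (toSet m) := by
        have h' : k • toSet m ∈ k • mkTrio O (toSet m) :=
          Finset.smul_mem_smul_finset (by simp [mkTrio])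
        rwa [hT _ (mkTrio_mem O_mem hu hd) (by simp [mkTrio])] at h'
      have hmem : ptN 1 ∈ k • toSet m ↔ ptN 1 ∈ toSet m := by
        conv_lhs => rw [← h0]
        exact Finset.smul_mem_smul_finset_iff k
      simp only [mkTrio, Finset.mem_insert, Finset.mem_singleton] at hin
      rcases hin with h | h | h
      · exact absurd (MulAction.injective k (h.trans hO.symm)).symm (trio_cards O_mem hu hd).1
      · exact h
      · rw [h] at hmem; exact absurd (hmem.trans ep).symm not_iff_self
    have hk1 : k = 1 := by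
      refine eq_one_of_sep hh (fx := outPts) (by decide) (by decide) sep_outPts fun b hb => ?_
      have hb24 : b < 24 := (by decide : ∀ i ∈ outPts, i < 24) b hb
      have hbO : ptN b ∉ O := mem_outPts.2 (by rwa [idx_ptN hb24])
      have hkO : k (ptN b) ∉ O := fun h => hbO (by
        rw [← hO] at h
        exact (Finset.smul_mem_smul_finset_iff k).1 h)
      by_contra hne
      have := List.all_eq_true.1 (List.all_eq_true.1 disj_sep b hb) _ (mem_outPts.1 hkO)
      rw [Bool.or_eq_true, Nat.beq_eq, List.any_eq_true] at this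
      rcases this with h | ⟨m, hm, hmd⟩
      · exact hne (by rw [← ptN_idx (k (ptN b)), ← h])
      · have h1 : k (ptN b) ∈ toSet m ↔ ptN b ∈ toSet m := by
          conv_lhs => rw [← key m hm]
          exact Finset.smul_mem_smul_finset_iff k
        rw [mem_toSet, mem_toSet, idx_ptN hb24, ← Bool.eq_iff_iff] at h1
        simp [h1] at hmd
    rw [hk1] at hk
    intro p hp
    rw [← inv_mul_eq_one.1 hk, htf p hp]
  · intro h T hT hO
    obtain ⟨t, ht, rfl⟩ := eq_transl hg h
    exact tr t ht T hT hO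

end OctStab

/-- There are 3795 trios. -/
theorem ncard_trios : trios.ncard = 3795 := by
  classical
  rw [Set.ncard_eq_toFinset_card trios trios.toFinite]
  have h := Finset.card_mul_eq_card_mul (fun (o : Finset GolayPt) (T : Finset (Finset GolayPt)) => o ∈ T)
    (s := octads.toFinite.toFinset) (t := trios.toFinite.toFinset) (m := 15) (n := 3) ?_ ?_
  · rw [← Set.ncard_eq_toFinset_card octads octads.toFinite, ncard_octads] at h
    omega
  · intro o ho
    rw [← OctStab.ncard_trios_through ((Set.Finite.mem_toFinset _).1 ho), ← Set.ncard_coe_finset]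
    congr 1
    ext T
    simp [Finset.bipartiteAbove]
  · intro T hT
    have hT := (Set.Finite.mem_toFinset _).1 hT
    rw [← hT.1]
    congr 1
    ext o
    simp only [Finset.bipartiteBelow, Finset.mem_filter, Set.Finite.mem_toFinset]
    exact ⟨fun h => h.2, fun h => ⟨hT.2.1 o h, h⟩⟩

end CfsgLib.Golay
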