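/-
The kinds of families whose suborbits are certified: octads, trios, sextets, dodecad pairs, small sets.
-/
import Cfsg.Agent.Golay.SuborbInv
import Cfsg.Agent.Golay.Trio
import Cfsg.Agent.Golay.Sextet
import Cfsg.Agent.Golay.DodStab

set_option autoImplicit false

namespace CfsgLib.Golay.Suborb

open Cfsg
open scoped Pointwise

theorem forall_mem_smul {σ : Equiv.Perm GolayPt} {A : Fam} {P : Finset GolayPt → Prop} :
    (∀ a ∈ σ • A, P a) ↔ ∀ a ∈ A, P (σ • a) := by
  refine ⟨fun h a ha => h _ (Finset.smul_mem_smul_finset ha), fun h a ha => ?_⟩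
  obtain ⟨b, hb, rfl⟩ := Finset.mem_smul_finset.1 ha
  exact h b hb

/-- Singletons of octads satisfying a condition relative to the base family. -/
def KOct (P : Fam → Finset GolayPt → Prop) : Fam → Set Fam :=
  fun A => (fun o => ({o} : Fam)) '' {o | o ∈ octads ∧ P A o}

theorem KOct_smul {P : Fam → Finset GolayPt → Prop}
    (hP : ∀ (σ : Equiv.Perm GolayPt) A o, P A o → P (σ • A) (σ • o)) :
    ∀ σ ∈ M24, ∀ B X, X ∈ KOct P B → σ • X ∈ KOct P (σ • B) := by
  rintro σ hσ B _ ⟨o, ⟨ho, hp⟩, rfl⟩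
  exact ⟨σ • o, ⟨smul_mem_octads hσ ho, hP σ B o hp⟩, (Finset.smul_finset_singleton o).symm⟩

theorem KOct_mem {P : Fam → Finset GolayPt → Prop} {A : Fam} {x : Finset GolayPt} :
    ({x} : Fam) ∈ KOct P A ↔ x ∈ octads ∧ P A x := by
  refine ⟨?_, fun h => ⟨x, h, rfl⟩⟩
  rintro ⟨o, h, e⟩
  rw [Finset.singleton_inj] at e
  exact e ▸ h

theorem ncard_KOct {P : Fam → Finset GolayPt → Prop} {A : Fam} :
    (KOct P A).ncard = {o | o ∈ octads ∧ P A o}.ncard :=
  Set.ncard_image_of_injective _ Finset.singleton_injective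

/-- All octads. -/
def allO : Fam → Finset GolayPt → Prop := fun _ _ => True
/-- Octads containing the pairs of the base family. -/
def throughPair : Fam → Finset GolayPt → Prop := fun A o => ∀ a ∈ A, a.card = 2 → a ⊆ o
/-- Octads containing the points of the base family but none of its pairs. -/
def pointNotPair : Fam → Finset GolayPt → Prop :=
  fun A o => (∀ a ∈ A, a.card = 1 → a ⊆ o) ∧ ∀ a ∈ A, a.card = 2 → ¬ a ⊆ o
/-- Octads containing the points of the base family. -/
def throughPt : Fam → Finset GolayPt → Prop := fun A o => ∀ a ∈ A, a.card = 1 → a ⊆ o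
/-- Octads avoiding the points of the base family. -/
def avoidPt : Fam → Finset GolayPt → Prop := fun A o => ∀ a ∈ A, a.card = 1 → ¬ a ⊆ o

theorem allO_smul (σ : Equiv.Perm GolayPt) (A : Fam) (o : Finset GolayPt) :
    allO A o → allO (σ • A) (σ • o) := fun _ => trivial

theorem throughPair_smul (σ : Equiv.Perm GolayPt) (A : Fam) (o : Finset GolayPt) :
    throughPair A o → throughPair (σ • A) (σ • o) := by
  simp only [throughPair, forall_mem_smul, Finset.card_smul_finset,
    Finset.smul_finset_subset_smul_finset_iff]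
  exact id

theorem pointNotPair_smul (σ : Equiv.Perm GolayPt) (A : Fam) (o : Finset GolayPt) :
    pointNotPair A o → pointNotPair (σ • A) (σ • o) := by
  simp only [pointNotPair, forall_mem_smul, Finset.card_smul_finset,
    Finset.smul_finset_subset_smul_finset_iff]
  exact id

theorem throughPt_smul (σ : Equiv.Perm GolayPt) (A : Fam) (o : Finset GolayPt) :
    throughPt A o → throughPt (σ • A) (σ • o) := by
  simp only [throughPt, forall_mem_smul, Finset.card_smul_finset,
    Finset.smul_finset_subset_smul_finset_iff]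
  exact id

theorem avoidPt_smul (σ : Equiv.Perm GolayPt) (A : Fam) (o : Finset GolayPt) :
    avoidPt A o → avoidPt (σ • A) (σ • o) := by
  simp only [avoidPt, forall_mem_smul, Finset.card_smul_finset,
    Finset.smul_finset_subset_smul_finset_iff]
  exact id

/-- All trios. -/
def KTrio : Fam → Set Fam := fun _ => trios
/-- All sextets. -/
def KSex : Fam → Set Fam := fun _ => sextets
/-- Complementary pairs of dodecads. -/
def KDod : Fam → Set Fam := fun _ => (fun d => ({d, dᶜ} : Fam)) '' dodecads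
/-- All sets of a given size. -/
def KSub (k : ℕ) : Fam → Set Fam :=
  fun _ => (fun t => ({t} : Fam)) '' {t : Finset GolayPt | t.card = k}
/-- Pairs avoiding the pairs of the base family. -/
def KPairOff : Fam → Set Fam :=
  fun A => (fun t => ({t} : Fam)) '' {t : Finset GolayPt | t.card = 2 ∧ ∀ a ∈ A, a.card = 2 → Disjoint a t}

theorem smul_mem_sextets {σ : Equiv.Perm GolayPt} (hσ : σ ∈ M24) {S : Fam} (hS : S ∈ sextets) :
    σ • S ∈ sextets := by
  obtain ⟨h1, h2, h3⟩ := hS
  refine ⟨by rw [Finset.card_smul_finset, h1], forall_mem_smul.2 fun t ht => by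
    rw [Finset.card_smul_finset, h2 t ht], forall_mem_smul.2 fun t ht => forall_mem_smul.2
    fun u hu hne => ?_⟩
  rw [← Finset.smul_finset_union]
  exact smul_mem_octads hσ (h3 t ht u hu fun e => hne (by rw [e]))

theorem smul_compl (σ : Equiv.Perm GolayPt) (s : Finset GolayPt) : σ • sᶜ = (σ • s)ᶜ := by
  ext p
  rw [Finset.mem_compl, ← Finset.inv_smul_mem_iff, ← Finset.inv_smul_mem_iff, Finset.mem_compl]

theorem KTrio_smul : ∀ σ ∈ M24, ∀ B X, X ∈ KTrio B → σ • X ∈ KTrio (σ • B) :=
  fun _ hσ _ _ hX => smul_mem_trios hσ hX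

theorem KSex_smul : ∀ σ ∈ M24, ∀ B X, X ∈ KSex B → σ • X ∈ KSex (σ • B) :=
  fun _ hσ _ _ hX => smul_mem_sextets hσ hX

theorem KDod_smul : ∀ σ ∈ M24, ∀ B X, X ∈ KDod B → σ • X ∈ KDod (σ • B) := by
  rintro σ hσ B _ ⟨d, hd, rfl⟩
  refine ⟨σ • d, smul_mem_dodecads hσ hd, ?_⟩
  simp [Finset.smul_finset_insert, Finset.smul_finset_singleton, smul_compl]

theorem KSub_smul (k : ℕ) : ∀ σ ∈ M24, ∀ B X, X ∈ KSub k B → σ • X ∈ KSub k (σ • B) := by
  rintro σ - B _ ⟨t, ht, rfl⟩
  exact ⟨σ • t, (Finset.card_smul_finset σ t).trans ht, (Finset.smul_finset_singleton t).symm⟩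

theorem KPairOff_smul : ∀ σ ∈ M24, ∀ B X, X ∈ KPairOff B → σ • X ∈ KPairOff (σ • B) := by
  rintro σ - B _ ⟨t, ⟨ht, hd⟩, rfl⟩
  refine ⟨σ • t, ⟨(Finset.card_smul_finset σ t).trans ht, forall_mem_smul.2 fun a ha h2 => ?_⟩,
    (Finset.smul_finset_singleton t).symm⟩
  rw [Finset.card_smul_finset] at h2
  rw [Finset.disjoint_iff_inter_eq_empty, ← Finset.smul_finset_inter,
    Finset.disjoint_iff_inter_eq_empty.1 (hd a ha h2), Finset.smul_finset_empty]

/-! ### Reference members -/

theorem fam_singleton (m : ℕ) : fam [m] = {toSet m} := rfl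

/-- Test for a sextet representation. -/
def sexL (l : List ℕ) : Bool :=
  goodRep l && Nat.beq l.length 6 && l.all (fun x => Nat.beq (popc x) 4 &&
    l.all fun y => Nat.beq x y || (inCode (x ||| y) && Nat.beq (popc (x ||| y)) 8))

theorem sexL_spec {l : List ℕ} (h : sexL l = true) : fam l ∈ sextets := by
  simp only [sexL, Bool.and_eq_true, List.all_eq_true, Nat.beq_eq, Bool.or_eq_true] at h
  obtain ⟨⟨hg, hlen⟩, hall⟩ := h
  have hlt := (goodRep_spec l hg).2
  refine ⟨?_, ?_, ?_⟩
  · rw [fam, List.toFinset_card_of_nodup (nodup_toSet hg), List.length_map, hlen]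
  · intro t ht
    simp only [fam, List.mem_toFinset, List.mem_map] at ht
    obtain ⟨x, hx, rfl⟩ := ht
    rw [card_toSet (hlt x hx)]; exact (hall x hx).1
  · intro t ht u hu hne
    simp only [fam, List.mem_toFinset, List.mem_map] at ht hu
    obtain ⟨x, hx, rfl⟩ := ht
    obtain ⟨y, hy, rfl⟩ := hu
    rcases (hall x hx).2 y hy with e | ⟨h1, h2⟩
    · exact absurd (congrArg toSet e) hne
    · refine mem_wordsOfWeight_iff.2 ⟨?_, ?_⟩
      · rw [mask_union, mask_toSet (hlt x hx), mask_toSet (hlt y hy)]; exact h1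
      · rw [← popc_mask, mask_union, mask_toSet (hlt x hx), mask_toSet (hlt y hy)]; exact h2

/-- Test for an octad mask. -/
def octL (m : ℕ) : Bool := Nat.blt m 16777216 && inCode m && Nat.beq (popc m) 8

theorem octL_spec {m : ℕ} (h : octL m = true) : toSet m ∈ octads := by
  simp only [octL, Bool.and_eq_true, Nat.beq_eq] at h
  have hlt : m < 2 ^ 24 := of_blt h.1.1
  rw [mem_octads_iff, mask_toSet hlt, mem_wtList]
  exact ⟨h.1.2, hlt, h.2⟩

/-- Test for a trio representation. -/
def trioL (l : List ℕ) : Bool :=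
  goodRep l && Nat.beq l.length 3 && l.all (fun x => octL x &&
    l.all fun y => Nat.beq x y || Nat.beq (x &&& y) 0)

theorem trioL_spec {l : List ℕ} (h : trioL l = true) : fam l ∈ trios := by
  simp only [trioL, Bool.and_eq_true, List.all_eq_true, Nat.beq_eq, Bool.or_eq_true] at h
  obtain ⟨⟨hg, hlen⟩, hall⟩ := h
  have hlt := (goodRep_spec l hg).2
  refine ⟨?_, ?_, ?_⟩
  · rw [fam, List.toFinset_card_of_nodup (nodup_toSet hg), List.length_map, hlen]
  · intro t ht
    simp only [fam, List.mem_toFinset, List.mem_map] at ht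
    obtain ⟨x, hx, rfl⟩ := ht
    exact octL_spec (hall x hx).1
  · intro t ht u hu hne
    simp only [fam, List.mem_toFinset, List.mem_map] at ht hu
    obtain ⟨x, hx, rfl⟩ := ht
    obtain ⟨y, hy, rfl⟩ := hu
    rcases (hall x hx).2 y hy with e | e
    · exact absurd (congrArg toSet e) hne
    · rwa [disjoint_iff_mask, mask_toSet (hlt x hx), mask_toSet (hlt y hy)]

/-- Test for a complementary pair of dodecads. -/
def dodL : List ℕ → Bool
  | [x, y] => Nat.blt x 16777216 && inCode x && Nat.beq (popc x) 12 && Nat.beq y (x ^^^ 16777215)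
  | _ => false

theorem dodL_spec (B : Fam) {l : List ℕ} (h : dodL l = true) : fam l ∈ KDod B := by
  match l, h with
  | [x, y], h =>
    simp only [dodL, Bool.and_eq_true, Nat.beq_eq] at h
    have hlt : x < 2 ^ 24 := of_blt h.1.1.1
    refine ⟨toSet x, ?_, ?_⟩
    · rw [mem_dodecads_iff, mask_toSet hlt, mem_wtList]
      exact ⟨h.1.1.2, hlt, h.1.2⟩
    · have e : toSet y = (toSet x)ᶜ := by
        rw [← toSet_mask (toSet x)ᶜ, mask_compl, mask_toSet hlt, h.2]
      simp [fam, e]
  | [], h => simp [dodL] at h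
  | [_], h => simp [dodL] at h
  | _ :: _ :: _ :: _, h => simp [dodL] at h

/-! ### Bounds on the number of members -/

theorem ncard_KDod_le (B : Fam) : (KDod B).ncard ≤ 1288 := by
  have hsub : KDod B ⊆ (fun d => ({d, dᶜ} : Fam)) '' {d | d ∈ dodecads ∧ ptN 0 ∈ d} := by
    rintro _ ⟨d, hd, rfl⟩
    by_cases h0 : ptN 0 ∈ d
    · exact ⟨d, ⟨hd, h0⟩, rfl⟩
    · refine ⟨dᶜ, ⟨mem_wordsOfWeight_iff.2 ⟨?_, ?_⟩, by simpa using h0⟩, ?_⟩
      · rw [mask_compl]
        exact inCode_xor (mem_wordsOfWeight_iff.1 hd).1 (by decide +kernel)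
      · rw [Finset.card_compl, card_pt, card_of_mem_dodecads hd]
      · simp [Finset.pair_comm]
  refine (Set.ncard_le_ncard hsub (Set.toFinite _)).trans ((Set.ncard_image_le (Set.toFinite _)).trans ?_)
  refine le_of_eq ((ncard_eq_filter (k := 12) (P := fun o => ptN 0 ∈ o) (fun v => v.testBit 0) fun s => ?_).trans ?_)
  · have := testBit_mask s (ptN 0)
    rw [idx_ptN (by omega)] at this
    simp [this]
  · decide +kernel

theorem ncard_KSub (k : ℕ) (B : Fam) : (KSub k B).ncard = Nat.choose 24 k := by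
  have h : {t : Finset GolayPt | t.card = k} = ↑((Finset.univ : Finset GolayPt).powersetCard k) := by
    ext t; simp
  rw [KSub, Set.ncard_image_of_injective _ Finset.singleton_injective, h, Set.ncard_coe_finset,
    Finset.card_powersetCard, Finset.card_univ, card_pt]

theorem ncard_KPairOff_le {B : Fam} {p q : GolayPt} (hpq : p ≠ q) (h : ({p, q} : Finset GolayPt) ∈ B) :
    (KPairOff B).ncard ≤ 231 := by
  rw [KPairOff, Set.ncard_image_of_injective _ Finset.singleton_injective]
  refine (Set.ncard_le_ncard (t := ↑((({p, q} : Finset GolayPt)ᶜ).powersetCard 2)) ?_ (Set.toFinite _)).trans ?_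
  · rintro t ⟨ht, hd⟩
    rw [Finset.mem_coe, Finset.mem_powersetCard]
    refine ⟨fun x hx => Finset.mem_compl.2 fun hx' => ?_, ht⟩
    exact Finset.disjoint_left.1 (hd _ h (Finset.card_pair hpq)) hx' hx
  · rw [Set.ncard_coe_finset, Finset.card_powersetCard, Finset.card_compl, card_pt, Finset.card_pair hpq]
    decide

theorem crossInv_singleton (a b : Finset GolayPt) :
    crossInv ({a} : Fam) {b} = (a ∩ b).card ^ 4 := by simp [crossInv]

theorem crossInv_pair {a b : Finset GolayPt} (hab : a ≠ b) (x : Finset GolayPt) :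
    crossInv ({a, b} : Fam) {x} = (a ∩ x).card ^ 4 + (b ∩ x).card ^ 4 := by
  simp [crossInv, Finset.sum_pair hab]

theorem crossInv_triple {a b c : Finset GolayPt} (hab : a ≠ b) (hac : a ≠ c) (hbc : b ≠ c)
    (x : Finset GolayPt) :
    crossInv ({a, b, c} : Fam) {x} = (a ∩ x).card ^ 4 + ((b ∩ x).card ^ 4 + (c ∩ x).card ^ 4) := by
  simp [crossInv, Finset.sum_insert, Finset.sum_pair hbc, hab, hac]

theorem pow_four_inj {a b : ℕ} (h : a ^ 4 = b ^ 4) : a = b := Nat.pow_left_injective (by omega) h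

end CfsgLib.Golay.Suborb
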