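/-
The certified suborbit descriptions at the reference families.
-/
import Cfsg.Agent.Golay.Kinds
import Cfsg.Agent.Golay.Sub.DodDod
import Cfsg.Agent.Golay.Sub.DodSex
import Cfsg.Agent.Golay.Sub.OctOct
import Cfsg.Agent.Golay.Sub.OctSex
import Cfsg.Agent.Golay.Sub.OctTrio
import Cfsg.Agent.Golay.Sub.PQOct
import Cfsg.Agent.Golay.Sub.PQOctSub
import Cfsg.Agent.Golay.Sub.PQS
import Cfsg.Agent.Golay.Sub.PQTrans
import Cfsg.Agent.Golay.Sub.PairPair
import Cfsg.Agent.Golay.Sub.SexOct
import Cfsg.Agent.Golay.Sub.SexSex
import Cfsg.Agent.Golay.Sub.SexTrio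
import Cfsg.Agent.Golay.Sub.TriSex
import Cfsg.Agent.Golay.Sub.TriTri
import Cfsg.Agent.Golay.Sub.TrioOct
import Cfsg.Agent.Golay.Sub.TrioSex
import Cfsg.Agent.Golay.Sub.TrioTrio
import Cfsg.Agent.Golay.Sub.XOctIn
import Cfsg.Agent.Golay.Sub.XOctOut

set_option autoImplicit false

namespace CfsgLib.Golay.Suborb

open Cfsg
open scoped Pointwise

theorem table_cross {gens : List (List ℕ)} {A : List ℕ} {cs : List Cls} {M : ℕ} {T : List (ℕ × ℕ)}
    (hok : suborbOk gens A cs M = true) (hT : cs.map (fun c => (crossL A c.root, c.size)) = T) :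
    T = cs.map fun c => (crossInv (fam A) (fam c.root), c.size) := by
  simp only [suborbOk, famGensOk, Bool.and_eq_true, List.all_eq_true] at hok
  rw [← hT]
  exact List.map_congr_left fun c hc => by rw [crossInv_fam hok.1.1.1 (hok.1.2 c hc).1]

theorem table_inv2 {gens : List (List ℕ)} {A : List ℕ} {cs : List Cls} {M : ℕ} {T : List (ℕ × ℕ)}
    (hok : suborbOk gens A cs M = true) (hT : cs.map (fun c => (inv2L A c.root, c.size)) = T) :
    T = cs.map fun c => (inv2 (fam A) (fam c.root), c.size) := by
  simp only [suborbOk, famGensOk, Bool.and_eq_true, List.all_eq_true] at hok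
  rw [← hT]
  exact List.map_congr_left fun c hc => by rw [inv2_fam hok.1.1.1 (hok.1.2 c hc).1]

/-- Root test for singleton octads. -/
def octRoot (f : ℕ → Bool) : List ℕ → Bool
  | [m] => octL m && f m
  | _ => false

theorem octRoot_spec {P : Fam → Finset GolayPt → Prop} {A : Fam} {f : ℕ → Bool}
    (hf : ∀ o, o ∈ octads → (P A o ↔ f (mask o) = true)) {l : List ℕ} (h : octRoot f l = true) :
    fam l ∈ KOct P A := by
  match l, h with
  | [m], h =>
    simp only [octRoot, Bool.and_eq_true] at h
    have hlt : m < 2 ^ 24 := by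
      have := h.1; simp only [octL, Bool.and_eq_true] at this; exact of_blt this.1.1
    exact ⟨toSet m, ⟨octL_spec h.1, (hf _ (octL_spec h.1)).2 (by rw [mask_toSet hlt]; exact h.2)⟩, rfl⟩
  | [], h => simp [octRoot] at h
  | _ :: _ :: _, h => simp [octRoot] at h

theorem ncard_KOct_eq {P : Fam → Finset GolayPt → Prop} {A : Fam} {f : ℕ → Bool}
    (hf : ∀ o, o ∈ octads → (P A o ↔ f (mask o) = true)) :
    (KOct P A).ncard = (octList.filter f).length := by
  rw [ncard_KOct]
  rw [show {o | o ∈ octads ∧ P A o} = {o | o ∈ octads ∧ f (mask o) = true} from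
    Set.ext fun o => and_congr_right (hf o)]
  exact ncard_eq_filter (k := 8) (P := fun o => f (mask o) = true) f fun _ => Iff.rfl

theorem forall_fam {A : List ℕ} (hA : goodRep A = true) (k : ℕ) (Q : Finset GolayPt → Prop) :
    (∀ a ∈ fam A, a.card = k → Q a) ↔ ∀ m ∈ A, popc m = k → Q (toSet m) := by
  simp only [fam, List.mem_toFinset, List.mem_map]
  constructor
  · intro h m hm hk
    exact h _ ⟨m, hm, rfl⟩ (by rw [card_toSet ((goodRep_spec A hA).2 m hm), hk])
  · rintro h _ ⟨m, hm, rfl⟩ hk
    exact h m hm (by rwa [card_toSet ((goodRep_spec A hA).2 m hm)] at hk)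

theorem subset_toSet_iff {m : ℕ} (hm : m < 2 ^ 24) (o : Finset GolayPt) :
    toSet m ⊆ o ↔ Nat.beq (m &&& mask o) m = true := by
  rw [Nat.beq_eq, subset_iff_mask, mask_toSet hm]

/-- Root test for singleton sets. -/
def subRoot (k : ℕ) : List ℕ → Bool
  | [m] => Nat.blt m 16777216 && Nat.beq (popc m) k
  | _ => false

theorem subRoot_spec {k : ℕ} (A : Fam) {l : List ℕ} (h : subRoot k l = true) : fam l ∈ KSub k A := by
  match l, h with
  | [m], h =>
    simp only [subRoot, Bool.and_eq_true, Nat.beq_eq] at h
    exact ⟨toSet m, (card_toSet (of_blt h.1)).trans h.2, rfl⟩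
  | [], h => simp [subRoot] at h
  | _ :: _ :: _, h => simp [subRoot] at h

/-- Reference description DodDod. -/
theorem specDodDod : Spec (KDod) crossInv (fam DodDod.base) DodDod.table := by
  refine spec_of_cert DodDod.cert_ok (KDod_smul) (fun σ _ B X => crossInv_smul σ B X) DodDod.table
    (table_cross DodDod.cert_ok DodDod.table_ok) (by decide) ?_ ?_
  · intro c hc
    have h : DodDod.classes.all (fun c => dodL c.root) = true := by decide +kernel
    exact dodL_spec _ (List.all_eq_true.1 h c hc)
  · exact ncard_KDod_le _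

/-- Reference description DodSex. -/
theorem specDodSex : Spec (KSex) crossInv (fam DodSex.base) DodSex.table := by
  refine spec_of_cert DodSex.cert_ok (KSex_smul) (fun σ _ B X => crossInv_smul σ B X) DodSex.table
    (table_cross DodSex.cert_ok DodSex.table_ok) (by decide) ?_ ?_
  · intro c hc
    have h : DodSex.classes.all (fun c => sexL c.root) = true := by decide +kernel
    exact sexL_spec (List.all_eq_true.1 h c hc)
  · exact le_of_eq ncard_sextets

/-- Reference description OctOct. -/
theorem specOctOct : Spec (KOct allO) crossInv (fam OctOct.base) OctOct.table := by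
  refine spec_of_cert OctOct.cert_ok (KOct_smul allO_smul) (fun σ _ B X => crossInv_smul σ B X) OctOct.table
    (table_cross OctOct.cert_ok OctOct.table_ok) (by decide) ?_ ?_
  · intro c hc
    refine octRoot_spec (f := (fun _ => true)) (fun o _ => iff_of_true trivial rfl) ?_
    have h : OctOct.classes.all (fun c => octRoot (fun _ => true) c.root) = true := by decide +kernel
    exact List.all_eq_true.1 h c hc
  · rw [ncard_KOct_eq (f := (fun _ => true)) (fun o _ => iff_of_true trivial rfl)]
    decide +kernel

/-- Reference description OctSex. -/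
theorem specOctSex : Spec (KSex) crossInv (fam OctSex.base) OctSex.table := by
  refine spec_of_cert OctSex.cert_ok (KSex_smul) (fun σ _ B X => crossInv_smul σ B X) OctSex.table
    (table_cross OctSex.cert_ok OctSex.table_ok) (by decide) ?_ ?_
  · intro c hc
    have h : OctSex.classes.all (fun c => sexL c.root) = true := by decide +kernel
    exact sexL_spec (List.all_eq_true.1 h c hc)
  · exact le_of_eq ncard_sextets

/-- Reference description OctTrio. -/
theorem specOctTrio : Spec (KTrio) crossInv (fam OctTrio.base) OctTrio.table := by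
  refine spec_of_cert OctTrio.cert_ok (KTrio_smul) (fun σ _ B X => crossInv_smul σ B X) OctTrio.table
    (table_cross OctTrio.cert_ok OctTrio.table_ok) (by decide) ?_ ?_
  · intro c hc
    have h : OctTrio.classes.all (fun c => trioL c.root) = true := by decide +kernel
    exact trioL_spec (List.all_eq_true.1 h c hc)
  · exact le_of_eq ncard_trios

/-- Reference description PQOct. -/
theorem specPQOct : Spec (KOct throughPair) crossInv (fam PQOct.base) PQOct.table := by
  have hA : goodRep PQOct.base = true := by decide
  have hf : ∀ o, o ∈ octads → (throughPair (fam PQOct.base) o ↔ (fun o => PQOct.base.all fun a => !(Nat.beq (popc a) 2) || Nat.beq (a &&& o) a) (mask o) = true) := by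
    intro o _
    have sub : ∀ m ∈ PQOct.base, (toSet m ⊆ o ↔ m &&& mask o = m) := fun m hm => by
      rw [subset_toSet_iff ((goodRep_spec _ hA).2 m hm), Nat.beq_eq]
    simp only [throughPair, forall_fam hA, List.all_eq_true, Bool.and_eq_true, Bool.or_eq_true,
      Bool.not_eq_true', ← Bool.not_eq_true, Nat.beq_eq, ← imp_iff_not_or]
    exact forall₂_congr fun m hm => imp_congr_right fun _ => sub m hm
  refine spec_of_cert PQOct.cert_ok (KOct_smul throughPair_smul) (fun σ _ B X => crossInv_smul σ B X) PQOct.table
    (table_cross PQOct.cert_ok PQOct.table_ok) (by decide) ?_ ?_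
  · intro c hc
    refine octRoot_spec (f := (fun o => PQOct.base.all fun a => !(Nat.beq (popc a) 2) || Nat.beq (a &&& o) a)) hf ?_
    have h : PQOct.classes.all (fun c => octRoot (fun o => PQOct.base.all fun a => !(Nat.beq (popc a) 2) || Nat.beq (a &&& o) a) c.root) = true := by decide +kernel
    exact List.all_eq_true.1 h c hc
  · rw [ncard_KOct_eq (f := (fun o => PQOct.base.all fun a => !(Nat.beq (popc a) 2) || Nat.beq (a &&& o) a)) hf]
    decide +kernel

/-- Reference description PQOctSub. -/
theorem specPQOctSub : Spec (KOct pointNotPair) crossInv (fam PQOctSub.base) PQOctSub.table := by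
  have hA : goodRep PQOctSub.base = true := by decide
  have hf : ∀ o, o ∈ octads → (pointNotPair (fam PQOctSub.base) o ↔ (fun o => PQOctSub.base.all fun a => (!(Nat.beq (popc a) 1) || Nat.beq (a &&& o) a) && (!(Nat.beq (popc a) 2) || !(Nat.beq (a &&& o) a))) (mask o) = true) := by
    intro o _
    have sub : ∀ m ∈ PQOctSub.base, (toSet m ⊆ o ↔ m &&& mask o = m) := fun m hm => by
      rw [subset_toSet_iff ((goodRep_spec _ hA).2 m hm), Nat.beq_eq]
    simp only [pointNotPair, forall_fam hA, List.all_eq_true, Bool.and_eq_true, Bool.or_eq_true,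
      Bool.not_eq_true', ← Bool.not_eq_true, Nat.beq_eq, ← imp_iff_not_or]
    exact ⟨fun h m hm => ⟨fun e => (sub m hm).1 (h.1 m hm e), fun e => fun he => h.2 m hm e ((sub m hm).2 he)⟩,
      fun h => ⟨fun m hm e => (sub m hm).2 ((h m hm).1 e), fun m hm e he => (h m hm).2 e ((sub m hm).1 he)⟩⟩
  refine spec_of_cert PQOctSub.cert_ok (KOct_smul pointNotPair_smul) (fun σ _ B X => crossInv_smul σ B X) PQOctSub.table
    (table_cross PQOctSub.cert_ok PQOctSub.table_ok) (by decide) ?_ ?_
  · intro c hc
    refine octRoot_spec (f := (fun o => PQOctSub.base.all fun a => (!(Nat.beq (popc a) 1) || Nat.beq (a &&& o) a) && (!(Nat.beq (popc a) 2) || !(Nat.beq (a &&& o) a)))) hf ?_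
    have h : PQOctSub.classes.all (fun c => octRoot (fun o => PQOctSub.base.all fun a => (!(Nat.beq (popc a) 1) || Nat.beq (a &&& o) a) && (!(Nat.beq (popc a) 2) || !(Nat.beq (a &&& o) a))) c.root) = true := by decide +kernel
    exact List.all_eq_true.1 h c hc
  · rw [ncard_KOct_eq (f := (fun o => PQOctSub.base.all fun a => (!(Nat.beq (popc a) 1) || Nat.beq (a &&& o) a) && (!(Nat.beq (popc a) 2) || !(Nat.beq (a &&& o) a)))) hf]
    decide +kernel

/-- Reference description PQS. -/
theorem specPQS : Spec (KPairOff) inv2 (fam PQS.base) PQS.table := by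
  refine spec_of_cert PQS.cert_ok (KPairOff_smul) (fun σ hσ B X => inv2_smul hσ B X) PQS.table
    (table_inv2 PQS.cert_ok PQS.table_ok) (by decide) ?_ ?_
  · intro c hc
    have h : PQS.classes.all (fun c => subRoot 2 c.root && PQS.base.all fun a => !(Nat.beq (popc a) 2) ||
        c.root.all fun x => Nat.beq (a &&& x) 0) = true := by decide +kernel
    have hc' := List.all_eq_true.1 h c hc
    rw [Bool.and_eq_true] at hc'
    obtain ⟨t, ht, e⟩ := subRoot_spec (fam PQS.base) hc'.1
    refine ⟨t, ⟨ht, (forall_fam (by decide) 2 (fun a => Disjoint a t)).2 fun m hm hk => ?_⟩, e⟩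
    have h2 := List.all_eq_true.1 hc'.2 m hm
    simp only [Bool.or_eq_true, Bool.not_eq_true', ← Bool.not_eq_true, Nat.beq_eq, List.all_eq_true] at h2
    obtain ⟨y, hy, hy'⟩ : ∃ y ∈ c.root, toSet y = t := by
      have : t ∈ fam c.root := by rw [← e]; exact Finset.mem_singleton_self t
      simpa [fam] using this
    have hml := (goodRep_spec PQS.base (by decide)).2 m hm
    have := (h2.resolve_left (fun h => h hk)) y hy
    rw [← hy', disjoint_iff_mask, mask_toSet hml, mask_toSet ?_]
    · exact this
    · have hg := (List.all_eq_true.1 (show PQS.classes.all (fun c => goodRep c.root) = true by decide +kernel) c hc)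
      exact (goodRep_spec _ hg).2 y hy
  · refine ncard_KPairOff_le (p := ptN 23) (q := ptN 0) (by decide +kernel) ?_
    decide +kernel

/-- Reference description PQTrans. -/
theorem specPQTrans : Spec (KOct pointNotPair) crossInv (fam PQTrans.base) PQTrans.table := by
  have hA : goodRep PQTrans.base = true := by decide
  have hf : ∀ o, o ∈ octads → (pointNotPair (fam PQTrans.base) o ↔ (fun o => PQTrans.base.all fun a => (!(Nat.beq (popc a) 1) || Nat.beq (a &&& o) a) && (!(Nat.beq (popc a) 2) || !(Nat.beq (a &&& o) a))) (mask o) = true) := by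
    intro o _
    have sub : ∀ m ∈ PQTrans.base, (toSet m ⊆ o ↔ m &&& mask o = m) := fun m hm => by
      rw [subset_toSet_iff ((goodRep_spec _ hA).2 m hm), Nat.beq_eq]
    simp only [pointNotPair, forall_fam hA, List.all_eq_true, Bool.and_eq_true, Bool.or_eq_true,
      Bool.not_eq_true', ← Bool.not_eq_true, Nat.beq_eq, ← imp_iff_not_or]
    exact ⟨fun h m hm => ⟨fun e => (sub m hm).1 (h.1 m hm e), fun e => fun he => h.2 m hm e ((sub m hm).2 he)⟩,
      fun h => ⟨fun m hm e => (sub m hm).2 ((h m hm).1 e), fun m hm e he => (h m hm).2 e ((sub m hm).1 he)⟩⟩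
  refine spec_of_cert PQTrans.cert_ok (KOct_smul pointNotPair_smul) (fun σ _ B X => crossInv_smul σ B X) PQTrans.table
    (table_cross PQTrans.cert_ok PQTrans.table_ok) (by decide) ?_ ?_
  · intro c hc
    refine octRoot_spec (f := (fun o => PQTrans.base.all fun a => (!(Nat.beq (popc a) 1) || Nat.beq (a &&& o) a) && (!(Nat.beq (popc a) 2) || !(Nat.beq (a &&& o) a)))) hf ?_
    have h : PQTrans.classes.all (fun c => octRoot (fun o => PQTrans.base.all fun a => (!(Nat.beq (popc a) 1) || Nat.beq (a &&& o) a) && (!(Nat.beq (popc a) 2) || !(Nat.beq (a &&& o) a))) c.root) = true := by decide +kernel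
    exact List.all_eq_true.1 h c hc
  · rw [ncard_KOct_eq (f := (fun o => PQTrans.base.all fun a => (!(Nat.beq (popc a) 1) || Nat.beq (a &&& o) a) && (!(Nat.beq (popc a) 2) || !(Nat.beq (a &&& o) a)))) hf]
    decide +kernel

/-- Reference description PairPair. -/
theorem specPairPair : Spec (KSub 2) crossInv (fam PairPair.base) PairPair.table := by
  refine spec_of_cert PairPair.cert_ok (KSub_smul 2) (fun σ _ B X => crossInv_smul σ B X) PairPair.table
    (table_cross PairPair.cert_ok PairPair.table_ok) (by decide) ?_ ?_
  · intro c hc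
    have h : PairPair.classes.all (fun c => subRoot 2 c.root) = true := by decide +kernel
    exact subRoot_spec _ (List.all_eq_true.1 h c hc)
  · rw [ncard_KSub]; decide +kernel

/-- Reference description SexOct. -/
theorem specSexOct : Spec (KOct allO) crossInv (fam SexOct.base) SexOct.table := by
  refine spec_of_cert SexOct.cert_ok (KOct_smul allO_smul) (fun σ _ B X => crossInv_smul σ B X) SexOct.table
    (table_cross SexOct.cert_ok SexOct.table_ok) (by decide) ?_ ?_
  · intro c hc
    refine octRoot_spec (f := (fun _ => true)) (fun o _ => iff_of_true trivial rfl) ?_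
    have h : SexOct.classes.all (fun c => octRoot (fun _ => true) c.root) = true := by decide +kernel
    exact List.all_eq_true.1 h c hc
  · rw [ncard_KOct_eq (f := (fun _ => true)) (fun o _ => iff_of_true trivial rfl)]
    decide +kernel

/-- Reference description SexSex. -/
theorem specSexSex : Spec (KSex) crossInv (fam SexSex.base) SexSex.table := by
  refine spec_of_cert SexSex.cert_ok (KSex_smul) (fun σ _ B X => crossInv_smul σ B X) SexSex.table
    (table_cross SexSex.cert_ok SexSex.table_ok) (by decide) ?_ ?_
  · intro c hc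
    have h : SexSex.classes.all (fun c => sexL c.root) = true := by decide +kernel
    exact sexL_spec (List.all_eq_true.1 h c hc)
  · exact le_of_eq ncard_sextets

/-- Reference description SexTrio. -/
theorem specSexTrio : Spec (KTrio) crossInv (fam SexTrio.base) SexTrio.table := by
  refine spec_of_cert SexTrio.cert_ok (KTrio_smul) (fun σ _ B X => crossInv_smul σ B X) SexTrio.table
    (table_cross SexTrio.cert_ok SexTrio.table_ok) (by decide) ?_ ?_
  · intro c hc
    have h : SexTrio.classes.all (fun c => trioL c.root) = true := by decide +kernel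
    exact trioL_spec (List.all_eq_true.1 h c hc)
  · exact le_of_eq ncard_trios

/-- Reference description TriSex. -/
theorem specTriSex : Spec (KSex) crossInv (fam TriSex.base) TriSex.table := by
  refine spec_of_cert TriSex.cert_ok (KSex_smul) (fun σ _ B X => crossInv_smul σ B X) TriSex.table
    (table_cross TriSex.cert_ok TriSex.table_ok) (by decide) ?_ ?_
  · intro c hc
    have h : TriSex.classes.all (fun c => sexL c.root) = true := by decide +kernel
    exact sexL_spec (List.all_eq_true.1 h c hc)
  · exact le_of_eq ncard_sextets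

/-- Reference description TriTri. -/
theorem specTriTri : Spec (KSub 3) inv2 (fam TriTri.base) TriTri.table := by
  refine spec_of_cert TriTri.cert_ok (KSub_smul 3) (fun σ hσ B X => inv2_smul hσ B X) TriTri.table
    (table_inv2 TriTri.cert_ok TriTri.table_ok) (by decide) ?_ ?_
  · intro c hc
    have h : TriTri.classes.all (fun c => subRoot 3 c.root) = true := by decide +kernel
    exact subRoot_spec _ (List.all_eq_true.1 h c hc)
  · rw [ncard_KSub]; decide +kernel

/-- Reference description TrioOct. -/
theorem specTrioOct : Spec (KOct allO) crossInv (fam TrioOct.base) TrioOct.table := by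
  refine spec_of_cert TrioOct.cert_ok (KOct_smul allO_smul) (fun σ _ B X => crossInv_smul σ B X) TrioOct.table
    (table_cross TrioOct.cert_ok TrioOct.table_ok) (by decide) ?_ ?_
  · intro c hc
    refine octRoot_spec (f := (fun _ => true)) (fun o _ => iff_of_true trivial rfl) ?_
    have h : TrioOct.classes.all (fun c => octRoot (fun _ => true) c.root) = true := by decide +kernel
    exact List.all_eq_true.1 h c hc
  · rw [ncard_KOct_eq (f := (fun _ => true)) (fun o _ => iff_of_true trivial rfl)]
    decide +kernel

/-- Reference description TrioSex. -/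
theorem specTrioSex : Spec (KSex) crossInv (fam TrioSex.base) TrioSex.table := by
  refine spec_of_cert TrioSex.cert_ok (KSex_smul) (fun σ _ B X => crossInv_smul σ B X) TrioSex.table
    (table_cross TrioSex.cert_ok TrioSex.table_ok) (by decide) ?_ ?_
  · intro c hc
    have h : TrioSex.classes.all (fun c => sexL c.root) = true := by decide +kernel
    exact sexL_spec (List.all_eq_true.1 h c hc)
  · exact le_of_eq ncard_sextets

/-- Reference description TrioTrio. -/
theorem specTrioTrio : Spec (KTrio) crossInv (fam TrioTrio.base) TrioTrio.table := by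
  refine spec_of_cert TrioTrio.cert_ok (KTrio_smul) (fun σ _ B X => crossInv_smul σ B X) TrioTrio.table
    (table_cross TrioTrio.cert_ok TrioTrio.table_ok) (by decide) ?_ ?_
  · intro c hc
    have h : TrioTrio.classes.all (fun c => trioL c.root) = true := by decide +kernel
    exact trioL_spec (List.all_eq_true.1 h c hc)
  · exact le_of_eq ncard_trios

/-- Reference description XOctIn. -/
theorem specXOctIn : Spec (KOct throughPt) crossInv (fam XOctIn.base) XOctIn.table := by
  have hA : goodRep XOctIn.base = true := by decide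
  have hf : ∀ o, o ∈ octads → (throughPt (fam XOctIn.base) o ↔ (fun o => XOctIn.base.all fun a => !(Nat.beq (popc a) 1) || Nat.beq (a &&& o) a) (mask o) = true) := by
    intro o _
    have sub : ∀ m ∈ XOctIn.base, (toSet m ⊆ o ↔ m &&& mask o = m) := fun m hm => by
      rw [subset_toSet_iff ((goodRep_spec _ hA).2 m hm), Nat.beq_eq]
    simp only [throughPt, forall_fam hA, List.all_eq_true, Bool.and_eq_true, Bool.or_eq_true,
      Bool.not_eq_true', ← Bool.not_eq_true, Nat.beq_eq, ← imp_iff_not_or]
    exact forall₂_congr fun m hm => imp_congr_right fun _ => sub m hm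
  refine spec_of_cert XOctIn.cert_ok (KOct_smul throughPt_smul) (fun σ _ B X => crossInv_smul σ B X) XOctIn.table
    (table_cross XOctIn.cert_ok XOctIn.table_ok) (by decide) ?_ ?_
  · intro c hc
    refine octRoot_spec (f := (fun o => XOctIn.base.all fun a => !(Nat.beq (popc a) 1) || Nat.beq (a &&& o) a)) hf ?_
    have h : XOctIn.classes.all (fun c => octRoot (fun o => XOctIn.base.all fun a => !(Nat.beq (popc a) 1) || Nat.beq (a &&& o) a) c.root) = true := by decide +kernel
    exact List.all_eq_true.1 h c hc
  · rw [ncard_KOct_eq (f := (fun o => XOctIn.base.all fun a => !(Nat.beq (popc a) 1) || Nat.beq (a &&& o) a)) hf]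
    decide +kernel

/-- Reference description XOctOut. -/
theorem specXOctOut : Spec (KOct avoidPt) crossInv (fam XOctOut.base) XOctOut.table := by
  have hA : goodRep XOctOut.base = true := by decide
  have hf : ∀ o, o ∈ octads → (avoidPt (fam XOctOut.base) o ↔ (fun o => XOctOut.base.all fun a => !(Nat.beq (popc a) 1) || !(Nat.beq (a &&& o) a)) (mask o) = true) := by
    intro o _
    have sub : ∀ m ∈ XOctOut.base, (toSet m ⊆ o ↔ m &&& mask o = m) := fun m hm => by
      rw [subset_toSet_iff ((goodRep_spec _ hA).2 m hm), Nat.beq_eq]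
    simp only [avoidPt, forall_fam hA, List.all_eq_true, Bool.and_eq_true, Bool.or_eq_true,
      Bool.not_eq_true', ← Bool.not_eq_true, Nat.beq_eq, ← imp_iff_not_or]
    exact forall₂_congr fun m hm => imp_congr_right fun _ => not_congr (sub m hm)
  refine spec_of_cert XOctOut.cert_ok (KOct_smul avoidPt_smul) (fun σ _ B X => crossInv_smul σ B X) XOctOut.table
    (table_cross XOctOut.cert_ok XOctOut.table_ok) (by decide) ?_ ?_
  · intro c hc
    refine octRoot_spec (f := (fun o => XOctOut.base.all fun a => !(Nat.beq (popc a) 1) || !(Nat.beq (a &&& o) a))) hf ?_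
    have h : XOctOut.classes.all (fun c => octRoot (fun o => XOctOut.base.all fun a => !(Nat.beq (popc a) 1) || !(Nat.beq (a &&& o) a)) c.root) = true := by decide +kernel
    exact List.all_eq_true.1 h c hc
  · rw [ncard_KOct_eq (f := (fun o => XOctOut.base.all fun a => !(Nat.beq (popc a) 1) || !(Nat.beq (a &&& o) a))) hf]
    decide +kernel

end CfsgLib.Golay.Suborb
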