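/-
Suborbit descriptions at arbitrary families.
-/
import Cfsg.Agent.Golay.Specs

set_option autoImplicit false

namespace CfsgLib.Golay.Suborb

open Cfsg
open scoped Pointwise

variable {K : Fam → Set Fam} {Inv : Fam → Fam → ℕ} {L : List (ℕ × ℕ)}

theorem at_octad {b : ℕ} (hb : octL b = true) (S : Spec K Inv (fam [b]) L) {o : Finset GolayPt}
    (ho : o ∈ octads) : Spec K Inv ({o} : Fam) L := by
  obtain ⟨g, hg, rfl⟩ := exists_map_octad (octL_spec hb) ho
  have := S.smul hg
  rwa [fam_singleton, Finset.smul_finset_singleton] at this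

theorem at_set {b k : ℕ} (hk : k ≤ 5) (hb : (toSet b).card = k) (S : Spec K Inv (fam [b]) L)
    {s : Finset GolayPt} (hs : s.card = k) : Spec K Inv ({s} : Fam) L := by
  obtain ⟨g, hg, rfl⟩ := exists_map_set (s := toSet b) (t := s) (by omega) (hb.trans hs.symm)
  have := S.smul hg
  rwa [fam_singleton, Finset.smul_finset_singleton] at this

theorem exists_map_trio {T T' : Fam} (hT : T ∈ trios) (hT' : T' ∈ trios) :
    ∃ g ∈ M24, g • T = T' := by
  obtain ⟨o, ho⟩ := Finset.card_pos.1 (by rw [hT.1]; omega : 0 < T.card)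
  obtain ⟨u, hu, hne⟩ := exists_other hT ho
  obtain ⟨o', ho'⟩ := Finset.card_pos.1 (by rw [hT'.1]; omega : 0 < T'.card)
  obtain ⟨u', hu', hne'⟩ := exists_other hT' ho'
  obtain ⟨g, hg, e⟩ := exists_map_octad (hT.2.1 o ho) (hT'.2.1 o' ho')
  have hd : (o ∩ u).card = (o' ∩ g • u).card := by
    rw [← e, ← Finset.smul_finset_inter, Finset.card_smul_finset]
  have h0 : (o ∩ u).card = (o' ∩ u').card := by
    rw [Finset.disjoint_iff_inter_eq_empty.1 (hT.2.2 o ho u hu hne.symm),
      Finset.disjoint_iff_inter_eq_empty.1 (hT'.2.2 o' ho' u' hu' hne'.symm)]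
  obtain ⟨σ, hσ, hσo, hσu⟩ := OctStab.trans_pair (hT'.2.1 o' ho')
    (smul_mem_octads hg (hT.2.1 u hu)) (hT'.2.1 u' hu') (hd.symm.trans h0)
  exact ⟨σ * g, mul_mem hσ hg, by
    rw [mul_smul, eq_mkTrio hT ho hu hne.symm, smul_mkTrio, smul_mkTrio, e, hσo, hσu,
      ← eq_mkTrio hT' ho' hu' hne'.symm]⟩

theorem at_trio {b : List ℕ} (hb : trioL b = true) (S : Spec K Inv (fam b) L) {T : Fam}
    (hT : T ∈ trios) : Spec K Inv T L := by
  obtain ⟨g, hg, rfl⟩ := exists_map_trio (trioL_spec hb) hT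
  exact S.smul hg

theorem exists_map_sextet {S S' : Fam} (hS : S ∈ sextets) (hS' : S' ∈ sextets) :
    ∃ g ∈ M24, g • S = S' := by
  obtain ⟨t, ht⟩ := Finset.card_pos.1 (by rw [hS.1]; omega : 0 < S.card)
  obtain ⟨u, hu⟩ := Finset.card_pos.1 (by rw [hS'.1]; omega : 0 < S'.card)
  obtain ⟨g, hg, e⟩ := exists_map_set (s := t) (t := u) (by rw [hS.2.1 t ht]; omega)
    (by rw [hS.2.1 t ht, hS'.2.1 u hu])
  exact ⟨g, hg, by
    rw [eq_sextetOf hS' hu]
    exact eq_sextetOf (smul_mem_sextets hg hS) (e ▸ Finset.smul_mem_smul_finset ht)⟩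

theorem at_sextet {b : List ℕ} (hb : sexL b = true) (S : Spec K Inv (fam b) L) {X : Fam}
    (hX : X ∈ sextets) : Spec K Inv X L := by
  obtain ⟨g, hg, rfl⟩ := exists_map_sextet (sexL_spec hb) hX
  exact S.smul hg

theorem at_dodPair {b : List ℕ} (hb : dodL b = true) (S : Spec K Inv (fam b) L) {d : Finset GolayPt}
    (hd : d ∈ dodecads) : Spec K Inv ({d, dᶜ} : Fam) L := by
  obtain ⟨d₀, hd₀, e⟩ := dodL_spec (∅ : Fam) hb
  obtain ⟨g, hg, rfl⟩ := DodStab.exists_map_dodecad hd₀ hd
  have := S.smul hg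
  rw [← e] at this
  simpa [Finset.smul_finset_insert, Finset.smul_finset_singleton, smul_compl] using this

theorem O_eq_of_base {o : Finset GolayPt} (ho : o ∈ octads) {σ : Equiv.Perm GolayPt} (hσ : σ ∈ M24)
    (x : Fin 5 → GolayPt) (hx : ∀ i, x i ∈ o) (hσx : ∀ i, σ (x i) = baseFive i) : σ • o = OctStab.O := by
  refine octad_unique (s := Finset.univ.image baseFive) (smul_mem_octads hσ ho) OctStab.O_mem
    (by decide +kernel) (fun p hp => ?_) (fun p hp => ?_)
  · obtain ⟨i, -, rfl⟩ := Finset.mem_image.1 hp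
    rw [← hσx i]
    exact Finset.smul_mem_smul_finset (a := σ) (hx i)
  · obtain ⟨i, -, rfl⟩ := Finset.mem_image.1 hp
    revert hp; revert i; decide +kernel

/-- An element carrying an octad and points in it to the reference octad and base points. -/
theorem exists_oct_base {o : Finset GolayPt} (ho : o ∈ octads) {p q : GolayPt} (hp : p ∈ o)
    (hq : q ∈ o) (hpq : p ≠ q) :
    ∃ σ ∈ M24, σ p = ptN 23 ∧ σ q = ptN 0 ∧ σ • o = OctStab.O := by
  have h6 : ((o.erase p).erase q).card = 6 := by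
    rw [Finset.card_erase_of_mem (Finset.mem_erase.2 ⟨hpq.symm, hq⟩), Finset.card_erase_of_mem hp,
      card_of_mem_octads ho]
  obtain ⟨s, hs, hsc⟩ := Finset.exists_subset_card_eq (s := (o.erase p).erase q) (n := 3) (by omega)
  let e : Fin 3 ↪ GolayPt := (s.equivFinOfCardEq hsc).symm.toEmbedding.trans (Function.Embedding.subtype _)
  let x : Fin 5 → GolayPt := Fin.cons p (Fin.cons q e)
  have hem : ∀ i, e i ∈ (o.erase p).erase q := fun i => hs ((s.equivFinOfCardEq hsc).symm i).2
  have hinj : Function.Injective x := by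
    refine Fin.cons_injective_iff.2 ⟨?_, Fin.cons_injective_iff.2 ⟨?_, e.injective⟩⟩
    · rintro ⟨i, hi⟩
      refine Fin.cases (fun h => hpq ?_) (fun j h => ?_) i hi
      · simpa using h.symm
      · have := hem j
        simp only [Fin.cons_succ] at h
        simp [h] at this
    · rintro ⟨i, hi⟩
      have := hem i
      simp [hi] at this
  obtain ⟨σ, hσ, hσx⟩ := exists_map_tuple (n := 5) le_rfl x baseFive hinj (by decide +kernel)
  have hmem : ∀ i, x i ∈ o := fun i => by
    refine Fin.cases hp (fun i => Fin.cases hq (fun i => ?_) i) i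
    simp only [x, Fin.cons_succ]
    exact Finset.mem_of_mem_erase (Finset.mem_of_mem_erase (hem i))
  refine ⟨σ, hσ, (hσx 0).trans (by decide +kernel), (hσx 1).trans (by decide +kernel), O_eq_of_base ho hσ x hmem hσx⟩

theorem smul_single (σ : Equiv.Perm GolayPt) (p : GolayPt) :
    σ • ({p} : Finset GolayPt) = {σ p} := Finset.smul_finset_singleton p

theorem smul_duo (σ : Equiv.Perm GolayPt) (p q : GolayPt) :
    σ • ({p, q} : Finset GolayPt) = {σ p, σ q} := by
  simp [Finset.smul_finset_insert, smul_single]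

/-- Transport from the reference family along an element mapping a given family onto it. -/
theorem at_fam {A B : Fam} (S : Spec K Inv B L) {σ : Equiv.Perm GolayPt} (hσ : σ ∈ M24)
    (h : σ • A = B) : Spec K Inv A L := by
  have := S.smul (inv_mem hσ)
  rwa [← h, inv_smul_smul] at this

theorem at_pqOct {p q : GolayPt} (hpq : p ≠ q) {o : Finset GolayPt} (ho : o ∈ octads) (hp : p ∈ o)
    (hq : q ∈ o) : Spec (KOct throughPair) crossInv ({{p}, {p, q}, o} : Fam) PQOct.table := by
  obtain ⟨σ, hσ, h1, h2, h3⟩ := exists_oct_base ho hp hq hpq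
  refine at_fam specPQOct hσ ?_
  simp only [Finset.smul_finset_insert, Finset.smul_finset_singleton, Equiv.Perm.smul_def, smul_duo, h1, h2, h3]
  decide +kernel

theorem exists_map_duo {p q : GolayPt} (hpq : p ≠ q) :
    ∃ σ ∈ M24, σ p = ptN 23 ∧ σ q = ptN 0 := by
  obtain ⟨σ, hσ, h⟩ := exists_map_tuple (n := 2) (by omega) ![p, q] ![ptN 23, ptN 0]
    (by intro i j e; fin_cases i <;> fin_cases j <;> simp_all) (by decide +kernel)
  exact ⟨σ, hσ, h 0, h 1⟩

theorem at_pqTrans {p q : GolayPt} (hpq : p ≠ q) :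
    Spec (KOct pointNotPair) crossInv ({{p}, {p, q}} : Fam) PQTrans.table := by
  obtain ⟨σ, hσ, h1, h2⟩ := exists_map_duo hpq
  refine at_fam specPQTrans hσ ?_
  simp only [Finset.smul_finset_insert, Finset.smul_finset_singleton, Equiv.Perm.smul_def, smul_duo, h1, h2]
  decide +kernel

theorem card_le_one_imp {A : Fam} {o : Finset GolayPt} {p q : GolayPt} (hpq : p ≠ q)
    (hA : A = {{p}, {p, q}}) : pointNotPair A o ↔ p ∈ o ∧ q ∉ o := by
  subst hA
  simp only [pointNotPair, Finset.forall_mem_insert, Finset.mem_singleton, forall_eq,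
    Finset.card_singleton, Finset.card_pair hpq, Finset.singleton_subset_iff, Finset.insert_subset_iff]
  constructor
  · rintro ⟨⟨h1, -⟩, -, h2⟩
    exact ⟨h1 trivial, fun hq => h2 trivial ⟨h1 trivial, hq⟩⟩
  · rintro ⟨h1, h2⟩
    exact ⟨⟨fun _ => h1, fun e => absurd e (by omega)⟩, fun e => absurd e (by omega), fun _ h => h2 h.2⟩

theorem trans_pq_not {p q : GolayPt} (hpq : p ≠ q) {o o' : Finset GolayPt} (ho : o ∈ octads)
    (ho' : o' ∈ octads) (hp : p ∈ o) (hq : q ∉ o) (hp' : p ∈ o') (hq' : q ∉ o') :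
    ∃ σ ∈ M24, σ p = p ∧ σ q = q ∧ σ • o = o' := by
  have S := at_pqTrans hpq
  have m1 : ({o} : Fam) ∈ KOct pointNotPair ({{p}, {p, q}} : Fam) :=
    KOct_mem.2 ⟨ho, (card_le_one_imp hpq rfl).2 ⟨hp, hq⟩⟩
  have m2 : ({o'} : Fam) ∈ KOct pointNotPair ({{p}, {p, q}} : Fam) :=
    KOct_mem.2 ⟨ho', (card_le_one_imp hpq rfl).2 ⟨hp', hq'⟩⟩
  have c1 := S.cover _ m1
  have c2 := S.cover _ m2
  simp only [PQTrans.table, List.map_cons, List.map_nil, List.mem_singleton] at c1 c2
  obtain ⟨σ, hσ, hA, e⟩ := S.trans _ m1 _ m2 (c1.trans c2.symm)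
  rw [Finset.smul_finset_singleton, Finset.singleton_inj] at e
  have hp1 : ({σ p} : Finset GolayPt) ∈ ({{p}, {p, q}} : Fam) := by
    rw [← hA, ← smul_single]; exact Finset.smul_mem_smul_finset (by simp)
  have hpp : σ p = p := by
    simp only [Finset.mem_insert, Finset.mem_singleton] at hp1
    rcases hp1 with h | h
    · exact Finset.singleton_injective h
    · have := congrArg Finset.card h
      rw [Finset.card_singleton, Finset.card_pair hpq] at this
      omega
  have hq1 : ({σ p, σ q} : Finset GolayPt) ∈ ({{p}, {p, q}} : Fam) := by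
    rw [← hA, ← smul_duo]; exact Finset.smul_mem_smul_finset (by simp)
  refine ⟨σ, hσ, hpp, ?_, e⟩
  rw [hpp] at hq1
  simp only [Finset.mem_insert, Finset.mem_singleton] at hq1
  rcases hq1 with h | h
  · have := congrArg Finset.card h
    rw [Finset.card_singleton, Finset.card_pair (fun e => hpq (σ.injective (hpp.trans e)))] at this
    omega
  · have : σ q ∈ ({p, q} : Finset GolayPt) := by rw [← h]; simp
    simp only [Finset.mem_insert, Finset.mem_singleton] at this
    exact this.resolve_left fun e => hpq (σ.injective (hpp.trans e.symm))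

theorem at_pqOctSub {p q : GolayPt} (hpq : p ≠ q) {o : Finset GolayPt} (ho : o ∈ octads) (hp : p ∈ o)
    (hq : q ∉ o) : Spec (KOct pointNotPair) crossInv ({{p}, {p, q}, o} : Fam) PQOctSub.table := by
  obtain ⟨σ, hσ, h1, h2⟩ := exists_map_duo hpq
  have hp' : ptN 23 ∈ σ • o := h1 ▸ Finset.smul_mem_smul_finset (a := σ) hp
  have hq' : ptN 0 ∉ σ • o := fun h => hq ((Finset.smul_mem_smul_finset_iff σ).1
    (by rwa [Equiv.Perm.smul_def, h2]))
  obtain ⟨τ, hτ, t1, t2, t3⟩ := trans_pq_not (p := ptN 23) (q := ptN 0) (by decide +kernel)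
    (smul_mem_octads hσ ho) (octL_spec (m := 13938692) (by decide +kernel)) hp' hq'
    (by decide +kernel) (by decide +kernel)
  refine at_fam specPQOctSub (mul_mem hτ hσ) ?_
  simp only [mul_smul, Finset.smul_finset_insert, Finset.smul_finset_singleton, Equiv.Perm.smul_def, smul_duo,
    h1, h2, t1, t2, t3]
  decide +kernel

theorem at_xOctIn {x : GolayPt} {o : Finset GolayPt} (ho : o ∈ octads) (hx : x ∈ o) :
    Spec (KOct throughPt) crossInv ({{x}, o} : Fam) XOctIn.table := by
  obtain ⟨q, hq, hne⟩ := Finset.exists_mem_ne (by rw [card_of_mem_octads ho]; omega : 1 < o.card) x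
  obtain ⟨σ, hσ, h1, -, h3⟩ := exists_oct_base ho hx hq hne.symm
  refine at_fam specXOctIn hσ ?_
  simp only [Finset.smul_finset_insert, Finset.smul_finset_singleton, Equiv.Perm.smul_def, h1, h3]
  decide +kernel

theorem at_xOctOut {x : GolayPt} {o : Finset GolayPt} (ho : o ∈ octads) (hx : x ∉ o) :
    Spec (KOct avoidPt) crossInv ({{x}, o} : Fam) XOctOut.table := by
  obtain ⟨g, hg, e⟩ := exists_map_octad ho OctStab.O_mem
  have hgx : g x ∉ OctStab.O := fun h => hx ((Finset.smul_mem_smul_finset_iff g).1 (e.symm ▸ h))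
  have hm : ∀ p : GolayPt, p ∉ OctStab.O → mask {p} ∈ ptMasks octO false := fun p hp =>
    mask_mem_ptMasks (by rw [← Bool.not_eq_true]; exact fun h => hp (mem_toSet.2 h))
  obtain ⟨τ, hτ, et⟩ := exists_map_of_orbitOk OctStab.fix_lt (by omega) OctStab.gens_ok OctStab.okPtOut
    (hm _ hgx) (hm (ptN 1) (by decide +kernel))
  obtain ⟨hτM, hτO⟩ := OctStab.of_mem hτ
  rw [smul_single] at et
  refine at_fam specXOctOut (mul_mem hτM hg) ?_
  simp only [mul_smul, Finset.smul_finset_insert, Finset.smul_finset_singleton, e, hτO, Equiv.Perm.smul_def, et]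
  decide +kernel

theorem at_pqs {p q : GolayPt} (hpq : p ≠ q) {s : Finset GolayPt} (hs : s.card = 2) (hp : p ∉ s)
    (hq : q ∉ s) : Spec KPairOff inv2 ({{p}, {p, q}, {p, q} ∪ s} : Fam) PQS.table := by
  obtain ⟨u, v, huv, rfl⟩ := Finset.card_eq_two.1 hs
  simp only [Finset.mem_insert, Finset.mem_singleton, not_or] at hp hq
  obtain ⟨σ, hσ, h⟩ := exists_map_tuple (n := 4) (by omega) ![p, q, u, v]
    ![ptN 23, ptN 0, ptN 2, ptN 4]
    (by
      intro i j e
      fin_cases i <;> fin_cases j <;>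
        first
          | rfl
          | exact absurd e hpq | exact absurd e hpq.symm
          | exact absurd e huv | exact absurd e huv.symm
          | exact absurd e hp.1 | exact absurd e (Ne.symm hp.1)
          | exact absurd e hp.2 | exact absurd e (Ne.symm hp.2)
          | exact absurd e hq.1 | exact absurd e (Ne.symm hq.1)
          | exact absurd e hq.2 | exact absurd e (Ne.symm hq.2))
    (by decide +kernel)
  have h1 : σ p = ptN 23 := h 0
  have h2 : σ q = ptN 0 := h 1
  have h3 : σ u = ptN 2 := h 2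
  have h4 : σ v = ptN 4 := h 3
  refine at_fam specPQS hσ ?_
  simp only [Finset.smul_finset_insert, Finset.smul_finset_singleton, Finset.smul_finset_union,
    Equiv.Perm.smul_def, smul_duo, h1, h2, h3, h4]
  decide +kernel

/-- An element fixing `{{p}, {p, q}, a}` setwise fixes the points and the set, when `a` is bigger. -/
theorem fix_three {σ : Equiv.Perm GolayPt} {p q : GolayPt} {a : Finset GolayPt} (hpq : p ≠ q)
    (ha : 2 < a.card) (h : σ • ({{p}, {p, q}, a} : Fam) = {{p}, {p, q}, a}) :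
    σ p = p ∧ σ q = q ∧ σ • a = a := by
  have mem : ∀ x ∈ ({{p}, {p, q}, a} : Fam), σ • x ∈ ({{p}, {p, q}, a} : Fam) := fun x hx => by
    have := Finset.smul_mem_smul_finset (a := σ) hx
    rwa [h] at this
  have c : ∀ x, x ∈ ({{p}, {p, q}, a} : Fam) → (x.card = 1 → x = {p}) ∧ (x.card = 2 → x = {p, q}) ∧
      (2 < x.card → x = a) := by
    intro x hx
    simp only [Finset.mem_insert, Finset.mem_singleton] at hx
    rcases hx with rfl | rfl | rfl <;> simp [Finset.card_pair hpq] <;> omega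
  have e1 : σ p = p := by
    have := (c _ (mem {p} (by simp))).1 (by rw [Finset.card_smul_finset, Finset.card_singleton])
    rw [smul_single] at this
    exact Finset.singleton_injective this
  have e2 := (c _ (mem {p, q} (by simp))).2.1 (by rw [Finset.card_smul_finset, Finset.card_pair hpq])
  refine ⟨e1, ?_, (c _ (mem a (by simp))).2.2 (by rwa [Finset.card_smul_finset])⟩
  have : σ q ∈ ({p, q} : Finset GolayPt) := by rw [← e2, smul_duo]; simp
  simp only [Finset.mem_insert, Finset.mem_singleton] at this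
  exact this.resolve_left fun e => hpq (σ.injective (e1.trans e.symm))

theorem fix_two {σ : Equiv.Perm GolayPt} {p : GolayPt} {a : Finset GolayPt}
    (ha : 1 < a.card) (h : σ • ({{p}, a} : Fam) = {{p}, a}) : σ p = p ∧ σ • a = a := by
  have mem : ∀ x ∈ ({{p}, a} : Fam), σ • x ∈ ({{p}, a} : Fam) := fun x hx => by
    have := Finset.smul_mem_smul_finset (a := σ) hx
    rwa [h] at this
  have m1 := mem {p} (by simp)
  have m2 := mem a (by simp)
  rw [smul_single] at m1
  simp only [Finset.mem_insert, Finset.mem_singleton] at m1 m2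
  refine ⟨Finset.singleton_injective (m1.resolve_right fun e => ?_), m2.resolve_left fun e => ?_⟩
  · rw [← e, Finset.card_singleton] at ha; omega
  · have := congrArg Finset.card e
    rw [Finset.card_smul_finset, Finset.card_singleton] at this
    omega

theorem Spec.size_value {A : Fam} (S : Spec K Inv A L) {v n : ℕ} (h : (v, n) ∈ L) :
    {X | X ∈ K A ∧ Inv A X = v}.ncard = n := S.size (v, n) h

/-- Counting octads in a class. -/
theorem Spec.size_octads {P : Fam → Finset GolayPt → Prop} {A : Fam} (S : Spec (KOct P) Inv A L)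
    {v n : ℕ} (h : (v, n) ∈ L) {R : Finset GolayPt → Prop}
    (hR : ∀ x, R x ↔ (x ∈ octads ∧ P A x) ∧ Inv A {x} = v) : {x | R x}.ncard = n := by
  rw [← S.size_value h, ← Set.ncard_image_of_injective {x | R x} Finset.singleton_injective]
  congr 1
  ext X
  constructor
  · rintro ⟨x, hx, rfl⟩
    exact ⟨KOct_mem.2 ((hR x).1 hx).1, ((hR x).1 hx).2⟩
  · rintro ⟨⟨x, hx, rfl⟩, hv⟩
    exact ⟨x, (hR x).2 ⟨hx, hv⟩, rfl⟩

theorem Spec.trans_octads {P : Fam → Finset GolayPt → Prop} {A : Fam} (S : Spec (KOct P) Inv A L)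
    {x y : Finset GolayPt} (hx : x ∈ octads) (hx' : P A x) (hy : y ∈ octads) (hy' : P A y)
    (h : Inv A {x} = Inv A {y}) : ∃ σ ∈ M24, σ • A = A ∧ σ • x = y := by
  obtain ⟨σ, hσ, hA, e⟩ := S.trans _ (KOct_mem.2 ⟨hx, hx'⟩) _ (KOct_mem.2 ⟨hy, hy'⟩) h
  rw [Finset.smul_finset_singleton, Finset.singleton_inj] at e
  exact ⟨σ, hσ, hA, e⟩

end CfsgLib.Golay.Suborb
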