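/-
Consequences of suborbit descriptions used in the statements.
-/
import Cfsg.Agent.Golay.Position

set_option autoImplicit false

namespace CfsgLib.Golay.Suborb

open Cfsg
open scoped Pointwise

variable {K : Fam → Set Fam} {Inv : Fam → Fam → ℕ} {A : Fam} {L : List (ℕ × ℕ)}

theorem Spec.self_class (S : Spec K Inv A L) (hA : A ∈ K A) (he : (Inv A A, 1) ∈ L) :
    {Y | Y ∈ K A ∧ Inv A Y = Inv A A} = {A} := by
  obtain ⟨x, hx⟩ := Set.ncard_eq_one.1 (S.size _ he)
  have hm : A ∈ {Y | Y ∈ K A ∧ Inv A Y = Inv A A} := ⟨hA, rfl⟩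
  simp only at hx
  rw [hx, Set.mem_singleton_iff] at hm
  exact hx.trans (by rw [hm])

theorem self_sextet {S : Fam} (hS : S ∈ sextets) : crossInv S S = 1536 := by
  obtain ⟨g, -, rfl⟩ := exists_map_sextet (sexL_spec (l := SexSex.base) (by decide +kernel)) hS
  rw [crossInv_smul, crossInv_fam (by decide) (by decide)]
  decide +kernel

theorem self_trio {T : Fam} (hT : T ∈ trios) : crossInv T T = 12288 := by
  obtain ⟨g, -, rfl⟩ := exists_map_trio (trioL_spec (l := TrioTrio.base) (by decide +kernel)) hT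
  rw [crossInv_smul, crossInv_fam (by decide) (by decide)]
  decide +kernel

theorem self_dodPair {d : Finset GolayPt} (hd : d ∈ dodecads) :
    crossInv ({d, dᶜ} : Fam) {d, dᶜ} = 41472 := by
  have hc : d ≠ dᶜ := fun e => by
    obtain ⟨x, hx⟩ := Finset.card_pos.1 (by rw [card_of_mem_dodecads hd]; omega : 0 < d.card)
    exact Finset.mem_compl.1 (e ▸ hx) hx
  simp only [crossInv, Finset.sum_pair hc, Finset.inter_self, Finset.inter_compl,
    Finset.inter_comm dᶜ d, Finset.card_empty, Finset.card_compl, card_pt, card_of_mem_dodecads hd]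
  norm_num

theorem card_stab_octad {o : Finset GolayPt} (ho : o ∈ octads) :
    Nat.card ↥(MulAction.stabilizer M24 o) = 322560 := by
  have h := card_stab_mul_orbit o octads (by
    ext u
    constructor
    · rintro ⟨⟨σ, hσ⟩, rfl⟩
      exact smul_mem_octads hσ ho
    · intro hu
      obtain ⟨g, hg, e⟩ := exists_map_octad ho hu
      exact ⟨⟨g, hg⟩, e⟩)
  rw [ncard_octads] at h
  omega

theorem extCount_eq {A B : Fam} (U : Finset GolayPt) (hU : 5 ≤ U.card)
    (h : ∀ o : Finset GolayPt, (∀ a ∈ A ∪ B, a ⊆ o) ↔ U ⊆ o) :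
    ((∃ o ∈ octads, U ⊆ o) → extCount A B = 1) ∧ ((¬ ∃ o ∈ octads, U ⊆ o) → extCount A B = 0) := by
  obtain ⟨s, hs, hsc⟩ := Finset.exists_subset_card_eq hU
  constructor
  · rintro ⟨o, ho, hUo⟩
    rw [extCount, Set.ncard_eq_one]
    refine ⟨o, Set.eq_singleton_iff_unique_mem.2 ⟨⟨ho, (h o).2 hUo⟩, fun u hu => ?_⟩⟩
    exact octad_unique hu.1 ho (s := s) (by omega) (hs.trans ((h u).1 hu.2)) (hs.trans hUo)
  · intro hno
    rw [extCount, Set.ncard_eq_zero, Set.eq_empty_iff_forall_notMem]
    exact fun o ho => hno ⟨o, ho.1, (h o).1 ho.2⟩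

/-- The number of tetrads met by a set. -/
def meetCount (Y : Finset GolayPt) (S : Fam) : ℕ := (S.filter fun t => (t ∩ Y).Nonempty).card

theorem meetCount_smul (σ : Equiv.Perm GolayPt) (Y : Finset GolayPt) (S : Fam) :
    meetCount (σ • Y) (σ • S) = meetCount Y S := by
  rw [meetCount, meetCount, ← Finset.card_smul_finset σ (S.filter fun t => (t ∩ Y).Nonempty)]
  congr 1
  ext t
  simp only [Finset.mem_filter, Finset.mem_smul_finset]
  constructor
  · rintro ⟨⟨u, hu, rfl⟩, hne⟩
    rw [← Finset.smul_finset_inter, Finset.smul_finset_nonempty] at hne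
    exact ⟨u, ⟨hu, hne⟩, rfl⟩
  · rintro ⟨u, ⟨hu, hne⟩, rfl⟩
    refine ⟨⟨u, hu, rfl⟩, ?_⟩
    rw [← Finset.smul_finset_inter, Finset.smul_finset_nonempty]
    exact hne

theorem roots_meet : ∀ c ∈ TriSex.classes,
    (crossL TriSex.base c.root = 81 ∧ meetCount (toSet 8388613) (fam c.root) = 1) ∨
    (crossL TriSex.base c.root = 17 ∧ meetCount (toSet 8388613) (fam c.root) = 2) ∨
    (crossL TriSex.base c.root = 3 ∧ meetCount (toSet 8388613) (fam c.root) = 3) := by
  intro c hc
  simp only [TriSex.classes, List.mem_cons, List.not_mem_nil, or_false] at hc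
  rcases hc with rfl | rfl | rfl <;> decide +kernel

/-- The invariant of a sextet relative to a three-set determines the number of tetrads met. -/
theorem triSex_meet {Y : Finset GolayPt} (hY : Y.card = 3) {S : Fam} (hS : S ∈ sextets) :
    (crossInv {Y} S = 81 ∧ meetCount Y S = 1) ∨ (crossInv {Y} S = 17 ∧ meetCount Y S = 2) ∨
    (crossInv {Y} S = 3 ∧ meetCount Y S = 3) := by
  obtain ⟨g, hg, rfl⟩ := exists_map_set (s := toSet 8388613) (t := Y)
    (by rw [card_toSet (by omega)]; decide +kernel) (by rw [card_toSet (by omega), hY]; decide +kernel)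
  obtain ⟨S, hS', rfl⟩ : ∃ T ∈ sextets, g • T = S :=
    ⟨g⁻¹ • S, smul_mem_sextets (inv_mem hg) hS, smul_inv_smul g S⟩
  rw [show ({g • toSet 8388613} : Fam) = g • fam TriSex.base from
    (Finset.smul_finset_singleton (toSet 8388613)).symm, crossInv_smul, meetCount_smul]
  have hv := specTriSex.cover S hS'
  rw [table_cross TriSex.cert_ok TriSex.table_ok, List.map_map] at hv
  obtain ⟨c, hc, e⟩ := List.mem_map.1 hv
  have hgood : goodRep c.root = true := List.all_eq_true.1
    (show TriSex.classes.all (fun c => goodRep c.root) = true by decide +kernel) c hc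
  have hroot : fam c.root ∈ sextets := sexL_spec (List.all_eq_true.1
    (show TriSex.classes.all (fun c => sexL c.root) = true by decide +kernel) c hc)
  obtain ⟨σ, hσ, hA, e'⟩ := specTriSex.trans _ hroot _ hS' e
  have hY' : σ • toSet 8388613 = toSet 8388613 := by
    have : σ • fam TriSex.base = fam TriSex.base := hA
    rw [show fam TriSex.base = {toSet 8388613} from rfl, Finset.smul_finset_singleton,
      Finset.singleton_inj] at this
    exact this
  have em : meetCount (toSet 8388613) S = meetCount (toSet 8388613) (fam c.root) := by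
    rw [← e', ← meetCount_smul σ (toSet 8388613) (fam c.root), hY']
  have ev : crossInv (fam TriSex.base) S = crossL TriSex.base c.root := by
    rw [← crossInv_fam (show goodRep TriSex.base = true by decide) hgood]
    exact e.symm
  rw [em, ev]
  exact roots_meet c hc

end CfsgLib.Golay.Suborb
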