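/-
Six-element sets, and the pointwise stabilisers of six points.
-/
import Cfsg.Agent.Golay.OctStruct
import Cfsg.Agent.Golay.Position
import Cfsg.Agent.Golay.SuborbApp
import Cfsg.Agent.Golay.Norm
import Mathlib

set_option autoImplicit false

namespace CfsgLib.Golay.SixSets

open Cfsg CfsgLib.Golay MulAction CfsgLib.Golay.OctStruct
open scoped Pointwise

variable {o : Finset GolayPt}

theorem smul_eq_of_fix {g : Equiv.Perm GolayPt} {s : Finset GolayPt} (h : ∀ p ∈ s, g p = p) : g • s = s := by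
  refine Finset.eq_of_subset_of_card_le (fun x hx => ?_) (Finset.card_smul_finset g s).ge
  obtain ⟨y, hy, rfl⟩ := Finset.mem_smul_finset.1 hx
  rw [Equiv.Perm.smul_def, h y hy]; exact hy

/-- An element preserving an octad and fixing six of its points fixes all of them. -/
theorem mem_kernel_of_six (ho : o ∈ octads) {g : Equiv.Perm GolayPt} (hg : g ∈ M24) (hgo : g • o = o)
    {s : Finset GolayPt} (hso : s ⊆ o) (hs : 6 ≤ s.card) (hfix : ∀ p ∈ s, g p = p) : g ∈ kernel o := by
  classical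
  refine mem_kernel.2 ⟨hg, fun p hp => ?_⟩
  have hmem : restrict o ⟨g, hg, hgo⟩ ∈ alternatingGroup o := range_restrict ho ▸ ⟨_, rfl⟩
  rw [Equiv.Perm.mem_alternatingGroup] at hmem
  set e := restrict o ⟨g, hg, hgo⟩ with he
  by_contra hne
  have hsub : e.support.map (Function.Embedding.subtype _) ⊆ o \ s := by
    intro x hx
    obtain ⟨y, hy, rfl⟩ := Finset.mem_map.1 hx
    refine Finset.mem_sdiff.2 ⟨y.2, fun hys => Equiv.Perm.mem_support.1 hy (Subtype.ext ?_)⟩
    exact hfix _ hys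
  have hle := Finset.card_le_card hsub
  rw [Finset.card_map, Finset.card_sdiff_of_subset hso, card_of_mem_octads ho] at hle
  have hne1 : e ≠ 1 := fun h => hne (congrArg (fun f : Equiv.Perm o => (f ⟨p, hp⟩ : GolayPt)) h)
  have h2 := Equiv.Perm.two_le_card_support_of_ne_one hne1
  have hswap := Equiv.Perm.card_support_eq_two.1 (show e.support.card = 2 by omega)
  rw [hswap.sign_eq] at hmem
  exact absurd hmem (by decide)

theorem no_fix_data : OctStab.transl.all (fun t => (t == List.range 24) ||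
    ((octList.filter fun v => Nat.beq (popc (v &&& octO)) 2) ++
      (dodList.filter fun v => Nat.beq (popc (v &&& octO)) 6)).all fun v =>
        !(Nat.beq (Suborb.apMaskRec (bitsTab t) v) v)) = true := by decide +kernel

/-- No translation preserves an octad meeting `o` twice or a dodecad meeting it six times. -/
theorem kernel_no_fix (ho : o ∈ octads) {s : Finset GolayPt}
    (hs : (s ∈ octads ∧ (o ∩ s).card = 2) ∨ (s ∈ dodecads ∧ (o ∩ s).card = 6))
    {k : Equiv.Perm GolayPt} (hk : k ∈ kernel o) (hks : k • s = s) : k = 1 := by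
  obtain ⟨g, hg, eg, hfr⟩ := exists_frame ho
  have ht := (hfr _).1 (mem_kernel.1 hk)
  rw [transSet, List.mem_toFinset, List.mem_map] at ht
  obtain ⟨t, ht, et⟩ := ht
  have hv := (OctStab.transl_mem ht).1
  have h := List.all_eq_true.1 no_fix_data t ht
  rw [Bool.or_eq_true, beq_iff_eq, List.all_eq_true] at h
  rcases h with h | h
  · rw [h, Norm.permOf_range] at et
    calc k = g * (g⁻¹ * k * g) * g⁻¹ := by group
      _ = 1 := by rw [← et]; group
  exfalso
  have hmask : popc (mask (g⁻¹ • s) &&& octO) = (o ∩ s).card := by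
    rw [← mask_toSet OctStab.octO_lt, ← mask_inter, popc_mask, ← eg]
    conv_rhs => rw [← smul_inv_smul g s, ← Finset.smul_finset_inter, Finset.card_smul_finset]
    rw [Finset.inter_comm]
  have hin : mask (g⁻¹ • s) ∈ (octList.filter fun v => Nat.beq (popc (v &&& octO)) 2) ++
      (dodList.filter fun v => Nat.beq (popc (v &&& octO)) 6) := by
    simp only [List.mem_append, List.mem_filter, Nat.beq_eq, hmask]
    rcases hs with ⟨h1, h2⟩ | ⟨h1, h2⟩
    · exact Or.inl ⟨mem_octads_iff.1 (smul_mem_octads (inv_mem hg) h1), h2⟩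
    · exact Or.inr ⟨mem_dodecads_iff.1 (smul_mem_dodecads (inv_mem hg) h1), h2⟩
  have hb := h _ hin
  rw [Bool.not_eq_true', Suborb.apMaskRec_eq, show apMask (bitsTab t) = actTab t from rfl,
    ← mask_smul hv, et, mul_smul, mul_smul, smul_inv_smul, hks] at hb
  exact absurd hb (by simp)

/-- An element preserving an octad and such a set, fixing six points of the octad, is the identity. -/
theorem eq_one_of_six (ho : o ∈ octads) {s : Finset GolayPt}
    (hs : (s ∈ octads ∧ (o ∩ s).card = 2) ∨ (s ∈ dodecads ∧ (o ∩ s).card = 6))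
    {g : Equiv.Perm GolayPt} (hg : g ∈ M24) (hgo : g • o = o) (hgs : g • s = s) {u : Finset GolayPt}
    (huo : u ⊆ o) (hu : 6 ≤ u.card) (hfix : ∀ p ∈ u, g p = p) : g = 1 :=
  kernel_no_fix ho hs (mem_kernel_of_six ho hg hgo huo hu hfix) hgs

/-- The first six base points. -/
def baseSix : Fin 6 → GolayPt := fun i => basePts.getD i.val none

theorem baseSix_facts : (∀ i : Fin 5, baseSix i.castSucc ∈ OctStab.O) ∧
    (∀ i : Fin 5, baseSix i.castSucc = baseFive i) ∧ baseSix (Fin.last 5) = ptN (baseIdx.getD 5 0) ∧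
    (Finset.univ.image baseFive).card = 5 ∧ Finset.univ.image baseFive ⊆ OctStab.O ∧
    (List.range 24).all (fun j => octO.testBit j == !((target 5).contains j)) = true := by
  refine ⟨?_, fun _ => rfl, ?_, ?_, ?_, ?_⟩ <;> decide +kernel

theorem exists_to_baseSix (x : Fin 6 → GolayPt) (hx : Function.Injective x)
    (hno : ¬ ∃ o ∈ octads, ∀ i, x i ∈ o) : ∃ g ∈ M24, ∀ i, g (baseSix i) = x i := by
  obtain ⟨g, hg, hgi⟩ := exists_to_base 5 le_rfl (x ∘ Fin.castSucc) (hx.comp (Fin.castSucc_injective 5))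
  obtain ⟨h5, hc, hl, hcard, hsub, htar⟩ := baseSix_facts
  set q := g⁻¹ (x (Fin.last 5)) with hq
  have hqO : q ∉ OctStab.O := fun hqO => hno ⟨g • OctStab.O, smul_mem_octads hg OctStab.O_mem, fun i => by
    induction i using Fin.lastCases with
    | last =>
      rw [← Finset.inv_smul_mem_iff, Equiv.Perm.smul_def, ← hq]; exact hqO
    | cast i =>
      have := Finset.smul_mem_smul_finset (a := g) (h5 i)
      rwa [Equiv.Perm.smul_def, hc, show g (baseFive i) = x i.castSucc from hgi i] at this⟩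
  have hb := List.all_eq_true.1 htar _ (List.mem_range.2 (idx q).isLt)
  rw [beq_iff_eq, show octO.testBit (idx q).val = false by
    simpa [OctStab.O, mem_toSet] using hqO] at hb
  have hq' : (idx q).val ∈ target 5 := by simpa using hb
  have hcov := List.contains_iff_mem.1
    (List.all_eq_true.1 (List.all_eq_true.1 target_ok 5 (List.mem_range.2 (by omega))) _ hq')
  obtain ⟨t, ht, htf, htk⟩ := exists_transv (k := 5) (by omega) hcov
  refine ⟨g * t, mul_mem hg (genGroup_le ht), fun i => ?_⟩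
  induction i using Fin.lastCases with
  | last =>
    rw [Equiv.Perm.mul_apply, hl, idx_injective (Fin.ext htk), hq, Equiv.Perm.coe_inv, Equiv.apply_symm_apply]
  | cast i =>
    rw [Equiv.Perm.mul_apply, htf]
    · rw [hc]; exact hgi i
    · rw [hc]
      exact (by decide +kernel : ∀ i : Fin 5, baseFive i ∈ basePts.take 5) i

theorem exists_map_six (x y : Fin 6 → GolayPt) (hx : Function.Injective x) (hy : Function.Injective y)
    (hnx : ¬ ∃ o ∈ octads, ∀ i, x i ∈ o) (hny : ¬ ∃ o ∈ octads, ∀ i, y i ∈ o) :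
    ∃ g ∈ M24, ∀ i, g (x i) = y i := by
  obtain ⟨g, hg, hgx⟩ := exists_to_baseSix x hx hnx
  obtain ⟨h, hh, hhy⟩ := exists_to_baseSix y hy hny
  refine ⟨h * g⁻¹, mul_mem hh (inv_mem hg), fun i => ?_⟩
  rw [Equiv.Perm.mul_apply, ← hgx i, Equiv.Perm.coe_inv, Equiv.symm_apply_apply, hhy i]

variable {E : Finset GolayPt}

theorem induces_sym (hE : E.card = 6) (σ : Equiv.Perm E) : ∃ g ∈ M24, ∀ p : E, g p = σ p := by
  classical
  by_cases hin : ∃ o ∈ octads, E ⊆ o
  · obtain ⟨o, ho, hEo⟩ := hin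
    let f : E ≃ {x : o // x.1 ∈ E} :=
      ⟨fun p => ⟨⟨p.1, hEo p.2⟩, p.2⟩, fun x => ⟨x.1.1, x.2⟩, fun _ => rfl, fun _ => rfl⟩
    have hrest : 1 < (o \ E).card := by rw [Finset.card_sdiff_of_subset hEo, card_of_mem_octads ho]; omega
    obtain ⟨a, ha, b, hb, hab⟩ := Finset.one_lt_card.1 hrest
    rw [Finset.mem_sdiff] at ha hb
    set τ := σ.extendDomain f with hτ
    set e : Equiv.Perm o := if Equiv.Perm.sign σ = 1 then τ else τ * Equiv.swap ⟨a, ha.1⟩ ⟨b, hb.1⟩ with he
    have hsign : Equiv.Perm.sign e = 1 := by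
      rw [he]
      split_ifs with h
      · rw [hτ, Equiv.Perm.sign_extendDomain, h]
      · rw [map_mul, hτ, Equiv.Perm.sign_extendDomain, Equiv.Perm.sign_swap (fun h => hab (congrArg Subtype.val h)),
          (Int.units_eq_one_or _).resolve_left h]
        rfl
    have happ : ∀ p : E, e ⟨p.1, hEo p.2⟩ = ⟨(σ p).1, hEo (σ p).2⟩ := by
      intro p
      have h1 : τ ⟨p.1, hEo p.2⟩ = ⟨(σ p).1, hEo (σ p).2⟩ := by
        rw [hτ, show (⟨p.1, hEo p.2⟩ : o) = (f p : o) from rfl, Equiv.Perm.extendDomain_apply_image]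
        rfl
      rw [he]
      split_ifs with h
      · exact h1
      · rw [Equiv.Perm.mul_apply, Equiv.swap_apply_of_ne_of_ne, h1]
        · intro h; have h' : (p.1 : GolayPt) = a := congrArg Subtype.val h; exact ha.2 (h' ▸ p.2)
        · intro h; have h' : (p.1 : GolayPt) = b := congrArg Subtype.val h; exact hb.2 (h' ▸ p.2)
    have hmem : e ∈ (restrict o).range := by
      rw [range_restrict ho, Equiv.Perm.mem_alternatingGroup]; exact hsign
    obtain ⟨⟨g, hg, hgo⟩, hge⟩ := hmem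
    refine ⟨g, hg, fun p => ?_⟩
    refine (show g p.1 = (e ⟨p.1, hEo p.2⟩).1 from
      congrArg (fun e : Equiv.Perm o => (e ⟨p.1, hEo p.2⟩).1) hge).trans ?_
    rw [happ]
  · let x : Fin 6 → GolayPt := fun i => (E.equivFinOfCardEq hE).symm i
    have hx : Function.Injective x := Subtype.val_injective.comp (Equiv.injective _)
    let y : Fin 6 → GolayPt := fun i => σ ((E.equivFinOfCardEq hE).symm i)
    have hy : Function.Injective y := (Subtype.val_injective.comp σ.injective).comp (Equiv.injective _)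
    have hno : ∀ z : Fin 6 → GolayPt, (∀ p ∈ E, ∃ i, z i = p) → ¬ ∃ o ∈ octads, ∀ i, z i ∈ o :=
      fun z hz ⟨o, ho, h⟩ => hin ⟨o, ho, fun p hp => by obtain ⟨i, rfl⟩ := hz p hp; exact h i⟩
    obtain ⟨g, hg, hgi⟩ := exists_map_six x y hx hy
      (hno x fun p hp => ⟨E.equivFinOfCardEq hE ⟨p, hp⟩, by simp [x]⟩)
      (hno y fun p hp => ⟨E.equivFinOfCardEq hE (σ.symm ⟨p, hp⟩), by simp [y]⟩)
    refine ⟨g, hg, fun p => ?_⟩
    simpa [x, y] using hgi (E.equivFinOfCardEq hE p)

theorem card_fix_in (hE : E.card = 6) (ho : o ∈ octads) (hEo : E ⊆ o) :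
    Nat.card {g : Equiv.Perm GolayPt // g ∈ M24 ∧ ∀ p ∈ E, g p = p} = 16 := by
  rw [← card_kernel ho]
  refine Nat.card_congr (Equiv.subtypeEquivRight fun g => ?_)
  refine ⟨fun ⟨hg, hf⟩ => ?_, fun h => ⟨(mem_kernel.1 h).1, fun p hp => (mem_kernel.1 h).2 p (hEo hp)⟩⟩
  refine mem_kernel_of_six ho hg ?_ hEo (by omega) hf
  exact octad_unique (smul_mem_octads hg ho) ho (s := E) (by omega)
    (by conv_lhs => rw [← smul_eq_of_fix hf]
        exact Finset.smul_finset_subset_smul_finset hEo) hEo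

theorem card_fix_out (hE : E.card = 6) (hout : ¬ ∃ o ∈ octads, E ⊆ o) :
    Nat.card {g : Equiv.Perm GolayPt // g ∈ M24 ∧ ∀ p ∈ E, g p = p} = 3 := by
  let x : Fin 6 → GolayPt := fun i => (E.equivFinOfCardEq hE).symm i
  have hx : Function.Injective x := Subtype.val_injective.comp (Equiv.injective _)
  have hxE : ∀ p, p ∈ E ↔ ∃ i, x i = p := fun p =>
    ⟨fun hp => ⟨E.equivFinOfCardEq hE ⟨p, hp⟩, by simp [x]⟩, by rintro ⟨i, rfl⟩; exact Subtype.prop _⟩
  obtain ⟨g, hg, hgi⟩ := exists_to_baseSix x hx fun ⟨o, ho, h⟩ => hout ⟨o, ho, fun p hp => by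
    obtain ⟨i, rfl⟩ := (hxE p).1 hp; exact h i⟩
  have hlist : ∀ i : Fin 6, baseSix i ∈ basePts.take 6 := by decide +kernel
  have hlist' : ∀ p ∈ basePts.take 6, ∃ i : Fin 6, baseSix i = p := by decide +kernel
  rw [← card_chain.2.2.2.2.2.2]
  refine Nat.card_congr
    { toFun := fun h => ⟨g⁻¹ * h.1 * g, mem_chain.2 ⟨mul_mem (mul_mem (inv_mem hg) h.2.1) hg, fun p hp => ?_⟩⟩
      invFun := fun c => ⟨g * c.1 * g⁻¹, mul_mem (mul_mem hg (mem_chain.1 c.2).1) (inv_mem hg), fun p hp => ?_⟩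
      left_inv := fun h => Subtype.ext (by simp [mul_assoc])
      right_inv := fun t => Subtype.ext (by simp [mul_assoc]) }
  · obtain ⟨i, rfl⟩ := hlist' p hp
    rw [Equiv.Perm.mul_apply, Equiv.Perm.mul_apply, hgi, h.2.2 _ ((hxE _).2 ⟨i, rfl⟩), ← hgi i]
    exact g.symm_apply_apply _
  · obtain ⟨i, rfl⟩ := (hxE p).1 hp
    rw [Equiv.Perm.mul_apply, Equiv.Perm.mul_apply, ← hgi i]
    conv_lhs => rw [Equiv.Perm.coe_inv, Equiv.symm_apply_apply]
    rw [(mem_chain.1 c.2).2 _ (hlist i)]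

theorem card_stab_out (hE : E.card = 6) (hout : ¬ ∃ o ∈ octads, E ⊆ o) :
    Nat.card ↥(stabilizer M24 E) = 2160 := by
  classical
  let π : stabilizer M24 E →* Equiv.Perm E :=
    { toFun := fun g => (g.1.1 : Equiv.Perm GolayPt).subtypePerm fun x =>
        mem_iff_of_fix (show g.1.1 • E = E from g.2) x
      map_one' := by ext x; rfl
      map_mul' := fun g h => by ext x; rfl }
  have hsurj : Function.Surjective π := fun σ => by
    obtain ⟨g, hg, hgp⟩ := induces_sym hE σ
    refine ⟨⟨⟨g, hg⟩, ?_⟩, Equiv.ext fun p => Subtype.ext (hgp p)⟩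
    show g • E = E
    refine Finset.eq_of_subset_of_card_le (fun x hx => ?_) (Finset.card_smul_finset g E).ge
    obtain ⟨y, hy, rfl⟩ := Finset.mem_smul_finset.1 hx
    rw [Equiv.Perm.smul_def, show g y = σ ⟨y, hy⟩ from hgp ⟨y, hy⟩]
    exact Subtype.prop _
  have hker : Nat.card π.ker = 3 := by
    rw [← card_fix_out hE hout]
    refine Nat.card_congr
      { toFun := fun g => ⟨g.1.1.1, g.1.1.2, fun p hp => congrArg (fun e : Equiv.Perm E => (e ⟨p, hp⟩ : GolayPt)) g.2⟩
        invFun := fun h => ⟨⟨⟨h.1, h.2.1⟩, smul_eq_of_fix h.2.2⟩, Equiv.ext fun p => Subtype.ext (h.2.2 p p.2)⟩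
        left_inv := fun _ => rfl
        right_inv := fun _ => rfl }
  rw [← π.ker.card_mul_index, Subgroup.index_ker, hker, MonoidHom.range_eq_top.2 hsurj,
    Nat.card_congr Subgroup.topEquiv.toEquiv, Nat.card_perm, Nat.card_eq_finsetCard, hE]
  decide +kernel

end CfsgLib.Golay.SixSets
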