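/-
Tables used to exclude or identify subgroups of small index in two Mathieu groups.
-/
import Mathlib

set_option autoImplicit false

namespace CfsgLib.Golay.SubIndexData

/-- An element normalising a group of order five. -/
def y22 : List ℕ := [0, 5, 2, 17, 11, 1, 8, 13, 9, 16, 18, 12, 22, 10, 14, 21, 6, 3, 7, 20, 15, 19, 4, 23]

/-- An element of order seven in the stabiliser of a point. -/
def f23 : List ℕ := [7, 5, 13, 3, 2, 8, 6, 17, 11, 15, 12, 4, 20, 1, 9, 21, 18, 14, 22, 16, 19, 0, 10, 23]

/-- An element normalising it and interchanging its two fixed points. -/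
def w23 : List ℕ := [14, 16, 19, 6, 22, 12, 3, 0, 18, 15, 5, 20, 2, 10, 7, 17, 11, 9, 1, 13, 8, 21, 4, 23]

end CfsgLib.Golay.SubIndexData
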