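/-
Arithmetic of normalisers of Sylow subgroups of prime order, inside a group and inside a subgroup.
-/
import Mathlib

set_option autoImplicit false

namespace CfsgLib.Golay.SylowIndex

variable {G : Type*} [Group G] [Finite G] {p : ℕ} [Fact p.Prime]

/-- The counting constraint for a subgroup of prime order of index prime to `p`. -/
theorem card_normalizer (f : G) (hf : orderOf f = p) (hidx : ¬ p ∣ (Subgroup.zpowers f).index) :
    ∃ n, Nat.card G = n * Nat.card (Subgroup.normalizer (Subgroup.zpowers f : Set G)) ∧ n % p = 1 := by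
  have hp : p.Prime := Fact.out
  let P : Sylow p G :=
    (IsPGroup.of_card (n := 1) (by rw [Nat.card_zpowers, hf, pow_one]) : IsPGroup p (Subgroup.zpowers f)).toSylow hidx
  refine ⟨Nat.card (Sylow p G), ?_, ?_⟩
  · rw [P.card_eq_index_normalizer, ← Subgroup.index_mul_card (Subgroup.normalizer (Subgroup.zpowers f : Set G))]
    rfl
  · have := card_sylow_modEq_one p G
    rwa [Nat.ModEq, Nat.one_mod_eq_one.2 hp.ne_one] at this

/-- The same inside a subgroup containing the element. -/
theorem card_inf_normalizer (H : Subgroup G) (f : G) (hf : orderOf f = p) (hfH : f ∈ H)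
    (hidx : ¬ p ∣ (Subgroup.zpowers f).index) :
    ∃ h, Nat.card ↥(H ⊓ Subgroup.normalizer (Subgroup.zpowers f : Set G)) = h ∧ p ∣ h ∧
      h ∣ Nat.card (Subgroup.normalizer (Subgroup.zpowers f : Set G)) ∧
      ∃ n, Nat.card H = n * h ∧ n % p = 1 := by
  set C := Subgroup.zpowers f
  have hfi : orderOf (⟨f, hfH⟩ : H) = p := by rw [← Subgroup.orderOf_coe]; exact hf
  have hle : C ≤ H := Subgroup.zpowers_le.2 hfH
  have hCeq : Subgroup.zpowers (⟨f, hfH⟩ : H) = C.subgroupOf H := by
    refine Subgroup.eq_of_le_of_card_ge (Subgroup.zpowers_le.2 ?_) ?_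
    · exact Subgroup.mem_subgroupOf.2 (Subgroup.mem_zpowers f)
    · rw [Nat.card_congr (Subgroup.subgroupOfEquivOfLe hle).toEquiv, Nat.card_zpowers, Nat.card_zpowers, hf, hfi]
  have hidx' : ¬ p ∣ (Subgroup.zpowers (⟨f, hfH⟩ : H)).index := by
    rw [hCeq]
    exact fun h => hidx (h.trans ⟨H.index, (Subgroup.relIndex_mul_index hle).symm⟩)
  obtain ⟨n, hn, hn1⟩ := card_normalizer (⟨f, hfH⟩ : H) hfi hidx'
  have hN : Subgroup.normalizer (Subgroup.zpowers (⟨f, hfH⟩ : H) : Set H) =
      (Subgroup.normalizer (C : Set G)).subgroupOf H := by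
    rw [hCeq, Subgroup.subgroupOf_normalizer_eq hle]
  have hcard : Nat.card ((Subgroup.normalizer (C : Set G)).subgroupOf H) =
      Nat.card ↥(H ⊓ Subgroup.normalizer (C : Set G)) := by
    rw [← Subgroup.inf_subgroupOf_left]
    exact Nat.card_congr (Subgroup.subgroupOfEquivOfLe inf_le_left).toEquiv
  refine ⟨_, rfl, ?_, Subgroup.card_dvd_of_le inf_le_right, n, ?_, hn1⟩
  · rw [← hf, ← Nat.card_zpowers]
    exact Subgroup.card_dvd_of_le (le_inf hle Subgroup.le_normalizer)
  · rw [hn, hN, hcard]

/-- The normaliser is the centraliser times a divisor of `p - 1`. -/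
theorem card_normalizer_factor (f : G) (hf : orderOf f = p) :
    ∃ k, Nat.card (Subgroup.normalizer (Subgroup.zpowers f : Set G)) =
      Nat.card (Subgroup.centralizer (Subgroup.zpowers f : Set G)) * k ∧ k ∣ p - 1 ∧
      p ∣ Nat.card (Subgroup.centralizer (Subgroup.zpowers f : Set G)) := by
  set C := Subgroup.zpowers f
  set φ := C.normalizerMonoidHom with hφ
  have h := φ.ker.card_mul_index
  rw [Subgroup.index_ker, hφ, Subgroup.normalizerMonoidHom_ker] at h
  have hcle : Subgroup.centralizer (C : Set G) ≤ Subgroup.normalizer (C : Set G) :=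
    Subgroup.centralizer_le_normalizer _
  rw [Nat.card_congr (Subgroup.subgroupOfEquivOfLe hcle).toEquiv] at h
  refine ⟨_, h.symm, ?_, ?_⟩
  · have hd := Subgroup.card_subgroup_dvd_card C.normalizerMonoidHom.range
    rwa [IsCyclic.card_mulAut, Nat.card_zpowers, hf, Nat.totient_prime Fact.out] at hd
  · have hC : C ≤ Subgroup.centralizer (C : Set G) := fun x hx => Subgroup.mem_centralizer_iff.2 fun y hy => by
      obtain ⟨i, rfl⟩ := Subgroup.mem_zpowers_iff.1 hx
      obtain ⟨j, rfl⟩ := Subgroup.mem_zpowers_iff.1 hy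
      exact (Commute.zpow_zpow_self f j i).eq
    have := Subgroup.card_dvd_of_le hC
    rwa [Nat.card_zpowers, hf] at this

end CfsgLib.Golay.SylowIndex
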