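/-
Subgroups of index 56, 210 in a two-point stabiliser and of index 253 in a one-point stabiliser.
-/
import Cfsg.Agent.Golay.SubIndexData
import Cfsg.Agent.Golay.SylowIndex
import Cfsg.Agent.Golay.Simple
import Cfsg.Agent.Golay.Norm
import Cfsg.Agent.Golay.OctKernel
import Cfsg.Agent.Golay.ConjGL
import Mathlib

set_option autoImplicit false
set_option maxRecDepth 20000

namespace CfsgLib.Golay.SubIndex

open Cfsg CfsgLib.Golay MulAction
open scoped Pointwise

theorem card_centralizer_le {K : Subgroup (Equiv.Perm GolayPt)} (f : K) (a : GolayPt) (ha : f.1 a ≠ a)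
    (hfree : ∀ x ∈ K, x * f.1 = f.1 * x → x a = a → x = 1) :
    Nat.card (Subgroup.centralizer (Subgroup.zpowers f : Set K)) ≤
      (Finset.univ.filter fun p => f.1 p ≠ p).card := by
  classical
  have hcomm : ∀ c : Subgroup.centralizer (Subgroup.zpowers f : Set K), c.1.1 * f.1 = f.1 * c.1.1 := fun c =>
    congrArg Subtype.val ((Subgroup.mem_centralizer_iff.1 c.2) f (Subgroup.mem_zpowers f)).symm
  rw [← Nat.card_eq_finsetCard]
  refine Nat.card_le_card_of_injective (fun c => ⟨c.1.1 a, Finset.mem_filter.2 ⟨Finset.mem_univ _, fun h => ?_⟩⟩) fun c d e => ?_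
  · have := congrArg (fun g : Equiv.Perm GolayPt => g a) (hcomm c)
    simp only [Equiv.Perm.mul_apply] at this
    exact ha (c.1.1.injective (this.trans h))
  · have e' : c.1.1 a = d.1.1 a := congrArg Subtype.val e
    have h1 : (d.1.1)⁻¹ * c.1.1 = 1 := by
      refine hfree _ (mul_mem (inv_mem d.1.2) c.1.2) ?_ ?_
      · exact (Commute.mul_left (Commute.inv_left (hcomm d)) (hcomm c)).eq
      · rw [Equiv.Perm.mul_apply, e']; exact d.1.1.symm_apply_apply a
    exact Subtype.ext (Subtype.ext (inv_mul_eq_one.1 h1).symm)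

theorem free_of_sep {t : List ℕ} {fx : List ℕ} (htv : validTab t = true) (a : ℕ) (fixd : List ℕ)
    (hfx : fx.all (fun b => Nat.blt b 24 && (fixd.contains b ||
      (List.range 7).any fun i => Nat.beq ((fun x => t.getD x 0)^[i] a) b)) = true)
    (hnd : fx.Nodup) (hsep : Nat.beq (sepPts (sepPts fx)).length 24 = true) (ha : a < 24)
    {x : Equiv.Perm GolayPt} (hx : x ∈ M24) (hfixd : ∀ b ∈ fixd, x (ptN b) = ptN b)
    (hcomm : x * permOf t = permOf t * x) (hxa : x (ptN a) = ptN a) : x = 1 := by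
  simp only [List.all_eq_true, Bool.and_eq_true, Bool.or_eq_true, List.contains_iff_mem, List.any_eq_true,
    Nat.beq_eq, Nat.blt_eq] at hfx
  have hstep : ∀ i, (fun x => t.getD x 0)^[i] a < 24 ∧ x (ptN ((fun x => t.getD x 0)^[i] a)) = ptN ((fun x => t.getD x 0)^[i] a) := by
    intro i
    induction i with
    | zero => exact ⟨ha, hxa⟩
    | succ i ih =>
      rw [Function.iterate_succ_apply']
      set u := (fun x => t.getD x 0)^[i] a with hu
      have hf : permOf t (ptN u) = ptN (t.getD u 0) := by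
        rw [← ptN_idx (permOf t (ptN u)), idx_permOf htv, idx_ptN ih.1]
      refine ⟨?_, ?_⟩
      · obtain ⟨hl, hb, -⟩ := validTab_bound htv
        have := (idx (permOf t (ptN u))).isLt
        rw [idx_permOf htv, idx_ptN ih.1] at this
        exact this
      · show x (ptN (t.getD u 0)) = ptN (t.getD u 0)
        rw [← hf, ← Equiv.Perm.mul_apply, hcomm, Equiv.Perm.mul_apply, ih.2]
  refine OctStab.eq_one_of_sep hx (fx := sepPts fx) (List.nodup_range.filter _)
    (fun b hb => List.mem_range.1 (List.mem_of_mem_filter hb)) hsep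
    (sepPts_fixed hx hnd (fun b hb => (hfx b hb).1) fun b hb => ?_)
  rcases (hfx b hb).2 with h | ⟨i, -, rfl⟩
  · exact hfixd b h
  · exact (hstep i).2

theorem relation {K : Subgroup (Equiv.Perm GolayPt)} {s t : List ℕ} (k : ℕ) (hs : validTab s = true)
    (ht : validTab t = true) (hsK : permOf s ∈ K) (htK : permOf t ∈ K) {o : ℕ}
    (ho : orderOf (⟨permOf t, htK⟩ : K) = o) (hk : k.Coprime o) (hrel : mulTab s t = mulTab ((List.range k).foldl (fun u _ => mulTab t u) (List.range 24)) s) :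
    (⟨permOf s, hsK⟩ : K) ∈ Subgroup.normalizer (Subgroup.zpowers (⟨permOf t, htK⟩ : K) : Set K) := by
  have h1 : (⟨permOf s, hsK⟩ : K) * ⟨permOf t, htK⟩ * (⟨permOf s, hsK⟩ : K)⁻¹ = ⟨permOf t, htK⟩ ^ k := by
    refine mul_inv_eq_iff_eq_mul.2 (Subtype.ext ?_)
    obtain ⟨hv, hpow⟩ := Norm.foldl_mulTab ht k
    simp only [Subgroup.coe_mul, SubgroupClass.coe_pow]
    rw [← hpow, ← (mulTab_spec hs ht).2, hrel, (mulTab_spec hv hs).2]
  refine Subgroup.mem_normalizer_fintype fun x hx => ?_
  obtain ⟨z, rfl⟩ := Subgroup.mem_zpowers_iff.1 hx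
  rw [← conj_zpow, h1]
  exact Subgroup.zpow_mem _ (Subgroup.pow_mem _ (Subgroup.mem_zpowers _) _) _

theorem conj_into {G : Type*} [Group G] [Finite G] {p : ℕ} [Fact p.Prime] (f : G) (hf : orderOf f = p)
    (hidx : ¬ p ∣ (Subgroup.zpowers f).index) (H : Subgroup G) (hH : p ∣ Nat.card H) :
    ∃ g : G, f ∈ H.map (MulAut.conj g).toMonoidHom := by
  let P : Sylow p G :=
    (IsPGroup.of_card (n := 1) (by rw [Nat.card_zpowers, hf, pow_one]) : IsPGroup p (Subgroup.zpowers f)).toSylow hidx
  obtain ⟨x, hx⟩ := exists_prime_orderOf_dvd_card' p hH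
  have hxG : orderOf (x : G) = p := by rw [Subgroup.orderOf_coe]; exact hx
  obtain ⟨Q, hQ⟩ := IsPGroup.exists_le_sylow (p := p) (P := Subgroup.zpowers (x : G))
    (IsPGroup.of_card (n := 1) (by rw [Nat.card_zpowers, hxG, pow_one]))
  have hQc : Nat.card Q = p := Q.card_eq_multiplicity.trans (P.card_eq_multiplicity.symm.trans
    (show Nat.card (Subgroup.zpowers f) = p by rw [Nat.card_zpowers, hf]))
  have e : Subgroup.zpowers (x : G) = Q := Subgroup.eq_of_le_of_card_ge hQ
    (by rw [Nat.card_zpowers, hxG]; exact hQc.le)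
  obtain ⟨g, hg⟩ := MulAction.exists_smul_eq G Q P
  refine ⟨g, ?_⟩
  have hfP : f ∈ ((g • Q : Sylow p G) : Subgroup G) := by rw [hg]; exact Subgroup.mem_zpowers f
  rw [Sylow.coe_subgroup_smul] at hfP
  obtain ⟨q, hq, rfl⟩ := hfP
  exact ⟨q, Subgroup.zpowers_le.2 x.2 (e ▸ hq), rfl⟩

/-! ### The two-point stabiliser -/

theorem card_K22 : Nat.card (fixGroup [2 ^ 23, 2 ^ 0]) = 443520 := by
  rw [← card_chain.2.2.1]
  have h : (basePts.take 2) = [none, some 0] := by decide +kernel
  suffices e : fixGroup [2 ^ 23, 2 ^ 0] = chain 2 by rw [e]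
  refine Subgroup.ext fun σ => ?_
  rw [Simple.mem_K22, mem_chain, h]
  simp

theorem tabs22 : validTab Norm.dataM22.gen = true ∧ presTab Norm.dataM22.gen = true ∧
    validTab SubIndexData.y22 = true ∧ presTab SubIndexData.y22 = true ∧
    Norm.dataM22.gen.getD 0 0 = 0 ∧ Norm.dataM22.gen.getD 23 0 = 23 ∧
    SubIndexData.y22.getD 0 0 = 0 ∧ SubIndexData.y22.getD 23 0 = 23 ∧
    validTab (Norm.powTab Norm.dataM22 1) = true ∧
    mulTab SubIndexData.y22 Norm.dataM22.gen =
      mulTab ((List.range 3).foldl (fun u _ => mulTab Norm.dataM22.gen u) (List.range 24)) SubIndexData.y22 ∧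
    (List.range 5).foldl (fun u _ => mulTab Norm.dataM22.gen u) (List.range 24) = List.range 24 ∧
    mulTab (mulTab Norm.dataM22.gen (Norm.powTab Norm.dataM22 1)) (List.range 24) =
      mulTab (Norm.powTab Norm.dataM22 Norm.dataM22.i) Norm.dataM22.gen ∧
    (List.range 7).foldl (fun u _ => mulTab (mulTab SubIndexData.y22 (Norm.powTab Norm.dataM22 1)) u) (List.range 24) = List.range 24 ∧
    mulTab SubIndexData.y22 (Norm.powTab Norm.dataM22 1) ≠ List.range 24 ∧
    Norm.dataM22.gen ≠ List.range 24 ∧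
    ((List.range 24).filter fun i => !(Nat.beq (Norm.dataM22.gen.getD i 0) i)).length = 20 ∧
    ([23, 0, 2, 6, 16, 8, 9].all fun b => Nat.blt b 24 && ([23, 0].contains b ||
      (List.range 7).any fun i => Nat.beq ((fun x => Norm.dataM22.gen.getD x 0)^[i] 2) b)) = true ∧
    Nat.beq (sepPts (sepPts [23, 0, 2, 6, 16, 8, 9])).length 24 = true := by
  decide +kernel

theorem mem_K22_tab {t : List ℕ} (hv : validTab t = true) (hp : presTab t = true) (h0 : t.getD 0 0 = 0)
    (h23 : t.getD 23 0 = 23) : permOf t ∈ fixGroup [2 ^ 23, 2 ^ 0] := by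
  have app : ∀ i, i < 24 → permOf t (ptN i) = ptN (t.getD i 0) := fun i hi => by
    rw [← ptN_idx (permOf t (ptN i)), idx_permOf hv, idx_ptN hi]
  refine Simple.mem_K22.2 ⟨permOf_mem_M24 hv hp, ?_, ?_⟩
  · have := app 23 (by omega); rw [h23] at this; exact this
  · have := app 0 (by omega); rw [h0] at this; exact this

theorem orderOf_tab {K : Subgroup (Equiv.Perm GolayPt)} {t : List ℕ} (hv : validTab t = true)
    (htK : permOf t ∈ K) {p : ℕ} [Fact p.Prime] (h1 : t ≠ List.range 24)
    (hp : (List.range p).foldl (fun u _ => mulTab t u) (List.range 24) = List.range 24) :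
    orderOf (⟨permOf t, htK⟩ : K) = p := by
  rw [← Subgroup.orderOf_coe]
  refine orderOf_eq_prime ?_ fun h => h1 ?_
  · rw [← (Norm.foldl_mulTab hv p).2, hp, Norm.permOf_range]
  · rw [← Listed.tabOf_permOf hv, show permOf t = 1 from h, ← Norm.permOf_range,
      Listed.tabOf_permOf (show validTab (List.range 24) = true by decide +kernel)]

theorem no_small_index (H : Subgroup (fixGroup [2 ^ 23, 2 ^ 0])) : H.index ≠ 56 ∧ H.index ≠ 210 := by
  classical
  have hG := card_K22
  obtain ⟨gv, gp, yv, yp, g0, g23, y0, y23, cv, hyrel, hg5, hgrel, h7, h7ne, hgne, hmv, hfx, hsep⟩ := tabs22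
  haveI : Fact (Nat.Prime 11) := ⟨by norm_num⟩
  haveI : Fact (Nat.Prime 5) := ⟨by norm_num⟩
  haveI : Fact (Nat.Prime 7) := ⟨by norm_num⟩
  have hp11 : Nat.Prime 11 := Fact.out
  have hp5 : Nat.Prime 5 := Fact.out
  obtain ⟨ci, hci, hoci, hidx, hN55⟩ : ∃ ci : fixGroup [2 ^ 23, 2 ^ 0],
      (ci : Equiv.Perm GolayPt) = permOf (Norm.powTab Norm.dataM22 1) ∧ orderOf ci = 11 ∧
      ¬ 11 ∣ (Subgroup.zpowers ci).index ∧
      Nat.card (Subgroup.normalizer (Subgroup.zpowers ci : Set (fixGroup [2 ^ 23, 2 ^ 0]))) = 55 := by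
    exact Norm.sylow_of_data Norm.dataM22 Norm.dataM22_ok.1 Norm.dataM22_ok.2 hp11 hp5 (by decide) 40320 hG (by decide)
  suffices key : ∀ H : Subgroup (fixGroup [2 ^ 23, 2 ^ 0]), ci ∈ H → H.index ≠ 56 ∧ H.index ≠ 210 by
    by_cases hdiv : 11 ∣ Nat.card H
    · obtain ⟨g, hg⟩ := conj_into ci hoci hidx H hdiv
      have := key _ hg
      rwa [show (H.map (MulAut.conj g).toMonoidHom).index = H.index from Subgroup.index_map_equiv H (MulAut.conj g)] at this
    · have h := H.card_mul_index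
      constructor <;> intro e <;> rw [e, hG] at h <;> omega
  intro H hcH
  have hH := H.card_mul_index
  obtain ⟨h, hh, h11, hhd, n, hn, hn1⟩ := SylowIndex.card_inf_normalizer H ci hoci hcH hidx
  rw [hN55] at hhd
  have hhcases : h = 11 ∨ h = 55 := by
    have hle := Nat.le_of_dvd (by norm_num) hhd
    obtain ⟨c, rfl⟩ := h11
    have : c ∣ 5 := Nat.dvd_of_mul_dvd_mul_left (k := 11) (by norm_num) (by simpa using hhd)
    rcases (Nat.dvd_prime hp5).1 this with rfl | rfl <;> simp
  constructor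
  swap
  · intro e
    rw [e, hG] at hH
    rcases hhcases with rfl | rfl <;> omega
  intro e
  rw [e, hG] at hH
  have hh55 : h = 55 := by rcases hhcases with rfl | rfl <;> omega
  subst hh55
  have hle : Subgroup.normalizer (Subgroup.zpowers ci : Set (fixGroup [2 ^ 23, 2 ^ 0])) ≤ H := by
    have := Subgroup.eq_of_le_of_card_ge (inf_le_right (a := H) (b := Subgroup.normalizer (Subgroup.zpowers ci : Set (fixGroup [2 ^ 23, 2 ^ 0])))) (by rw [hh, hN55])
    rw [← this]; exact inf_le_left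
  set fi : fixGroup [2 ^ 23, 2 ^ 0] := ⟨permOf Norm.dataM22.gen, mem_K22_tab gv gp g0 g23⟩
  set yi : fixGroup [2 ^ 23, 2 ^ 0] := ⟨permOf SubIndexData.y22, mem_K22_tab yv yp y0 y23⟩
  have hfo : orderOf fi = 5 := orderOf_tab gv _ hgne hg5
  have hfN : fi ∈ Subgroup.normalizer (Subgroup.zpowers ci : Set (fixGroup [2 ^ 23, 2 ^ 0])) := by
    have hci' : ci = ⟨permOf (Norm.powTab Norm.dataM22 1), hci ▸ ci.2⟩ := Subtype.ext hci
    rw [hci']
    refine relation (o := 11) Norm.dataM22.i gv cv _ _ (by rw [← hci']; exact hoci) (by decide) ?_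
    decide +kernel
  have hfidx : ¬ 5 ∣ (Subgroup.zpowers fi).index := by
    have := (Subgroup.zpowers fi).card_mul_index
    rw [Nat.card_zpowers, hfo, hG] at this
    omega
  obtain ⟨h', hh', h5, hd', n', hn', hn'1⟩ := SylowIndex.card_inf_normalizer H fi hfo (hle hfN) hfidx
  obtain ⟨N, hNc, hN1⟩ := SylowIndex.card_normalizer fi hfo hfidx
  obtain ⟨k, hk, hk4, hc5⟩ := SylowIndex.card_normalizer_factor fi hfo
  have hcb : Nat.card (Subgroup.centralizer (Subgroup.zpowers fi : Set (fixGroup [2 ^ 23, 2 ^ 0]))) ≤ 20 := by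
    refine (card_centralizer_le fi (ptN 2) ?_ fun x hx hc hx2 => ?_).trans (le_of_eq ?_)
    · show permOf Norm.dataM22.gen (ptN 2) ≠ ptN 2
      decide +kernel
    · refine free_of_sep (fx := [23, 0, 2, 6, 16, 8, 9]) gv 2 [23, 0] hfx (by decide) hsep (by omega)
        (Simple.mem_K22.1 hx).1 (fun b hb => ?_) hc hx2
      simp only [List.mem_cons, List.not_mem_nil, or_false] at hb
      rcases hb with rfl | rfl
      · exact (Simple.mem_K22.1 hx).2.1
      · exact (Simple.mem_K22.1 hx).2.2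
    · show (Finset.univ.filter fun p => permOf Norm.dataM22.gen p ≠ p).card = 20
      have e : (Finset.univ.filter fun p => permOf Norm.dataM22.gen p ≠ p) = (((List.range 24).filter fun i => !(Nat.beq (Norm.dataM22.gen.getD i 0) i)).map ptN).toFinset := by
        decide +kernel
      rw [e]; decide +kernel
  have hM : Nat.card (Subgroup.normalizer (Subgroup.zpowers fi : Set (fixGroup [2 ^ 23, 2 ^ 0]))) = 20 := by
    rw [hG, hk] at hNc
    rw [hk]
    generalize Nat.card (Subgroup.centralizer (Subgroup.zpowers fi : Set (fixGroup [2 ^ 23, 2 ^ 0]))) = c at hcb hc5 hNc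
    have hk4' : k = 1 ∨ k = 2 ∨ k = 4 := by
      have hb := Nat.le_of_dvd (by norm_num) hk4
      interval_cases k <;> simp_all
    obtain ⟨c, rfl⟩ := hc5
    have : c = 1 ∨ c = 2 ∨ c = 3 ∨ c = 4 := by
      have : c ≠ 0 := by rintro rfl; simp at hNc
      omega
    rcases hk4' with rfl | rfl | rfl <;> rcases this with rfl | rfl | rfl | rfl <;> omega
  rw [hM] at hd'
  have h20 : h' = 20 := by
    have hb := Nat.le_of_dvd (by norm_num) hd'
    interval_cases h' <;> omega
  have hyH : yi ∈ H := by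
    have := Subgroup.eq_of_le_of_card_ge (inf_le_right (a := H) (b := Subgroup.normalizer (Subgroup.zpowers fi : Set (fixGroup [2 ^ 23, 2 ^ 0])))) (by rw [hh', hM, h20])
    have hy : yi ∈ Subgroup.normalizer (Subgroup.zpowers fi : Set (fixGroup [2 ^ 23, 2 ^ 0])) :=
      relation 3 yv gv _ _ hfo (by decide) hyrel
    rw [← this] at hy
    exact hy.1
  have h7o : orderOf (yi * ci) = 7 := by
    rw [← Subgroup.orderOf_coe, show ((yi * ci : fixGroup [2 ^ 23, 2 ^ 0]) : Equiv.Perm GolayPt) =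
      permOf (mulTab SubIndexData.y22 (Norm.powTab Norm.dataM22 1)) by
        rw [(mulTab_spec yv cv).2, ← hci]; rfl]
    refine orderOf_eq_prime ?_ fun h => h7ne ?_
    · rw [← (Norm.foldl_mulTab (mulTab_spec yv cv).1 7).2, h7, Norm.permOf_range]
    · rw [← Listed.tabOf_permOf (mulTab_spec yv cv).1, show permOf _ = 1 from h, ← Norm.permOf_range,
        Listed.tabOf_permOf (show validTab (List.range 24) = true by decide +kernel)]
  have h7d : 7 ∣ Nat.card H := by
    have := orderOf_dvd_natCard (⟨yi * ci, mul_mem hyH hcH⟩ : H)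
    rwa [← Subgroup.orderOf_coe, h7o] at this
  omega

theorem no_index_pair {p q : GolayPt} (hpq : p ≠ q) (H : Subgroup ↥(stabilizer M24 p ⊓ stabilizer M24 q)) :
    H.index ≠ 56 ∧ H.index ≠ 210 := by
  obtain ⟨e⟩ := Simple.equiv_K22 p q hpq
  have := no_small_index (H.map e.toMonoidHom)
  rwa [show (H.map e.toMonoidHom).index = H.index from Subgroup.index_map_equiv H e] at this

end CfsgLib.Golay.SubIndex
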