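/-
Suborbits and fixed points for a subgroup of M24.
-/
import Cfsg.Agent.Golay.SixSets
import Cfsg.Agent.Golay.Ord3
import Cfsg.Agent.Golay.SubIndex
import Mathlib

set_option autoImplicit false

namespace CfsgLib.Golay.IndexTools

open Cfsg CfsgLib.Golay MulAction CfsgLib.Golay.Ord3
open scoped Pointwise

/-- The fixed points in an invariant set are congruent to its size. -/
theorem card_inter_fix {p : ℕ} [Fact p.Prime] {g : Equiv.Perm GolayPt} (hg : g ^ p = 1)
    (A : Finset GolayPt) (hA : ∀ y, g y ∈ A ↔ y ∈ A) : (A ∩ fixSet g).card % p = A.card % p := by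
  classical
  set σ : Equiv.Perm A := g.subtypePerm hA with hσ
  have h := Equiv.Perm.card_compl_support_modEq (p := p) (n := 1) (σ := σ) (by
    rw [pow_one, hσ, Equiv.Perm.subtypePerm_pow]
    refine Equiv.ext fun y => Subtype.ext ?_
    simp [hg])
  rw [Fintype.card_coe] at h
  refine Eq.trans ?_ h
  congr 1
  rw [← Finset.card_map (Function.Embedding.subtype (fun y => y ∈ A)) (s := σ.supportᶜ)]
  congr 1
  ext y
  simp [hσ, fixSet, Subtype.ext_iff, and_comm]

variable (H : Subgroup (Equiv.Perm GolayPt))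

/-- The point stabiliser inside `H`. -/
def Hx (x : GolayPt) : Subgroup (Equiv.Perm GolayPt) := H ⊓ stabilizer (Equiv.Perm GolayPt) x

open scoped Classical in
/-- The suborbit of `y` seen from `x`. -/
noncomputable def orb (x y : GolayPt) : Finset GolayPt :=
  Finset.univ.filter fun z => ∃ h ∈ Hx H x, h y = z

open scoped Classical in
/-- The points lying in suborbits of size `d`. -/
noncomputable def nb (d : ℕ) (x : GolayPt) : Finset GolayPt :=
  Finset.univ.filter fun y => y ≠ x ∧ (orb H x y).card = d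

variable {H}

theorem mem_Hx {x : GolayPt} {g : Equiv.Perm GolayPt} : g ∈ Hx H x ↔ g ∈ H ∧ g x = x := Iff.rfl

theorem mem_orb {x y z : GolayPt} : z ∈ orb H x y ↔ ∃ h ∈ Hx H x, h y = z := by
  classical
  simp [orb]

theorem mem_nb {d : ℕ} {x y : GolayPt} : y ∈ nb H d x ↔ y ≠ x ∧ (orb H x y).card = d := by
  classical
  simp [nb]

theorem self_mem_orb (x y : GolayPt) : y ∈ orb H x y := mem_orb.2 ⟨1, one_mem _, rfl⟩

theorem orb_eq {x y z : GolayPt} (h : z ∈ orb H x y) : orb H x z = orb H x y := by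
  obtain ⟨k, hk, rfl⟩ := mem_orb.1 h
  ext w
  rw [mem_orb, mem_orb]
  constructor
  · rintro ⟨l, hl, rfl⟩; exact ⟨l * k, mul_mem hl hk, rfl⟩
  · rintro ⟨l, hl, rfl⟩
    exact ⟨l * k⁻¹, mul_mem hl (inv_mem hk), by simp⟩

theorem orb_ne {x y z : GolayPt} (hyx : y ≠ x) (h : z ∈ orb H x y) : z ≠ x := by
  obtain ⟨k, hk, rfl⟩ := mem_orb.1 h
  exact fun e => hyx (k.injective (e.trans (mem_Hx.1 hk).2.symm))

theorem card_eq_orb (x y : GolayPt) :
    Nat.card (Hx H x) = (orb H x y).card * Nat.card ↥(Hx H x ⊓ stabilizer (Equiv.Perm GolayPt) y) := by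
  have e : orbit (Hx H x) y = (orb H x y : Set GolayPt) := by
    ext z
    rw [Finset.mem_coe, mem_orb]
    exact ⟨fun ⟨k, e⟩ => ⟨k.1, k.2, e⟩, fun ⟨k, hk, e⟩ => ⟨⟨k, hk⟩, e⟩⟩
  rw [card_eq_mul_of_orbit (Hx H x) y _ e, Set.ncard_coe_finset]

theorem orb_card_dvd (x y : GolayPt) : (orb H x y).card ∣ Nat.card (Hx H x) :=
  ⟨_, card_eq_orb x y⟩

theorem orb_card_lt {x y : GolayPt} (hyx : y ≠ x) : (orb H x y).card < 24 := by
  have : orb H x y ⊆ Finset.univ.erase x := fun z hz =>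
    Finset.mem_erase.2 ⟨orb_ne hyx hz, Finset.mem_univ z⟩
  have h := Finset.card_le_card this
  rw [Finset.card_erase_of_mem (Finset.mem_univ x), Finset.card_univ, card_pt] at h
  omega

theorem mem_smul_nb {d : ℕ} {x y : GolayPt} {g : Equiv.Perm GolayPt} (hg : g ∈ H) :
    g y ∈ nb H d (g x) ↔ y ∈ nb H d x := by
  have e : orb H (g x) (g y) = g • orb H x y := by
    ext z
    rw [mem_orb, Finset.mem_smul_finset]
    constructor
    · rintro ⟨k, hk, rfl⟩
      refine ⟨(g⁻¹ * k * g) y, mem_orb.2 ⟨_, mem_Hx.2 ⟨mul_mem (mul_mem (inv_mem hg) (mem_Hx.1 hk).1) hg, ?_⟩, rfl⟩,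
        by simp⟩
      simp [(mem_Hx.1 hk).2]
    · rintro ⟨w, hw, rfl⟩
      obtain ⟨k, hk, rfl⟩ := mem_orb.1 hw
      refine ⟨g * k * g⁻¹, mem_Hx.2 ⟨mul_mem (mul_mem hg (mem_Hx.1 hk).1) (inv_mem hg), ?_⟩, by simp⟩
      simp [(mem_Hx.1 hk).2]
  rw [mem_nb, mem_nb, e, Finset.card_smul_finset, g.injective.ne_iff]

theorem nb_smul (d : ℕ) (x : GolayPt) {g : Equiv.Perm GolayPt} (hg : g ∈ H) :
    g • nb H d x = nb H d (g x) := by
  ext z
  rw [Finset.mem_smul_finset]
  constructor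
  · rintro ⟨y, hy, rfl⟩; exact (mem_smul_nb hg).2 hy
  · intro hz
    exact ⟨g⁻¹ z, (mem_smul_nb hg).1 (by simpa using hz), by simp⟩

theorem nb_inv {d : ℕ} {x : GolayPt} {g : Equiv.Perm GolayPt} (hg : g ∈ Hx H x) (y : GolayPt) :
    g y ∈ nb H d x ↔ y ∈ nb H d x := by
  conv_lhs => rw [← (mem_Hx.1 hg).2]
  exact mem_smul_nb (mem_Hx.1 hg).1

/-- Transitivity. -/
def Trans (H : Subgroup (Equiv.Perm GolayPt)) : Prop := ∀ x y, ∃ h ∈ H, h x = y

theorem card_Hx_eq (ht : Trans H) (x : GolayPt) : Nat.card H = 24 * Nat.card (Hx H x) := by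
  have e : orbit H x = (Set.univ : Set GolayPt) := Set.eq_univ_of_forall fun y => by
    obtain ⟨k, hk, e⟩ := ht x y
    exact ⟨⟨k, hk⟩, e⟩
  rw [card_eq_mul_of_orbit H x _ e, Set.ncard_univ, Nat.card_eq_fintype_card, card_pt]
  rfl

theorem card_Hx_const (ht : Trans H) (x y : GolayPt) : Nat.card (Hx H x) = Nat.card (Hx H y) := by
  have h1 := card_Hx_eq ht x
  have h2 := card_Hx_eq ht y
  omega

theorem nb_symm (ht : Trans H) {d : ℕ} {x y : GolayPt} (h : y ∈ nb H d x) : x ∈ nb H d y := by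
  obtain ⟨hne, hd⟩ := mem_nb.1 h
  refine mem_nb.2 ⟨hne.symm, ?_⟩
  have h1 := card_eq_orb (H := H) x y
  have h2 := card_eq_orb (H := H) y x
  have e : Hx H x ⊓ stabilizer (Equiv.Perm GolayPt) y = Hx H y ⊓ stabilizer (Equiv.Perm GolayPt) x := by
    simp only [Hx, inf_assoc, inf_comm (stabilizer (Equiv.Perm GolayPt) x)]
  rw [e, hd, card_Hx_const ht x y, h2] at h1
  exact Nat.eq_of_mul_eq_mul_right Nat.card_pos h1

theorem nb_card_const (ht : Trans H) (d : ℕ) (x y : GolayPt) : (nb H d x).card = (nb H d y).card := by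
  obtain ⟨g, hg, rfl⟩ := ht x y
  rw [← nb_smul d x hg, Finset.card_smul_finset]

theorem nb_disjoint {d d' : ℕ} (hne : d ≠ d') {x y : GolayPt} (h : y ∈ nb H d x) : y ∉ nb H d' x :=
  fun h' => hne ((mem_nb.1 h).2.symm.trans (mem_nb.1 h').2)

theorem sum_nb (x : GolayPt) : (∑ d ∈ Finset.range 24, (nb H d x).card) = 23 := by
  classical
  have h := Finset.card_eq_sum_card_fiberwise (f := fun y => (orb H x y).card)
    (s := Finset.univ.erase x) (t := Finset.range 24) (fun y hy =>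
      Finset.mem_coe.2 (Finset.mem_range.2 (orb_card_lt (Finset.mem_erase.1 (Finset.mem_coe.1 hy)).1)))
  rw [Finset.card_erase_of_mem (Finset.mem_univ x), Finset.card_univ, card_pt] at h
  refine Eq.trans (Finset.sum_congr rfl fun d _ => ?_) h.symm
  congr 1
  ext y
  simp [mem_nb]

theorem sum_nb_inter (x : GolayPt) (S : Finset GolayPt) (hx : x ∈ S) :
    (∑ d ∈ Finset.range 24, (nb H d x ∩ S).card) = S.card - 1 := by
  classical
  have h := Finset.card_eq_sum_card_fiberwise (f := fun y => (orb H x y).card)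
    (s := S.erase x) (t := Finset.range 24) (fun y hy =>
      Finset.mem_coe.2 (Finset.mem_range.2 (orb_card_lt (Finset.mem_erase.1 (Finset.mem_coe.1 hy)).1)))
  rw [Finset.card_erase_of_mem hx] at h
  refine Eq.trans (Finset.sum_congr rfl fun d _ => ?_) h.symm
  congr 1
  ext y
  simp [mem_nb, and_comm, and_assoc, and_left_comm]

/-- The number of suborbits of a given size, and their fixed points. -/
theorem nb_fix {p : ℕ} [Fact p.Prime] {x : GolayPt} {g : Equiv.Perm GolayPt} (hg : g ∈ Hx H x)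
    (hgp : g ^ p = 1) (hF : (fixSet g).card ≤ p) (d : ℕ) :
    ∃ k, (nb H d x).card = k * d ∧ (nb H d x ∩ fixSet g).card = k * (d % p) := by
  classical
  refine ⟨((nb H d x).image (orb H x)).card, ?_, ?_⟩ <;>
    rw [Finset.card_eq_sum_card_fiberwise (f := orb H x) (t := (nb H d x).image (orb H x))
      (fun y hy => Finset.mem_coe.2 (Finset.mem_image_of_mem _ (by simp_all [Finset.mem_inter]))),
      ← smul_eq_mul, ← Finset.sum_const] <;>
    refine Finset.sum_congr rfl fun O hO => ?_ <;>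
    obtain ⟨y, hy, rfl⟩ := Finset.mem_image.1 hO <;>
    obtain ⟨hyx, hyd⟩ := mem_nb.1 hy
  · conv_rhs => rw [← hyd]
    congr 1
    ext z
    rw [Finset.mem_filter, mem_nb]
    exact ⟨fun h => h.2 ▸ self_mem_orb x z,
      fun h => ⟨⟨orb_ne hyx h, by rw [orb_eq h, hyd]⟩, orb_eq h⟩⟩
  · have e : ((nb H d x ∩ fixSet g).filter fun z => orb H x z = orb H x y) = orb H x y ∩ fixSet g := by
      ext z
      rw [Finset.mem_filter, Finset.mem_inter, Finset.mem_inter, mem_nb]
      exact ⟨fun h => ⟨h.2 ▸ self_mem_orb x z, h.1.2⟩,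
        fun h => ⟨⟨⟨orb_ne hyx h.1, by rw [orb_eq h.1, hyd]⟩, h.2⟩, orb_eq h.1⟩⟩
    rw [e]
    have hA : ∀ z, g z ∈ orb H x y ↔ z ∈ orb H x y := by
      intro z
      rw [mem_orb, mem_orb]
      constructor
      · rintro ⟨k, hk, e⟩; exact ⟨g⁻¹ * k, mul_mem (inv_mem hg) hk, by simp [e]⟩
      · rintro ⟨k, hk, rfl⟩; exact ⟨g * k, mul_mem hg hk, rfl⟩
    have h1 := card_inter_fix (p := p) hgp _ hA
    have hlt : (orb H x y ∩ fixSet g).card < p := by
      refine lt_of_lt_of_le ?_ hF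
      refine Finset.card_lt_card ⟨Finset.inter_subset_right, fun hs => ?_⟩
      have hxF : x ∈ fixSet g := by simp [fixSet, (mem_Hx.1 hg).2]
      exact orb_ne hyx (Finset.mem_inter.1 (hs hxF)).1 rfl
    rw [Nat.mod_eq_of_lt hlt] at h1
    rw [h1, hyd]

/-- An element of prime order in a point stabiliser. -/
theorem exists_elt {p : ℕ} [Fact p.Prime] {x : GolayPt} (h : p ∣ Nat.card (Hx H x)) :
    ∃ g ∈ Hx H x, orderOf g = p := by
  obtain ⟨g, hg⟩ := exists_prime_orderOf_dvd_card' p h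
  exact ⟨g, g.2, (Subgroup.orderOf_coe g).trans hg⟩

/-- Elements of prime order `p` fix as many points as a representative, when `p` divides the order once. -/
theorem card_fix_of_rep {p : ℕ} [Fact p.Prime] {t : List ℕ} (hv : validTab t = true)
    (hpt : presTab t = true) (h1 : t ≠ List.range 24)
    (hpow : (List.range p).foldl (fun u _ => mulTab t u) (List.range 24) = List.range 24)
    (hsq : ¬ p * p ∣ 244823040) {g : Equiv.Perm GolayPt} (hg : g ∈ M24) (ho : orderOf g = p) :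
    (fixSet g).card = fixNum t := by
  have hp : p.Prime := Fact.out
  set fi : M24 := ⟨permOf t, permOf_mem_M24 hv hpt⟩ with hfi
  have hfo : orderOf fi = p := SubIndex.orderOf_tab (K := M24) hv _ h1 hpow
  have hidx : ¬ p ∣ (Subgroup.zpowers fi).index := fun hd => hsq <| by
    have := (Subgroup.zpowers fi).card_mul_index
    rw [Nat.card_zpowers, hfo, card_M24] at this
    exact this ▸ Nat.mul_dvd_mul_left p hd
  set gi : M24 := ⟨g, hg⟩
  have hgo : orderOf gi = p := by rw [← Subgroup.orderOf_coe]; exact ho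
  obtain ⟨k, hk⟩ := SubIndex.conj_into fi hfo hidx (Subgroup.zpowers gi) (by rw [Nat.card_zpowers, hgo])
  obtain ⟨y, hy, e⟩ := hk
  obtain ⟨i, rfl⟩ := Subgroup.mem_zpowers_iff.1 hy
  have e' : k.1 * g ^ i * k.1⁻¹ = permOf t := congrArg Subtype.val e
  rw [← card_fixSet_permOf hv, ← e', card_fixSet_conj]
  -- a generator and its nontrivial power fix the same points
  congr 1
  ext q
  simp only [fixSet, Finset.mem_filter, Finset.mem_univ, true_and]
  constructor
  · exact fun h => Equiv.Perm.zpow_apply_eq_self_of_apply_eq_self h i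
  · intro h
    have hcop : Int.gcd i p = 1 := by
      rw [Int.gcd, Int.natAbs_natCast]
      refine (hp.coprime_iff_not_dvd.2 fun hd => ?_).symm
      have hz : g ^ i = 1 := by
        rw [← orderOf_dvd_iff_zpow_eq_one, ho]; exact Int.natCast_dvd.2 hd
      have hne : permOf t ≠ 1 := fun hh => by
        have : fi = 1 := Subtype.ext hh
        rw [this, orderOf_one] at hfo
        exact hp.ne_one hfo.symm
      exact hne (by rw [← e', hz]; simp)
    obtain ⟨a, b, hab⟩ := Int.isCoprime_iff_gcd_eq_one.2 hcop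
    have : g = (g ^ i) ^ a := by
      rw [← zpow_mul]
      have e2 : i * a = 1 - (p : ℤ) * b := by linarith
      rw [e2, zpow_sub, zpow_mul, zpow_one, zpow_natCast, ← ho, pow_orderOf_eq_one, one_zpow, inv_one, mul_one]
    rw [this]
    exact Equiv.Perm.zpow_apply_eq_self_of_apply_eq_self h a

theorem fix5 {g : Equiv.Perm GolayPt} (hg : g ∈ M24) (ho : orderOf g = 5) : (fixSet g).card = 4 := by
  haveI : Fact (Nat.Prime 5) := ⟨by norm_num⟩
  have h := SubIndex.tabs22
  rw [card_fix_of_rep (p := 5) h.1 h.2.1 (by decide +kernel) (by decide +kernel) (by norm_num) hg ho]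
  decide +kernel

theorem fix7 {g : Equiv.Perm GolayPt} (hg : g ∈ M24) (ho : orderOf g = 7) : (fixSet g).card = 3 := by
  haveI : Fact (Nat.Prime 7) := ⟨by norm_num⟩
  rw [card_fix_of_rep (p := 7) (t := SubIndexData.f23) (by decide +kernel) (by decide +kernel)
    (by decide +kernel) (by decide +kernel) (by norm_num) hg ho]
  decide +kernel

theorem fix11 {g : Equiv.Perm GolayPt} (hg : g ∈ M24) (ho : orderOf g = 11) : (fixSet g).card = 2 := by
  haveI : Fact (Nat.Prime 11) := ⟨by norm_num⟩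
  rw [card_fix_of_rep (p := 11) (t := Norm.powTab Norm.dataM22 1) (by decide +kernel) (by decide +kernel)
    (by decide +kernel) (by decide +kernel) (by norm_num) hg ho]
  decide +kernel

/-- The pointwise stabiliser of a set inside a group fixing it setwise. -/
theorem kernel_bound (K : Subgroup (Equiv.Perm GolayPt)) (E : Finset GolayPt)
    (hK : ∀ g ∈ K, ∀ y, g y ∈ E ↔ y ∈ E) :
    ∃ L : Subgroup (Equiv.Perm GolayPt), L ≤ K ∧ (∀ g, g ∈ L ↔ g ∈ K ∧ ∀ y ∈ E, g y = y) ∧
      Nat.card K ∣ Nat.card L * E.card.factorial := by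
  classical
  let π : K →* Equiv.Perm E :=
    { toFun := fun g => g.1.subtypePerm (hK g.1 g.2)
      map_one' := by ext x; rfl
      map_mul' := fun g h => by ext x; rfl }
  refine ⟨π.ker.map K.subtype, ?_, fun g => ?_, ?_⟩
  · rintro _ ⟨g, -, rfl⟩; exact g.2
  · constructor
    · rintro ⟨g, hg, rfl⟩
      exact ⟨g.2, fun y hy => congrArg (fun e : Equiv.Perm E => (e ⟨y, hy⟩ : GolayPt)) hg⟩
    · rintro ⟨hg, hf⟩
      exact ⟨⟨g, hg⟩, Equiv.ext fun y => Subtype.ext (hf y y.2), rfl⟩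
  · rw [← π.ker.card_mul_index, Subgroup.index_ker,
      ← Nat.card_congr (π.ker.equivMapOfInjective _ K.subtype_injective).toEquiv]
    refine Nat.mul_dvd_mul_left _ ?_
    have h := Subgroup.card_subgroup_dvd_card π.range
    rwa [Nat.card_perm, Nat.card_eq_finsetCard] at h

/-- A group fixing six points outside every octad has order dividing three. -/
theorem card_dvd_three {L : Subgroup (Equiv.Perm GolayPt)} (hL : L ≤ M24) {E : Finset GolayPt}
    (hE : 6 ≤ E.card) (hout : ¬ ∃ o ∈ octads, E ⊆ o) (hfix : ∀ g ∈ L, ∀ y ∈ E, g y = y) :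
    Nat.card L ∣ 3 := by
  classical
  obtain ⟨E5, h5, h5c⟩ := Finset.exists_subset_card_eq (show 5 ≤ E.card by omega)
  obtain ⟨o, ho, h5o⟩ := exists_octad h5c
  obtain ⟨u, hu, huo⟩ := Finset.not_subset.1 (fun h => hout ⟨o, ho, h⟩)
  set E6 := insert u E5
  have hu5 : u ∉ E5 := fun h => huo (h5o h)
  have h6 : E6.card = 6 := by rw [Finset.card_insert_of_notMem hu5, h5c]
  have hout6 : ¬ ∃ o' ∈ octads, E6 ⊆ o' := fun ⟨o', ho', h⟩ => huo <| by
    rw [octad_unique ho ho' (s := E5) (by omega) h5o ((Finset.subset_insert u E5).trans h)]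
    exact h (Finset.mem_insert_self u E5)
  let P : Subgroup (Equiv.Perm GolayPt) :=
    M24 ⊓ fixingSubgroup (Equiv.Perm GolayPt) (E6 : Set GolayPt)
  have hP : Nat.card P = 3 := by
    rw [← SixSets.card_fix_out h6 hout6]
    exact Nat.card_congr (Equiv.subtypeEquivRight fun g => by
      simp [P, Subgroup.mem_inf, mem_fixingSubgroup_iff])
  rw [← hP]
  refine Subgroup.card_dvd_of_le fun g hg => ⟨hL hg, ?_⟩
  show g ∈ fixingSubgroup (Equiv.Perm GolayPt) (E6 : Set GolayPt)
  rw [mem_fixingSubgroup_iff]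
  intro y hy
  rcases Finset.mem_insert.1 (Finset.mem_coe.1 hy) with rfl | hy
  · exact hfix g hg _ hu
  · exact hfix g hg _ (h5 hy)

/-- Only the identity fixes an octad pointwise and a point outside it. -/
theorem eq_one_of_octad_fix {o : Finset GolayPt} (ho : o ∈ octads) {g : Equiv.Perm GolayPt}
    (hg : g ∈ M24) (hf : ∀ y ∈ o, g y = y) {u : GolayPt} (hu : u ∉ o) (hgu : g u = u) : g = 1 := by
  classical
  have h16 : orderOf g ∣ 16 := by
    rw [← OctStruct.card_kernel ho]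
    exact Subgroup.orderOf_dvd_natCard _ (OctStruct.mem_kernel.2 ⟨hg, hf⟩)
  have hout : ¬ ∃ o' ∈ octads, insert u o ⊆ o' := fun ⟨o', ho', h⟩ => by
    have := Finset.card_le_card h
    rw [Finset.card_insert_of_notMem hu, card_of_mem_octads ho, card_of_mem_octads ho'] at this
    omega
  have h3 : orderOf g ∣ 3 := by
    rw [← Nat.card_zpowers]
    refine card_dvd_three (Subgroup.zpowers_le.2 hg)
      (by rw [Finset.card_insert_of_notMem hu, card_of_mem_octads ho]; omega) hout ?_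
    intro k hk y hy
    obtain ⟨i, rfl⟩ := Subgroup.mem_zpowers_iff.1 hk
    refine Equiv.Perm.zpow_apply_eq_self_of_apply_eq_self ?_ i
    rcases Finset.mem_insert.1 hy with rfl | hy
    · exact hgu
    · exact hf y hy
  exact orderOf_eq_one_iff.1 (Nat.dvd_one.1 (Nat.dvd_gcd h16 h3))

/-- A group fixing an octad pointwise acts freely outside it. -/
theorem card_le_of_free {o : Finset GolayPt} (ho : o ∈ octads) {L : Subgroup (Equiv.Perm GolayPt)}
    (hL : L ≤ M24) (hfix : ∀ g ∈ L, ∀ y ∈ o, g y = y) (W : Finset GolayPt) {u : GolayPt} (hu : u ∉ o)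
    (hW : ∀ g ∈ L, g u ∈ W) : Nat.card L ≤ W.card := by
  rw [← Nat.card_eq_finsetCard]
  refine Nat.card_le_card_of_injective (fun g => (⟨g.1 u, hW g.1 g.2⟩ : W)) fun a b e => ?_
  have e' : a.1 u = b.1 u := congrArg Subtype.val e
  have h : b.1⁻¹ * a.1 = 1 := eq_one_of_octad_fix ho (mul_mem (inv_mem (hL b.2)) (hL a.2))
    (fun y hy => by
      rw [Equiv.Perm.mul_apply, hfix a.1 a.2 y hy, Equiv.Perm.inv_eq_iff_eq, hfix b.1 b.2 y hy])
    hu (by rw [Equiv.Perm.mul_apply, e']; exact b.1.symm_apply_apply u)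
  exact Subtype.ext (inv_mul_eq_one.1 h).symm

end CfsgLib.Golay.IndexTools

namespace CfsgLib.Golay.IndexTools

open Cfsg CfsgLib.Golay MulAction CfsgLib.Golay.Ord3
open scoped Pointwise

variable {H : Subgroup (Equiv.Perm GolayPt)}

theorem self_mem_fix {x : GolayPt} {g : Equiv.Perm GolayPt} (hg : g ∈ Hx H x) : x ∈ fixSet g := by
  simp [fixSet, (mem_Hx.1 hg).2]

theorem mem_Hx_of_fix {x y : GolayPt} {g : Equiv.Perm GolayPt} (hg : g ∈ Hx H x) (hy : y ∈ fixSet g) :
    g ∈ Hx H y :=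
  mem_Hx.2 ⟨(mem_Hx.1 hg).1, (Finset.mem_filter.1 hy).2⟩

theorem not_self_nb (d : ℕ) (x : GolayPt) : x ∉ nb H d x := fun h => (mem_nb.1 h).1 rfl

theorem nb_zero (x : GolayPt) : nb H 0 x = ∅ :=
  Finset.eq_empty_of_forall_notMem fun y hy =>
    absurd (mem_nb.1 hy).2 (Finset.card_pos.2 ⟨y, self_mem_orb x y⟩).ne'

theorem nb_fix' {p : ℕ} [Fact p.Prime] {x : GolayPt} {g : Equiv.Perm GolayPt} (hg : g ∈ Hx H x)
    (hgp : g ^ p = 1) (hF : (fixSet g).card ≤ p) (d : ℕ) :
    (nb H d x).card = (nb H d x).card / d * d ∧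
      (nb H d x ∩ fixSet g).card = (nb H d x).card / d * (d % p) := by
  obtain ⟨k, h1, h2⟩ := nb_fix hg hgp hF d
  rcases Nat.eq_zero_or_pos d with rfl | hd
  · simp [nb_zero]
  · rw [h1, Nat.mul_div_cancel k hd]
    exact ⟨rfl, h2⟩

theorem deg_const (ht : Trans H) {p : ℕ} [Fact p.Prime] {x y : GolayPt} {g : Equiv.Perm GolayPt}
    (hg : g ∈ Hx H x) (hgp : g ^ p = 1) (hF : (fixSet g).card ≤ p) (hy : y ∈ fixSet g) (d : ℕ) :
    (nb H d y ∩ fixSet g).card = (nb H d x ∩ fixSet g).card := by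
  rw [(nb_fix' hg hgp hF d).2, (nb_fix' (mem_Hx_of_fix hg hy) hgp hF d).2, nb_card_const ht d y x]

theorem sub_erase (d : ℕ) (x : GolayPt) (F : Finset GolayPt) : nb H d x ∩ F ⊆ F.erase x := fun y hy =>
  Finset.mem_erase.2 ⟨fun e => not_self_nb d x (e ▸ (Finset.mem_inter.1 hy).1), (Finset.mem_inter.1 hy).2⟩

/-- A class meeting the fixed points in all but `x` joins every two of them. -/
theorem complete_of_deg (ht : Trans H) {p : ℕ} [Fact p.Prime] {x : GolayPt} {g : Equiv.Perm GolayPt}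
    (hg : g ∈ Hx H x) (hgp : g ^ p = 1) (hF : (fixSet g).card ≤ p) {d : ℕ}
    (hd : (nb H d x ∩ fixSet g).card = (fixSet g).card - 1) {a b : GolayPt} (ha : a ∈ fixSet g)
    (hb : b ∈ fixSet g) (hab : b ≠ a) : b ∈ nb H d a := by
  have e := Finset.eq_of_subset_of_card_le (sub_erase (H := H) d a (fixSet g))
    (by rw [Finset.card_erase_of_mem ha, deg_const ht hg hgp hF ha d, hd])
  exact (Finset.mem_inter.1 (e ▸ Finset.mem_erase.2 ⟨hab, hb⟩ : b ∈ nb H d a ∩ fixSet g)).1

/-- No class is a matching on three fixed points. -/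
theorem deg_ne_one (ht : Trans H) {p : ℕ} [Fact p.Prime] {x : GolayPt} {g : Equiv.Perm GolayPt}
    (hg : g ∈ Hx H x) (hgp : g ^ p = 1) (hF : (fixSet g).card ≤ p) (h3 : (fixSet g).card = 3) (d : ℕ) :
    (nb H d x ∩ fixSet g).card ≠ 1 := by
  classical
  intro h1
  have hdeg : ∀ y ∈ fixSet g, (nb H d y ∩ fixSet g).card = 1 := fun y hy =>
    (deg_const ht hg hgp hF hy d).trans h1
  obtain ⟨a, ha⟩ := Finset.card_eq_one.1 h1
  have haS : a ∈ nb H d x ∩ fixSet g := ha ▸ Finset.mem_singleton_self a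
  rw [Finset.mem_inter] at haS
  have hxF := self_mem_fix hg
  have hax : a ≠ x := (mem_nb.1 haS.1).1
  have hac : (((fixSet g).erase x).erase a).card = 1 := by
    rw [Finset.card_erase_of_mem (Finset.mem_erase.2 ⟨hax, haS.2⟩), Finset.card_erase_of_mem hxF, h3]
  obtain ⟨b, hb⟩ := Finset.card_eq_one.1 hac
  have hbm : b ∈ ((fixSet g).erase x).erase a := hb ▸ Finset.mem_singleton_self b
  simp only [Finset.mem_erase] at hbm
  obtain ⟨w, hw⟩ := Finset.card_eq_one.1 (hdeg b hbm.2.2)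
  have hwS : w ∈ nb H d b ∩ fixSet g := hw ▸ Finset.mem_singleton_self w
  rw [Finset.mem_inter] at hwS
  have hwb : w ≠ b := (mem_nb.1 hwS.1).1
  have hbw : b ∈ nb H d w ∩ fixSet g := Finset.mem_inter.2 ⟨nb_symm ht hwS.1, hbm.2.2⟩
  by_cases hwx : w = x
  · rw [hwx, ha, Finset.mem_singleton] at hbw; exact hbm.1 hbw
  have hwa : w = a := by
    by_contra hwa
    have : w ∈ ((fixSet g).erase x).erase a := by
      simp only [Finset.mem_erase]; exact ⟨hwa, hwx, hwS.2⟩
    rw [hb, Finset.mem_singleton] at this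
    exact hwb this
  have hxa : x ∈ nb H d a ∩ fixSet g := Finset.mem_inter.2 ⟨nb_symm ht haS.1, hxF⟩
  rw [hwa] at hbw
  exact hbm.2.1 (Finset.card_le_one.1 (hdeg a haS.2).le b hbw x hxa)

/-- A class of degree two on four fixed points is a four-cycle. -/
theorem deg_two_four (ht : Trans H) {p : ℕ} [Fact p.Prime] {x : GolayPt} {g : Equiv.Perm GolayPt}
    (hg : g ∈ Hx H x) (hgp : g ^ p = 1) (hF : (fixSet g).card ≤ p) (h4 : (fixSet g).card = 4) {d : ℕ}
    (h2 : (nb H d x ∩ fixSet g).card = 2) :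
    ∃ a b c, a ≠ b ∧ c ≠ x ∧ c ≠ a ∧ c ≠ b ∧ c ∈ fixSet g ∧ c ∉ nb H d x ∧
      nb H d x ∩ fixSet g = {a, b} ∧ nb H d a ∩ fixSet g = {x, c} ∧ nb H d b ∩ fixSet g = {x, c} ∧
      b ∉ nb H d a := by
  classical
  obtain ⟨a, b, hab, he⟩ := Finset.card_eq_two.1 h2
  have ha : a ∈ nb H d x ∩ fixSet g := he ▸ Finset.mem_insert_self _ _
  have hb : b ∈ nb H d x ∩ fixSet g := he ▸ Finset.mem_insert_of_mem (Finset.mem_singleton_self _)
  rw [Finset.mem_inter] at ha hb
  have hxF := self_mem_fix hg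
  have hax : a ≠ x := (mem_nb.1 ha.1).1
  have hbx : b ≠ x := (mem_nb.1 hb.1).1
  have hc1 : ((((fixSet g).erase x).erase a).erase b).card = 1 := by
    rw [Finset.card_erase_of_mem (Finset.mem_erase.2 ⟨hab.symm, Finset.mem_erase.2 ⟨hbx, hb.2⟩⟩),
      Finset.card_erase_of_mem (Finset.mem_erase.2 ⟨hax, ha.2⟩), Finset.card_erase_of_mem hxF, h4]
  obtain ⟨c, hc⟩ := Finset.card_eq_one.1 hc1
  have hcm : c ∈ (((fixSet g).erase x).erase a).erase b := hc ▸ Finset.mem_singleton_self c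
  simp only [Finset.mem_erase] at hcm
  obtain ⟨hcb, hca, hcx, hcF⟩ := hcm
  have hF4 : ∀ y ∈ fixSet g, y = x ∨ y = a ∨ y = b ∨ y = c := by
    intro y hy
    by_cases h1 : y = x
    · exact Or.inl h1
    by_cases h2 : y = a
    · exact Or.inr (Or.inl h2)
    by_cases h3 : y = b
    · exact Or.inr (Or.inr (Or.inl h3))
    refine Or.inr (Or.inr (Or.inr (Finset.mem_singleton.1 (hc ▸ ?_))))
    simp only [Finset.mem_erase]
    exact ⟨h3, h2, h1, hy⟩
  have hcn : c ∉ nb H d x := fun h => by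
    have : c ∈ nb H d x ∩ fixSet g := Finset.mem_inter.2 ⟨h, hcF⟩
    rw [he, Finset.mem_insert, Finset.mem_singleton] at this
    exact this.elim hca hcb
  have hdeg : ∀ y ∈ fixSet g, (nb H d y ∩ fixSet g).card = 2 := fun y hy =>
    (deg_const ht hg hgp hF hy d).trans h2
  have hsub : nb H d c ∩ fixSet g ⊆ ({a, b} : Finset GolayPt) := by
    intro y hy
    rw [Finset.mem_inter] at hy
    rcases hF4 y hy.2 with rfl | rfl | rfl | rfl
    · exact absurd (nb_symm ht hy.1) hcn
    · exact Finset.mem_insert_self _ _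
    · exact Finset.mem_insert_of_mem (Finset.mem_singleton_self _)
    · exact absurd hy.1 (not_self_nb d _)
  have hce := Finset.eq_of_subset_of_card_le hsub (by rw [hdeg c hcF, Finset.card_pair hab])
  have hab' : ∀ y, y ∈ fixSet g → y ∈ nb H d x → y ∈ ({a, b} : Finset GolayPt) →
      nb H d y ∩ fixSet g = {x, c} := by
    intro y hyF hyx hy
    refine (Finset.eq_of_subset_of_card_le ?_ (by rw [hdeg y hyF, Finset.card_pair (Ne.symm hcx)])).symm
    intro z hz
    rw [Finset.mem_insert, Finset.mem_singleton] at hz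
    rcases hz with rfl | rfl
    · exact Finset.mem_inter.2 ⟨nb_symm ht hyx, hxF⟩
    · exact Finset.mem_inter.2 ⟨nb_symm ht (Finset.mem_inter.1 (hce ▸ hy)).1, hcF⟩
  have hna := hab' a ha.2 ha.1 (Finset.mem_insert_self _ _)
  refine ⟨a, b, c, hab, hcx, hca, hcb, hcF, hcn, he, hna,
    hab' b hb.2 hb.1 (Finset.mem_insert_of_mem (Finset.mem_singleton_self _)), fun h => ?_⟩
  have : b ∈ nb H d a ∩ fixSet g := Finset.mem_inter.2 ⟨h, hb.2⟩
  rw [hna, Finset.mem_insert, Finset.mem_singleton] at this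
  exact this.elim hbx (Ne.symm hcb)

/-- The octad spanned by an invariant set, when the stabiliser is too large for the alternative. -/
theorem octad_of_large {K : Subgroup (Equiv.Perm GolayPt)} (hK : K ≤ M24) {x : GolayPt}
    (hx : ∀ g ∈ K, g x = x) {E : Finset GolayPt} (hE : 6 ≤ (insert x E).card)
    (hinv : ∀ g ∈ K, ∀ y, g y ∈ E ↔ y ∈ E)
    (hbig : ¬ Nat.card K ∣ 3 * E.card.factorial) : ∃ o ∈ octads, insert x E ⊆ o := by
  by_contra hout
  obtain ⟨L, hLK, hL, hd⟩ := kernel_bound K E hinv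
  refine hbig (hd.trans (Nat.mul_dvd_mul_right (card_dvd_three (hLK.trans hK) hE hout fun g hg y hy => ?_) _))
  rcases Finset.mem_insert.1 hy with rfl | hy
  · exact hx g (hLK hg)
  · exact ((hL g).1 hg).2 y hy

end CfsgLib.Golay.IndexTools
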