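/-
The centraliser of an involution of M24 with eight fixed points.
-/
import Cfsg.Agent.Golay.IndexTools
import Cfsg.Agent.Golay.OctStruct
import Cfsg.Agent.Heisenberg.Affine
import Cfsg.Agent.PCore.Basic
import Cfsg.Agent.Golay.Invol
import Mathlib

set_option autoImplicit false

namespace CfsgLib.Golay.OctInvol

open Cfsg CfsgLib.Golay MulAction CfsgLib.Golay.Ord3
open scoped Pointwise Matrix

/-- An element fixing everything outside an octad is trivial. -/
theorem eq_one_of_compl {o : Finset GolayPt} (ho : o ∈ octads) {g : Equiv.Perm GolayPt} (hg : g ∈ M24)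
    (hfix : ∀ y, y ∉ o → g y = y) : g = 1 := by
  have hc : (oᶜ : Finset GolayPt).card = 16 := by
    rw [Finset.card_compl, card_of_mem_octads ho, card_pt]
  have hout : ¬ ∃ o' ∈ octads, oᶜ ⊆ o' := fun ⟨o', ho', h⟩ => by
    have := Finset.card_le_card h
    rw [hc, card_of_mem_octads ho'] at this
    omega
  have hz : ∀ k ∈ Subgroup.zpowers g, ∀ y ∈ oᶜ, k y = y := by
    intro k hk y hy
    obtain ⟨i, rfl⟩ := Subgroup.mem_zpowers_iff.1 hk
    exact Equiv.Perm.zpow_apply_eq_self_of_apply_eq_self (hfix y (Finset.mem_compl.1 hy)) i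
  have h3 : orderOf g ∣ 3 := by
    rw [← Nat.card_zpowers]
    exact IndexTools.card_dvd_three (Subgroup.zpowers_le.2 hg) (by omega) hout hz
  rcases (Nat.dvd_prime Nat.prime_three).1 h3 with h | h
  · exact orderOf_eq_one_iff.1 h
  exfalso
  have hs : oᶜ ⊆ fixSet g := fun y hy => by
    rw [fixSet, Finset.mem_filter]
    exact ⟨Finset.mem_univ _, hfix y (Finset.mem_compl.1 hy)⟩
  have := Finset.card_le_card hs
  have := fix_card_cases hg h
  omega

theorem card_aut_le {U : Type*} [Group U] [Finite U] (φ : U → (Fin 4 → ZMod 2)) (hb : Function.Bijective φ)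
    (hm : ∀ a b, φ (a * b) = φ a + φ b) : Nat.card (U ≃* U) ≤ 20160 := by
  let Φ : U ≃ (Fin 4 → ZMod 2) := Equiv.ofBijective φ hb
  have hΦ : ∀ v w, Φ.symm (v + w) = Φ.symm v * Φ.symm w := fun v w => hb.1 (by
    rw [hm]
    show Φ (Φ.symm _) = Φ (Φ.symm v) + Φ (Φ.symm w)
    simp)
  let A : (U ≃* U) → Matrix (Fin 4) (Fin 4) (ZMod 2) := fun ψ =>
    LinearMap.toMatrix' (AddMonoidHom.toZModLinearMap 2 (AddMonoidHom.mk' (fun v => φ (ψ (Φ.symm v)))
      (fun v w => by rw [hΦ, map_mul, hm])))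
  have hA : ∀ ψ v, A ψ *ᵥ v = φ (ψ (Φ.symm v)) := fun ψ v => by
    simp only [A, LinearMap.toMatrix'_mulVec]
    rfl
  have hmul : ∀ ψ, A ψ * A ψ.symm = 1 := fun ψ => Matrix.toLin'.injective (LinearMap.ext fun v => by
    rw [Matrix.toLin'_apply, Matrix.toLin'_apply, ← Matrix.mulVec_mulVec, hA, hA, Matrix.one_mulVec]
    rw [show Φ.symm (φ (ψ.symm (Φ.symm v))) = ψ.symm (Φ.symm v) from Φ.symm_apply_apply _,
      MulEquiv.apply_symm_apply]
    exact Φ.apply_symm_apply v)
  let g : (U ≃* U) → GL (Fin 4) (ZMod 2) := fun ψ => ⟨A ψ, A ψ.symm, hmul ψ, hmul ψ.symm⟩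
  have hg : Function.Injective g := fun a b e => MulEquiv.ext fun u => by
    have e' : A a = A b := congrArg Units.val e
    have h1 := hA a (φ u)
    rw [e', hA] at h1
    rw [show Φ.symm (φ u) = u from Φ.symm_apply_apply u] at h1
    exact (hb.1 h1).symm
  refine (Nat.card_le_card_of_injective g hg).trans ?_
  rw [Matrix.card_GL_field, Fin.prod_univ_four]
  simp [ZMod.card]

/-- The octad stabiliser as affine matrices. -/
theorem exists_matrix_rep (z : M24) (hz : orderOf z = 2)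
    (hfix : (Finset.univ.filter fun p : GolayPt => (z : Equiv.Perm GolayPt) p = p) ∈ octads) :
    ∃ (G : Subgroup M24) (zG : G) (f : G →* GL (Fin 5) (ZMod 2)), (zG : M24) = z ∧
      Function.Injective f ∧ Heisenberg.stab 3 ≤ f.range ∧ f zG = Heisenberg.z0 3 ∧
      Subgroup.centralizer ({z} : Set M24) ≤ G := by
  classical
  set o := Finset.univ.filter fun p : GolayPt => (z : Equiv.Perm GolayPt) p = p with ho'
  set G := stabilizer M24 o with hG
  have hzfix : ∀ p ∈ o, (z : Equiv.Perm GolayPt) p = p := fun p hp => (Finset.mem_filter.1 hp).2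
  have hsmul : ∀ g : M24, (∀ p ∈ o, (g : Equiv.Perm GolayPt) p = p) → g ∈ G := fun g hg => by
    show (g : Equiv.Perm GolayPt) • o = o
    refine Finset.eq_of_subset_of_card_le (fun x hx => ?_) (Finset.card_smul_finset g.1 o).ge
    obtain ⟨y, hy, rfl⟩ := Finset.mem_smul_finset.1 hx
    rw [Equiv.Perm.smul_def, hg y hy]; exact hy
  have hCG : Subgroup.centralizer ({z} : Set M24) ≤ G := by
    intro c hc
    have e : (c : Equiv.Perm GolayPt) * z = z * c :=
      congrArg Subtype.val (Subgroup.mem_centralizer_singleton_iff.1 hc)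
    show (c : Equiv.Perm GolayPt) • o = o
    refine Finset.eq_of_subset_of_card_le (fun x hx => ?_) (Finset.card_smul_finset c.1 o).ge
    obtain ⟨y, hy, rfl⟩ := Finset.mem_smul_finset.1 hx
    rw [ho', Finset.mem_filter]
    refine ⟨Finset.mem_univ _, ?_⟩
    have := Equiv.ext_iff.1 e y
    rw [Equiv.Perm.mul_apply, Equiv.Perm.mul_apply, hzfix y hy] at this
    exact this.symm
  obtain ⟨p, hp⟩ : ∃ p, p ∉ o := by
    by_contra h
    push Not at h
    have := card_of_mem_octads hfix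
    rw [Finset.eq_univ_of_forall h, Finset.card_univ, card_pt] at this
    omega
  let ι : G →* Equiv.Perm GolayPt := M24.subtype.comp G.subtype
  have hι : Function.Injective ι := M24.subtype_injective.comp G.subtype_injective
  let U : Subgroup G := (OctStruct.kernel o).comap ι
  let M : Subgroup G := (stabilizer (Equiv.Perm GolayPt) p).comap ι
  have hrange : ι.range = OctStruct.octGroup o := by
    ext g
    constructor
    · rintro ⟨a, rfl⟩; exact ⟨a.1.2, a.2⟩
    · rintro ⟨h1, h2⟩; exact ⟨⟨⟨g, h1⟩, h2⟩, rfl⟩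
  have hkle : OctStruct.kernel o ≤ ι.range := by
    intro g hg
    obtain ⟨h1, h2⟩ := OctStruct.mem_kernel.1 hg
    exact ⟨⟨⟨g, h1⟩, hsmul ⟨g, h1⟩ h2⟩, rfl⟩
  have hUc : Nat.card U = 16 := by
    rw [Nat.card_congr (U.equivMapOfInjective ι hι).toEquiv]
    show Nat.card ((OctStruct.kernel o).comap ι |>.map ι) = 16
    rw [Subgroup.map_comap_eq_self hkle, OctStruct.card_kernel hfix]
  haveI : U.Normal := ⟨fun u hu g => by
    show ι (g * u * g⁻¹) ∈ OctStruct.kernel o
    have hu' := OctStruct.mem_kernel.1 hu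
    refine OctStruct.mem_kernel.2 ⟨(g * u * g⁻¹).1.2, fun y hy => ?_⟩
    have hy' : (ι g)⁻¹ y ∈ o := by
      have h := OctStruct.mem_iff_of_fix (show (ι g) • o = o from g.2) ((ι g)⁻¹ y)
      rw [Equiv.Perm.coe_inv, Equiv.apply_symm_apply] at h
      exact h.1 hy
    rw [map_mul, map_mul, map_inv, Equiv.Perm.mul_apply, Equiv.Perm.mul_apply, hu'.2 _ hy']
    exact Equiv.apply_symm_apply _ y⟩
  have hU2 : Cfsg.IsElementaryAbelian 2 U := by
    have hsq : ∀ u : U, u * u = 1 := fun u => Subtype.ext (hι (by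
      have := OctStruct.kernel_sq hfix u.2
      simpa using this))
    refine ⟨⟨⟨fun a b => ?_⟩⟩, fun a ha => ?_⟩
    · have h : ∀ x : U, x⁻¹ = x := fun x => inv_eq_of_mul_eq_one_right (hsq x)
      rw [← h (a * b), mul_inv_rev, h a, h b]
    · rw [pow_two]; exact congrArg Subtype.val (hsq ⟨a, ha⟩)
  have hUM : U ⊓ M = ⊥ := (Subgroup.eq_bot_iff_forall _).2 fun g hg =>
    hι (by rw [map_one]; exact OctStruct.eq_one_of_fix hfix hg.1 hp hg.2)
  obtain ⟨-, -, ⟨eA⟩⟩ := OctStruct.complement hfix hp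
  have hMc : Nat.card M = 20160 := by
    rw [Nat.card_congr (M.equivMapOfInjective ι hι).toEquiv]
    show Nat.card ((stabilizer (Equiv.Perm GolayPt) p).comap ι |>.map ι) = 20160
    rw [Subgroup.map_comap_eq, hrange, Nat.card_congr eA.toEquiv, nat_card_alternatingGroup]
    simp [Nat.factorial]
  have hGc : Nat.card G = 322560 := by
    rw [Nat.card_congr (MonoidHom.ofInjective hι).toEquiv, hrange, OctStruct.card_octGroup hfix]
  have hUM' : U ⊔ M = ⊤ :=
    (Subgroup.isComplement'_of_disjoint_and_mul_eq_univ (disjoint_iff.2 hUM) (by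
      refine Set.eq_univ_of_forall fun g => ?_
      have hgp : ι g p ∉ o := fun h => hp ((OctStruct.mem_iff_of_fix (show (ι g) • o = o from g.2) p).1 h)
      obtain ⟨t, ht, e⟩ := OctStruct.exists_kernel_map hfix hp hgp
      obtain ⟨tG, rfl⟩ := hkle ht
      refine Set.mem_mul.2 ⟨tG, ht, tG⁻¹ * g, ?_, by group⟩
      show ι (tG⁻¹ * g) p = p
      rw [map_mul, map_inv, Equiv.Perm.mul_apply, Equiv.Perm.inv_eq_iff_eq, e])).sup_eq_top
  have hfaith : ∀ m ∈ M, (∀ u ∈ U, m * u * m⁻¹ = u) → m = 1 := by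
    intro m hm hcomm
    refine hι ?_
    rw [map_one]
    refine eq_one_of_compl hfix m.1.2 fun y hy => ?_
    obtain ⟨t, ht, e⟩ := OctStruct.exists_kernel_map hfix hp hy
    obtain ⟨tG, rfl⟩ := hkle ht
    have h1 := congrArg ι (mul_inv_eq_iff_eq_mul.1 (hcomm tG ht))
    rw [map_mul, map_mul] at h1
    have h2 := Equiv.ext_iff.1 h1 p
    rw [Equiv.Perm.mul_apply, Equiv.Perm.mul_apply, e, show ι m p = p from hm, e] at h2
    exact h2
  have hfull : ∀ φ : ↥U ≃* ↥U, ∃ m ∈ M, ∀ u : ↥U, ((φ u : ↥U) : G) = m * u * m⁻¹ := by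
    let c : M → (↥U ≃* ↥U) := fun m => MulAut.conjNormal (H := U) (m : G)
    have hc : Function.Injective c := fun a b e => by
      have : b.1⁻¹ * a.1 = 1 := hfaith _ (mul_mem (inv_mem b.2) a.2) fun u hu => by
        have h1 := congrArg Subtype.val (MulEquiv.congr_fun e ⟨u, hu⟩)
        simp only [c, MulAut.conjNormal_apply] at h1
        calc b.1⁻¹ * a.1 * u * (b.1⁻¹ * a.1)⁻¹ = b.1⁻¹ * (a.1 * u * a.1⁻¹) * b.1 := by group
          _ = u := by rw [h1]; group
      exact Subtype.ext (inv_mul_eq_one.1 this).symm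
    have hne : ∃ u : U, u ≠ 1 := by
      have : Nontrivial U := Finite.one_lt_card_iff_nontrivial.1 (by omega)
      exact exists_ne 1
    obtain ⟨u0, hu0⟩ := hne
    obtain ⟨φ, hb, hm, -⟩ := Cfsg.Agent.S5423.exists_coord (n := 3) hU2 (by rw [hUc]; norm_num) hu0
    haveI : Finite (↥U ≃* ↥U) := Finite.of_injective (fun e => (e : ↥U → ↥U)) DFunLike.coe_injective
    have hle := Nat.card_le_card_of_injective c hc
    have hsurj : Function.Surjective c :=
      (hc.bijective_of_nat_card_le (by rw [hMc]; exact card_aut_le φ hb hm)).2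
    intro ψ
    obtain ⟨m, rfl⟩ := hsurj ψ
    exact ⟨m.1, m.2, fun u => MulAut.conjNormal_apply _ _⟩
  have hzG : z ∈ G := hsmul z hzfix
  have hzU : (⟨z, hzG⟩ : G) ∈ U := OctStruct.mem_kernel.2 ⟨z.2, hzfix⟩
  have hz1 : (⟨z, hzG⟩ : G) ≠ 1 := fun h => by
    rw [show z = 1 from congrArg Subtype.val h, orderOf_one] at hz
    omega
  obtain ⟨f, hf, hr, hfz⟩ := Heisenberg.Affine.exists_embedding 3 U M hU2 (by rw [hUc]; norm_num)
    hUM hUM' hfaith hfull ⟨z, hzG⟩ hzU hz1
  exact ⟨G, ⟨z, hzG⟩, f, rfl, hf, hr, hfz, hCG⟩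

/-- Another conjugate of the involution lies in the largest normal 2-subgroup of its centraliser. -/
theorem exists_conj_in_core (z : M24) (hz : orderOf z = 2)
    (hfix : (Finset.univ.filter fun p : GolayPt => (z : Equiv.Perm GolayPt) p = p) ∈ octads) :
    ∃ g : M24, g * z * g⁻¹ ∈ (Cfsg.pCore 2 ↥(Subgroup.centralizer ({z} : Set M24))).map
        (Subgroup.centralizer ({z} : Set M24)).subtype ∧ g * z * g⁻¹ ∉ Subgroup.zpowers z := by
  classical
  haveI : Fact (Nat.Prime 2) := ⟨Nat.prime_two⟩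
  set o := Finset.univ.filter fun p : GolayPt => (z : Equiv.Perm GolayPt) p = p with ho'
  set C := Subgroup.centralizer ({z} : Set M24) with hC
  let N : Subgroup M24 := (OctStruct.kernel o).comap M24.subtype
  have hzN : z ∈ N := OctStruct.mem_kernel.2 ⟨z.2, fun p hp => (Finset.mem_filter.1 hp).2⟩
  have hsq : ∀ u ∈ N, u * u = 1 := fun u hu => Subtype.ext (OctStruct.kernel_sq hfix hu)
  have hNC : N ≤ C := fun u hu => by
    rw [hC, Subgroup.mem_centralizer_singleton_iff]
    have h : ∀ x ∈ N, x⁻¹ = x := fun x hx => inv_eq_of_mul_eq_one_right (hsq x hx)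
    rw [← h _ (mul_mem hu hzN), mul_inv_rev, h u hu, h z hzN]
  -- an element of the kernel other than the involution
  have hNc : Nat.card N = 16 := by
    rw [Nat.card_congr (N.equivMapOfInjective _ M24.subtype_injective).toEquiv]
    show Nat.card ((OctStruct.kernel o).comap M24.subtype |>.map M24.subtype) = 16
    rw [Subgroup.map_comap_eq_self (fun g hg => ⟨⟨g, (OctStruct.mem_kernel.1 hg).1⟩, rfl⟩),
      OctStruct.card_kernel hfix]
  obtain ⟨u, huN, hu⟩ : ∃ u ∈ N, u ∉ Subgroup.zpowers z := by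
    by_contra h
    push Not at h
    have := Subgroup.card_le_of_le (show N ≤ Subgroup.zpowers z from h)
    rw [Nat.card_zpowers, hz, hNc] at this
    omega
  have hu1 : u ≠ 1 := fun h => hu (h ▸ one_mem _)
  obtain ⟨k1, hk1, b1, e1⟩ := Invol.invol_conj z.2 (congrArg Subtype.val (hsq z hzN))
    (fun h => by rw [show z = 1 from Subtype.ext h, orderOf_one] at hz; omega)
  obtain ⟨k2, hk2, b2, e2⟩ := Invol.invol_conj u.2 (congrArg Subtype.val (hsq u huN))
    (fun h => hu1 (Subtype.ext h))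
  have htrue : ∀ (w : Equiv.Perm GolayPt) (k : Equiv.Perm GolayPt) (b : Bool),
      w = k * permOf (Invol.repOf b) * k⁻¹ → (∃ p, w p = p) → b = true := by
    rintro w k b rfl ⟨p, hp⟩
    cases b with
    | true => rfl
    | false =>
      exfalso
      simp only [Equiv.Perm.mul_apply] at hp
      exact Invol.rep0_fixed (k⁻¹ p) (by rw [Equiv.Perm.eq_inv_iff_eq, hp])
  obtain ⟨p, hp⟩ := Finset.card_pos.1 (show 0 < o.card by rw [card_of_mem_octads hfix]; norm_num)
  have hb1 := htrue _ _ _ e1 ⟨p, (Finset.mem_filter.1 hp).2⟩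
  have hb2 := htrue _ _ _ e2 ⟨p, (OctStruct.mem_kernel.1 huN).2 p hp⟩
  subst hb1; subst hb2
  have hconj : (⟨k2 * k1⁻¹, mul_mem hk2 (inv_mem hk1)⟩ : M24) * z * (⟨k2 * k1⁻¹, mul_mem hk2 (inv_mem hk1)⟩ : M24)⁻¹ = u := by
    refine Subtype.ext ?_
    show k2 * k1⁻¹ * z.1 * (k2 * k1⁻¹)⁻¹ = u.1
    rw [e1, e2]
    group
  refine ⟨⟨k2 * k1⁻¹, mul_mem hk2 (inv_mem hk1)⟩, ?_, by rw [hconj]; exact hu⟩
  rw [hconj]
  refine ⟨⟨u, hNC huN⟩, PCore.le_pCore (N := N.subgroupOf C) ((Subgroup.normal_subgroupOf_iff hNC).2 fun x c hx hc => ?_) ?_ huN, rfl⟩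
  · have e : (c : Equiv.Perm GolayPt) * z = z * c :=
      congrArg Subtype.val (Subgroup.mem_centralizer_singleton_iff.1 hc)
    refine OctStruct.mem_kernel.2 ⟨(c * x * c⁻¹).2, fun y hy => ?_⟩
    show (c.1 * x.1 * c.1⁻¹) y = y
    have hy' : c.1⁻¹ y ∈ o := by
      rw [ho', Finset.mem_filter] at hy ⊢
      refine ⟨Finset.mem_univ _, c.1.injective ?_⟩
      have h := Equiv.ext_iff.1 e (c.1⁻¹ y)
      rw [Equiv.Perm.mul_apply, Equiv.Perm.mul_apply] at h
      rw [h]
      simp [hy.2]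
    rw [Equiv.Perm.mul_apply, Equiv.Perm.mul_apply,
      show x.1 (c.1⁻¹ y) = c.1⁻¹ y from (OctStruct.mem_kernel.1 hx).2 _ hy']
    simp
  · exact IsPGroup.of_card (n := 4) (by
      rw [Nat.card_congr (Subgroup.subgroupOfEquivOfLe hNC).toEquiv, hNc]; norm_num)

end CfsgLib.Golay.OctInvol
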