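/-
A labelling of the projective plane of order four inside the twenty-four points.
-/
import Mathlib

set_option autoImplicit false
set_option maxRecDepth 20000

namespace CfsgLib.Golay.PlaneData

/-- Normalised coordinate vectors of the 21 points, over the four-element code alphabet. -/
def vecs : List (List ℕ) := [[0, 0, 1], [0, 1, 0], [0, 1, 1], [0, 1, 2], [0, 1, 3], [1, 0, 0], [1, 0, 1], [1, 0, 2], [1, 0, 3], [1, 1, 0], [1, 1, 1], [1, 1, 2], [1, 1, 3], [1, 2, 0], [1, 2, 1], [1, 2, 2], [1, 2, 3], [1, 3, 0], [1, 3, 1], [1, 3, 2], [1, 3, 3]]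

/-- The positions of the 21 points. -/
def lab : List ℕ := [1, 3, 5, 14, 17, 4, 13, 16, 22, 8, 11, 12, 18, 21, 7, 6, 19, 9, 15, 20, 10]

/-- Transvections: row, column, coefficient, table, and images with multipliers. -/
def trans : List (ℕ × ℕ × ℕ × List ℕ × List (ℕ × ℕ)) := [
  (0, 1, 1, [0, 1, 2, 8, 4, 11, 10, 20, 3, 21, 6, 5, 14, 13, 12, 19, 16, 18, 17, 15, 7, 9, 22, 23], [(0, 1), (9, 1), (10, 1), (11, 1), (12, 1), (5, 1), (6, 1), (7, 1), (8, 1), (1, 1), (2, 1), (3, 1), (4, 1), (17, 3), (19, 3), (20, 3), (18, 3), (13, 2), (16, 2), (14, 2), (15, 2)]),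
  (0, 1, 2, [0, 1, 2, 9, 4, 10, 11, 18, 21, 3, 5, 6, 19, 13, 15, 14, 16, 20, 7, 12, 17, 8, 22, 23], [(0, 1), (17, 2), (20, 2), (18, 2), (19, 2), (5, 1), (6, 1), (7, 1), (8, 1), (13, 3), (15, 3), (16, 3), (14, 3), (9, 2), (12, 2), (10, 2), (11, 2), (1, 3), (3, 3), (4, 3), (2, 3)]),
  (0, 1, 3, [0, 1, 2, 21, 4, 6, 5, 17, 9, 8, 11, 10, 15, 13, 19, 12, 16, 7, 20, 14, 18, 3, 22, 23], [(0, 1), (13, 3), (15, 3), (16, 3), (14, 3), (5, 1), (6, 1), (7, 1), (8, 1), (17, 2), (20, 2), (18, 2), (19, 2), (1, 2), (4, 2), (2, 2), (3, 2), (9, 3), (11, 3), (12, 3), (10, 3)]),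
  (0, 2, 1, [0, 13, 2, 3, 4, 11, 10, 17, 8, 9, 6, 5, 19, 1, 15, 14, 22, 7, 20, 12, 18, 21, 16, 23], [(6, 1), (1, 1), (10, 1), (18, 2), (14, 3), (5, 1), (0, 1), (8, 3), (7, 2), (9, 1), (2, 1), (16, 3), (19, 2), (13, 1), (4, 2), (20, 3), (11, 2), (17, 1), (3, 3), (12, 3), (15, 2)]),
  (0, 2, 2, [0, 22, 2, 3, 4, 10, 11, 20, 8, 9, 5, 6, 15, 16, 19, 12, 13, 18, 17, 14, 7, 21, 1, 23], [(8, 2), (1, 1), (20, 2), (16, 3), (12, 1), (5, 1), (7, 3), (6, 2), (0, 3), (9, 1), (15, 3), (18, 2), (4, 1), (13, 1), (19, 3), (10, 2), (3, 2), (17, 1), (11, 3), (14, 2), (2, 3)]),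
  (0, 2, 3, [0, 16, 2, 3, 4, 6, 5, 18, 8, 9, 11, 10, 14, 22, 12, 19, 1, 20, 7, 15, 17, 21, 13, 23], [(7, 3), (1, 1), (15, 3), (11, 1), (19, 2), (5, 1), (8, 2), (0, 2), (6, 3), (9, 1), (20, 2), (3, 1), (14, 3), (13, 1), (12, 2), (2, 2), (18, 3), (17, 1), (16, 2), (4, 3), (10, 3)]),
  (1, 0, 1, [0, 1, 2, 3, 8, 5, 20, 15, 4, 21, 19, 13, 16, 11, 14, 7, 12, 17, 22, 10, 6, 9, 18, 23], [(0, 1), (1, 1), (2, 1), (3, 1), (4, 1), (9, 1), (10, 1), (11, 1), (12, 1), (5, 1), (6, 1), (7, 1), (8, 1), (17, 1), (18, 1), (19, 1), (20, 1), (13, 1), (14, 1), (15, 1), (16, 1)]),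
  (1, 0, 2, [0, 1, 2, 3, 21, 5, 16, 13, 9, 8, 18, 15, 20, 7, 14, 11, 6, 17, 10, 22, 12, 4, 19, 23], [(0, 1), (1, 1), (2, 1), (3, 1), (4, 1), (13, 1), (14, 1), (15, 1), (16, 1), (17, 1), (18, 1), (19, 1), (20, 1), (5, 1), (6, 1), (7, 1), (8, 1), (9, 1), (10, 1), (11, 1), (12, 1)]),
  (1, 0, 3, [0, 1, 2, 3, 9, 5, 12, 11, 21, 4, 22, 7, 6, 15, 14, 13, 20, 17, 19, 18, 16, 8, 10, 23], [(0, 1), (1, 1), (2, 1), (3, 1), (4, 1), (17, 1), (18, 1), (19, 1), (20, 1), (13, 1), (14, 1), (15, 1), (16, 1), (9, 1), (10, 1), (11, 1), (12, 1), (5, 1), (6, 1), (7, 1), (8, 1)]),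
  (1, 2, 1, [0, 5, 2, 3, 4, 1, 16, 15, 8, 9, 22, 13, 20, 11, 17, 7, 6, 14, 19, 18, 12, 21, 10, 23], [(2, 1), (1, 1), (0, 1), (4, 3), (3, 2), (5, 1), (10, 1), (15, 1), (20, 1), (9, 1), (6, 1), (19, 1), (16, 1), (13, 1), (18, 1), (7, 1), (12, 1), (17, 1), (14, 1), (11, 1), (8, 1)]),
  (1, 2, 2, [0, 17, 2, 3, 4, 14, 12, 13, 8, 9, 19, 15, 6, 7, 5, 11, 20, 1, 22, 10, 16, 21, 18, 23], [(4, 2), (1, 1), (3, 3), (2, 2), (0, 3), (5, 1), (14, 1), (19, 1), (12, 1), (9, 1), (18, 1), (15, 1), (8, 1), (13, 1), (6, 1), (11, 1), (20, 1), (17, 1), (10, 1), (7, 1), (16, 1)]),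
  (1, 2, 3, [0, 14, 2, 3, 4, 17, 20, 11, 8, 9, 18, 7, 16, 15, 1, 13, 12, 5, 10, 22, 6, 21, 19, 23], [(3, 3), (1, 1), (4, 2), (0, 2), (2, 3), (5, 1), (18, 1), (11, 1), (16, 1), (9, 1), (14, 1), (7, 1), (20, 1), (13, 1), (10, 1), (19, 1), (8, 1), (17, 1), (6, 1), (15, 1), (12, 1)]),
  (2, 0, 1, [0, 1, 2, 3, 13, 5, 19, 21, 11, 15, 20, 8, 18, 4, 14, 9, 22, 17, 12, 6, 10, 7, 16, 23], [(0, 1), (1, 1), (2, 1), (3, 1), (4, 1), (6, 1), (5, 1), (8, 1), (7, 1), (10, 1), (9, 1), (12, 1), (11, 1), (14, 1), (13, 1), (16, 1), (15, 1), (18, 1), (17, 1), (20, 1), (19, 1)]),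
  (2, 0, 2, [0, 1, 2, 3, 16, 5, 21, 19, 12, 20, 15, 18, 8, 22, 14, 10, 4, 17, 11, 7, 9, 6, 13, 23], [(0, 1), (1, 1), (2, 1), (3, 1), (4, 1), (7, 1), (8, 1), (5, 1), (6, 1), (11, 1), (12, 1), (9, 1), (10, 1), (15, 1), (16, 1), (13, 1), (14, 1), (19, 1), (20, 1), (17, 1), (18, 1)]),
  (2, 0, 3, [0, 1, 2, 3, 22, 5, 7, 6, 18, 10, 9, 12, 11, 16, 14, 20, 13, 17, 8, 21, 15, 19, 4, 23], [(0, 1), (1, 1), (2, 1), (3, 1), (4, 1), (8, 1), (7, 1), (6, 1), (5, 1), (12, 1), (11, 1), (10, 1), (9, 1), (16, 1), (15, 1), (14, 1), (13, 1), (20, 1), (19, 1), (18, 1), (17, 1)]),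
  (2, 1, 1, [0, 1, 2, 5, 4, 3, 21, 19, 11, 10, 9, 8, 18, 13, 17, 20, 16, 14, 12, 7, 15, 6, 22, 23], [(0, 1), (2, 1), (1, 1), (4, 1), (3, 1), (5, 1), (6, 1), (7, 1), (8, 1), (10, 1), (9, 1), (12, 1), (11, 1), (15, 1), (16, 1), (13, 1), (14, 1), (20, 1), (19, 1), (18, 1), (17, 1)]),
  (2, 1, 2, [0, 1, 2, 14, 4, 17, 7, 6, 12, 15, 20, 18, 8, 13, 3, 9, 16, 5, 11, 21, 10, 19, 22, 23], [(0, 1), (3, 1), (4, 1), (1, 1), (2, 1), (5, 1), (6, 1), (7, 1), (8, 1), (11, 1), (12, 1), (9, 1), (10, 1), (16, 1), (15, 1), (14, 1), (13, 1), (18, 1), (17, 1), (20, 1), (19, 1)]),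
  (2, 1, 3, [0, 1, 2, 17, 4, 14, 19, 21, 18, 20, 15, 12, 11, 13, 5, 10, 16, 3, 8, 6, 9, 7, 22, 23], [(0, 1), (4, 1), (3, 1), (2, 1), (1, 1), (5, 1), (6, 1), (7, 1), (8, 1), (12, 1), (11, 1), (10, 1), (9, 1), (14, 1), (13, 1), (16, 1), (15, 1), (19, 1), (20, 1), (17, 1), (18, 1)])]

end CfsgLib.Golay.PlaneData
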