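/-
Uniqueness of the binary code of length 24 with dimension 12 and minimum weight 8.
-/
import Cfsg.Agent.Golay.HexForm
import Cfsg.Agent.AbsGolay.Basic

set_option autoImplicit false

namespace CfsgLib.Golay.Unique

open Cfsg CfsgLib.AbsGolay
open scoped Pointwise symmDiff

variable {C : Submodule (ZMod 2) V}

theorem exists_sextet (h : IsGolay C) :
    ∃ T : Fin 6 → Finset (Fin 24), (∀ a, (T a).card = 4) ∧
      (∀ a b, a ≠ b → Disjoint (T a) (T b) ∧ wordS (T a ∪ T b) ∈ C) := by
  classical
  obtain ⟨t, -, ht⟩ := Finset.exists_subset_card_eq (s := (Finset.univ : Finset (Fin 24))) (n := 4)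
    (by simp)
  let F := Finset.univ.filter fun u : Finset (Fin 24) => u.card ≤ 4 ∧ coset C u = coset C t
  have hF : F.card = 6 := by
    rw [← h.tight.2 t ht, ← Set.ncard_coe_finset]
    refine congrArg Set.ncard (Set.ext fun u => ?_)
    simp [F]
  have card4 : ∀ u ∈ F, u.card = 4 := by
    intro u hu
    by_cases hut : u = t
    · rw [hut, ht]
    · simp only [F, Finset.mem_filter] at hu
      exact (h.small_pair hu.2.1 ht.le hut (coset_eq_iff.1 hu.2.2)).1
  let g := F.equivFinOfCardEq hF
  refine ⟨fun a => (g.symm a).1, fun a => card4 _ (g.symm a).2, fun a b hab => ?_⟩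
  have hne : (g.symm a).1 ≠ (g.symm b).1 := fun e => hab (g.symm.injective (Subtype.ext e))
  have hu := (g.symm a).2
  have hv := (g.symm b).2
  simp only [F, Finset.mem_filter] at hu hv
  exact (h.small_pair hu.2.1 hv.2.1 hne (coset_eq_iff.1 (hu.2.2.trans hv.2.2.symm))).2.2

theorem pairs_spec : ∀ t ∈ Hex.pairs, t < 16777216 ∧ ∃ a : Fin 6, ∃ b : Fin 6, a ≠ b ∧
    ∀ a' : Fin 6, ∀ b' : Fin 4, t.testBit (finProdFinEquiv (a', b')).val = decide (a' = a ∨ a' = b) := by
  decide +kernel

/-- Such a code is equivalent to the code built from the squares. -/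
theorem exists_equiv_code (h : IsGolay C) :
    ∃ e : Fin 24 ≃ GolayPt, ∀ w : GolayPt → ZMod 2, w ∈ golayCode ↔ (fun i => w (e i)) ∈ C := by
  classical
  obtain ⟨T, hT4, hTd⟩ := exists_sextet h
  let f : Fin 6 × Fin 4 → Fin 24 := fun x => ((T x.1).orderIsoOfFin (hT4 x.1) x.2).1
  have hfT : ∀ a b, f (a, b) ∈ T a := fun a b => ((T a).orderIsoOfFin (hT4 a) b).2
  have hfi : Function.Injective f := by
    rintro ⟨a, b⟩ ⟨a', b'⟩ e
    have hab : a = a' := by
      by_contra hne
      have := hfT a b
      rw [e] at this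
      exact Finset.disjoint_left.1 (hTd a a' hne).1 this (hfT a' b')
    subst hab
    exact Prod.ext rfl ((T a).orderIsoOfFin (hT4 a) |>.injective (Subtype.ext e))
  have hfb : Function.Bijective f :=
    ((Fintype.bijective_iff_injective_and_card f).2 ⟨hfi, by simp⟩)
  let e0 : GolayPt ≃ Fin 24 :=
    (ptEquiv.trans (finProdFinEquiv (m := 6) (n := 4)).symm).trans (Equiv.ofBijective f hfb)
  have he0 : ∀ a b, e0 (pt (finProdFinEquiv (a, b))) = f (a, b) := fun a b => by
    simp [e0, ptEquiv, idx_pt]
  let S : ℕ → Prop := fun m => m < 2 ^ 24 ∧ wordS ((toSet m).map e0.toEmbedding) ∈ C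
  have hX : ∀ a b, a < 2 ^ 24 → b < 2 ^ 24 →
      (toSet (a ^^^ b)).map e0.toEmbedding = (toSet a).map e0.toEmbedding ∆ (toSet b).map e0.toEmbedding := by
    intro a b _ _
    ext i
    simp [Finset.mem_symmDiff, Finset.mem_map_equiv, mem_toSet, Nat.testBit_xor]
    cases a.testBit (idx (e0.symm i)).val <;> cases b.testBit (idx (e0.symm i)).val <;> simp
  have hG : Hex.Gol S := by
    refine ⟨fun m hm => hm.1, fun a b ha hb => ⟨Nat.xor_lt_two_pow ha.1 hb.1, ?_⟩, fun m hm => ?_,
      fun m hm => ?_, fun a b ha hb => ?_, ?_, fun t ht => ?_⟩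
    · rw [hX a b ha.1 hb.1, ← wordS_add]; exact add_mem ha.2 hb.2
    · rcases h.empty_or_big hm.2 with e | e
      · left
        rw [← mask_toSet hm.1, show toSet m = ∅ from Finset.map_eq_empty.1 e, mask_empty]
      · right
        rwa [Finset.card_map, card_toSet hm.1] at e
    · have := (h.span_eight _ hm.2).1
      rw [Finset.card_map, card_toSet hm.1] at this
      omega
    · have := h.inter_even ha.2 hb.2
      rw [← Finset.map_inter, Finset.card_map, ← popc_mask, mask_inter, mask_toSet ha.1,
        mask_toSet hb.1] at this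
      exact Nat.even_iff.1 this
    · have himg : {m | S m} = (fun s : Finset (Fin 24) => mask (s.map e0.symm.toEmbedding)) ''
          {s | wordS s ∈ C} := by
        ext m
        constructor
        · intro hm
          refine ⟨(toSet m).map e0.toEmbedding, hm.2, ?_⟩
          show mask (((toSet m).map e0.toEmbedding).map e0.symm.toEmbedding) = m
          rw [show ((toSet m).map e0.toEmbedding).map e0.symm.toEmbedding = toSet m by ext; simp,
            mask_toSet hm.1]
        · rintro ⟨s, hs, rfl⟩
          refine ⟨mask_lt _, ?_⟩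
          rw [toSet_mask, show (s.map e0.symm.toEmbedding).map e0.toEmbedding = s by ext; simp]
          exact hs
      rw [himg, Set.ncard_image_of_injective {s | wordS s ∈ C}
        (f := fun s : Finset (Fin 24) => mask (s.map e0.symm.toEmbedding))
        (mask_injective.comp (Finset.map_injective _))]
      have hc : Nat.card C = 4096 := by
        rw [Module.natCard_eq_pow_finrank (K := ZMod 2), h.dim]; simp
      rw [← hc, ← Nat.card_coe_set_eq]
      exact Nat.card_congr
        { toFun := fun s => ⟨wordS s.1, s.2⟩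
          invFun := fun w => ⟨support₂ w.1, by rw [Set.mem_ofPred_eq, wordS_supp]; exact w.2⟩
          left_inv := fun s => Subtype.ext (supp_wordS s.1)
          right_inv := fun w => Subtype.ext (wordS_supp w.1) }
    · obtain ⟨hlt, a, b, hab, hbit⟩ := pairs_spec t ht
      refine ⟨hlt, ?_⟩
      convert (hTd a b hab).2 using 2
      ext i
      obtain ⟨⟨a', b'⟩, rfl⟩ := hfb.2 i
      rw [← he0, Finset.mem_map_equiv, Equiv.symm_apply_apply, mem_toSet, idx_pt, hbit, he0,
        decide_eq_true_eq, Finset.mem_union]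
      constructor
      · rintro (rfl | rfl)
        · exact Or.inl (hfT _ _)
        · exact Or.inr (hfT _ _)
      · have hu : ∀ c, f (a', b') ∈ T c → a' = c := fun c hc => by
          by_contra hne
          exact Finset.disjoint_left.1 (hTd a' c hne).1 (hfT a' b') hc
        exact Or.imp (hu a) (hu b)
  obtain ⟨π, hπ⟩ := Hex.normal_form hG
  refine ⟨e0.symm.trans π.symm, fun w => ?_⟩
  rw [mem_code_iff, wmask, hπ]
  have hsupp : (toSet (mask (π • support₂ w))).map e0.toEmbedding =
      support₂ (fun i => w ((e0.symm.trans π.symm) i)) := by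
    ext i
    rw [toSet_mask, Finset.mem_map_equiv, ← Finset.inv_smul_mem_iff]
    simp only [support₂, Finset.mem_filter, Finset.mem_univ, true_and, Equiv.Perm.smul_def,
      Equiv.Perm.coe_inv, Equiv.trans_apply]
    exact ⟨fun hh => Finset.mem_filter.2 ⟨Finset.mem_univ _, hh⟩, fun hh => (Finset.mem_filter.1 hh).2⟩
  show mask (π • support₂ w) < 2 ^ 24 ∧ _ ↔ _
  rw [and_iff_right (mask_lt _), hsupp, wordS_supp]

end CfsgLib.Golay.Unique
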